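import Mathlib
import Cfsg.Prelude.Def_FusionSystem
import Cfsg.Agent.Lib.Helper84.FusionAlperin
import Cfsg.Agent.Lib.Helper88.FusBasic

set_option autoImplicit false

namespace Cfsg.Agent.Lib.Helper84

open Cfsg Cfsg.FusionSystem

variable {Ω : Type*} [Group Ω] {S : Subgroup Ω}

theorem mem_normalizer_of_finite_of_conj_mem {H : Subgroup Ω} [Finite H] {g : Ω}
    (h1 : ∀ x ∈ H, g * x * g⁻¹ ∈ H) : g ∈ Subgroup.normalizer (H : Set Ω) := by
  rw [Subgroup.mem_normalizer_iff]
  intro x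
  refine ⟨h1 x, fun hx => ?_⟩
  have hinj : Function.Injective (fun y : H => (⟨g * y * g⁻¹, h1 y y.2⟩ : H)) := by
    intro a b hab
    have : g * (a : Ω) * g⁻¹ = g * (b : Ω) * g⁻¹ := congrArg Subtype.val hab
    exact Subtype.ext (mul_left_cancel (mul_right_cancel this))
  obtain ⟨y, hy⟩ := (Finite.injective_iff_surjective.mp hinj) ⟨g * x * g⁻¹, hx⟩
  have : g * (y : Ω) * g⁻¹ = g * x * g⁻¹ := congrArg Subtype.val hy
  have hxy : (y : Ω) = x := mul_left_cancel (mul_right_cancel this)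
  rw [← hxy]
  exact y.2

/-- powers of an automorphism of `N` restricting to `α` on `Q` restrict to powers of `α`. -/
theorem pow_restrict {N Q : Subgroup Ω} (hQN : Q ≤ N) (e : MulAut N) (α : MulAut Q)
    (h : ∀ x : Q, ((e (Subgroup.inclusion hQN x) : N) : Ω) = ((α x : Q) : Ω)) (k : ℕ) :
    ∀ x : Q, (((e ^ k) (Subgroup.inclusion hQN x) : N) : Ω) = (((α ^ k) x : Q) : Ω) := by
  induction k with
  | zero => intro x; rfl
  | succ k ih =>
    intro x
    rw [pow_succ, pow_succ, MulAut.mul_apply, MulAut.mul_apply]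
    have : e (Subgroup.inclusion hQN x) = Subgroup.inclusion hQN (α x) := Subtype.ext (h x)
    rw [this, ih]

/-- Roberts–Shpectorov: if `S` is fully automized and fully normalized subgroups are receptive,
then fully normalized subgroups are fully automized. -/
theorem fullyAutomized_of_fn_receptive [Finite S] (p : ℕ) [Fact p.Prime] (hS : IsPGroup p S)
    (F : FusionSystem S) (h1 : F.IsFullyAutomized p S)
    (h2 : ∀ P : Subgroup Ω, F.IsFullyNormalized P → F.IsReceptive P) :
    ∀ n : ℕ, ∀ Q : Subgroup Ω, F.IsFullyNormalized Q → Nat.card S - Nat.card Q = n →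
      F.IsFullyAutomized p Q := by
  have hp : p.Prime := Fact.out
  intro n
  induction n using Nat.strong_induction_on with
  | _ n ih =>
    intro Q hQn hn
    have hQS : Q ≤ S := hQn.1
    by_cases hQe : Q = S
    · rw [hQe]; exact h1
    have hrec := h2 Q hQn
    have hfinQ : Finite Q := finite_of_le hQS
    have hfinA : Finite (F.autGroup Q) := finite_autGroup F hQS
    have hTp : IsPGroup p ((autInducedBy S Q).subgroupOf (F.autGroup Q)) :=
      (autInducedBy_isPGroup hS Q).comap_subtype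
    obtain ⟨R, hR⟩ := hTp.exists_le_sylow
    by_cases hRT : (R : Subgroup (F.autGroup Q)) = (autInducedBy S Q).subgroupOf (F.autGroup Q)
    · exact ⟨hQS, R, hRT⟩
    exfalso
    obtain ⟨a, ha, haT⟩ := exists_mem_normalizerIn_not_mem (S := (R : Subgroup (F.autGroup Q)))
      R.2 hR (fun h => hRT h.symm)
    have haR : a ∈ (R : Subgroup (F.autGroup Q)) := (mem_normalizerIn.1 ha).1
    have haN := (mem_normalizerIn.1 ha).2
    have hαF : Q.subtype.comp (a : MulAut Q).toMonoidHom ∈ F.Hom Q :=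
      (mem_autGroup_iff F hQS _).1 a.2
    have hNext : normalizerIn S Q ≤ extender S Q (Q.subtype.comp (a : MulAut Q).toMonoidHom) := by
      intro g hg
      rw [mem_extender_iff]
      have hcg : conjN S Q ⟨g, hg⟩ ∈ autInducedBy S Q := by
        rw [autInducedBy_eq_range]; exact ⟨_, rfl⟩
      have hcgA : conjN S Q ⟨g, hg⟩ ∈ F.autGroup Q := autInducedBy_le_autGroup F hQS hcg
      have h3 := (haN ⟨conjN S Q ⟨g, hg⟩, hcgA⟩).1 (Subgroup.mem_subgroupOf.2 hcg)
      rw [Subgroup.mem_subgroupOf, mem_autInducedBy_iff] at h3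
      obtain ⟨h, hhS, hh⟩ := h3
      refine ⟨(mem_normalizerIn.1 hg).1, (Subgroup.mem_inf.1 hg).2, h, hhS, fun x hx => ?_⟩
      have h4 := hh ((a : MulAut Q) x)
      have e1 : ((((a * ⟨conjN S Q ⟨g, hg⟩, hcgA⟩ * a⁻¹ : F.autGroup Q) : MulAut Q)
          ((a : MulAut Q) x) : Q) : Ω) =
          (((a : MulAut Q) (conjN S Q ⟨g, hg⟩ ((a : MulAut Q)⁻¹ ((a : MulAut Q) x))) : Q) : Ω) := rfl
      rw [e1, MulAut.inv_apply_self] at h4
      exact h4
    obtain ⟨χ, hχ, hχα⟩ := hrec.2 Q _ hαF (IsFIso.range F hαF)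
    have hQN : Q ≤ normalizerIn S Q := le_normalizerIn hQS
    have hNS : normalizerIn S Q ≤ S := normalizerIn_le S Q
    have hᾱ : χ.comp (Subgroup.inclusion hNext) ∈ F.Hom (normalizerIn S Q) := res_mem F hχ hNext
    have hᾱQ : ∀ x : Q, (χ.comp (Subgroup.inclusion hNext)) (Subgroup.inclusion hQN x) =
        ((a : MulAut Q) x : Q) := fun x => hχα x x.2 (hNext (hQN x.2))
    have hfinN : Finite (normalizerIn S Q) := finite_of_le hNS
    have hrange_le : (χ.comp (Subgroup.inclusion hNext)).range ≤ normalizerIn S Q := by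
      rintro _ ⟨g, rfl⟩
      refine Subgroup.mem_inf.2 ⟨hom_mem_S F hᾱ g, ?_⟩
      apply mem_normalizer_of_finite_of_conj_mem
      intro x hx
      have hx' : x = (χ.comp (Subgroup.inclusion hNext))
          (Subgroup.inclusion hQN ((a : MulAut Q)⁻¹ ⟨x, hx⟩)) := by
        rw [hᾱQ, MulAut.apply_inv_self]
      rw [hx', ← map_inv, ← map_mul, ← map_mul]
      have e2 : g * Subgroup.inclusion hQN ((a : MulAut Q)⁻¹ ⟨x, hx⟩) * g⁻¹ =
          Subgroup.inclusion hQN (conjN S Q g ((a : MulAut Q)⁻¹ ⟨x, hx⟩)) := rfl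
      rw [e2, hᾱQ]
      exact Subtype.property _
    have hfinr : Finite (χ.comp (Subgroup.inclusion hNext)).range :=
      finite_of_le (hom_range_le F hᾱ)
    have hrange : (χ.comp (Subgroup.inclusion hNext)).range = normalizerIn S Q := by
      apply Subgroup.eq_of_le_of_card_ge hrange_le
      exact Nat.card_le_card_of_injective
        (fun x => (⟨_, x, rfl⟩ : (χ.comp (Subgroup.inclusion hNext)).range))
        (fun a b hab => F.injective_of_mem hᾱ (congrArg Subtype.val hab))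
    obtain ⟨e, he, heQ⟩ : ∃ e : MulAut (normalizerIn S Q), IsFIso F e ∧
        ∀ x : Q, ((e (Subgroup.inclusion hQN x) : normalizerIn S Q) : Ω) =
          ((a : MulAut Q) x : Q) :=
      ⟨isoOfHom F hᾱ hrange, isFIso_isoOfHom F hᾱ hrange, fun x => hᾱQ x⟩
    have hpos : orderOf e ≠ 0 := (orderOf_pos e).ne'
    obtain ⟨j, m, hm, hem⟩ := Nat.exists_eq_pow_mul_and_not_dvd hpos p hp.ne_one
    have he'A : e ^ m ∈ F.autGroup (normalizerIn S Q) :=
      Subgroup.pow_mem _ ((isFIso_aut_iff F hNS e).1 he) m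
    have he'ord : (e ^ m) ^ (p ^ j) = 1 := by
      rw [← pow_mul, mul_comm, ← hem, pow_orderOf_eq_one]
    have he'Q := pow_restrict hQN e (a : MulAut Q) heQ m
    obtain ⟨Nst, hconjN, hNstn⟩ := exists_fullyNormalized_conj F hNS
    have hNstS : Nst ≤ S := hNstn.1
    obtain ⟨e₀, he₀⟩ := exists_isFIso_of_isConj F hconjN
    have hcardNst : Nat.card Nst = Nat.card (normalizerIn S Q) := (Nat.card_congr e₀.toEquiv).symm
    obtain ⟨g₀, hg₀, hg₀Q⟩ := exists_mem_normalizerIn_not_mem hS hQS hQe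
    have hlt : Nat.card Q < Nat.card (normalizerIn S Q) := card_lt_of_le_of_not_mem hQN hg₀ hg₀Q
    have hNstfa : F.IsFullyAutomized p Nst := by
      have c1 := Subgroup.card_le_of_le hNstS
      have c2 := Subgroup.card_le_of_le hNS
      exact ih (Nat.card S - Nat.card Nst) (by omega) Nst hNstn rfl
    obtain ⟨Rst, hRst⟩ := hNstfa.2
    have hfinAst : Finite (F.autGroup Nst) := finite_autGroup F hNstS
    have hβA : MulAut.congr e₀ (e ^ m) ∈ F.autGroup Nst := congr_mem_autGroup F he₀ he'A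
    have hβord : (⟨MulAut.congr e₀ (e ^ m), hβA⟩ : F.autGroup Nst) ^ (p ^ j) = 1 := by
      apply Subtype.ext
      rw [Subgroup.coe_pow]
      show (MulAut.congr e₀ (e ^ m)) ^ (p ^ j) = 1
      rw [← map_pow, he'ord, map_one]
    have hβp : IsPGroup p (Subgroup.zpowers (⟨MulAut.congr e₀ (e ^ m), hβA⟩ : F.autGroup Nst)) := by
      have hdvd := orderOf_dvd_of_pow_eq_one hβord
      obtain ⟨i, -, hi⟩ := (Nat.dvd_prime_pow hp).1 hdvd
      apply IsPGroup.of_card (n := i)
      rw [Nat.card_zpowers, hi]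
    obtain ⟨c, hc⟩ := exists_conj_le_sylow Rst hβp
    have h5 := hc _ (Subgroup.mem_zpowers _)
    rw [hRst, Subgroup.mem_subgroupOf, mem_autInducedBy_iff] at h5
    obtain ⟨s, hsS, hs⟩ := h5
    have hkey : ∀ g : normalizerIn S Q, (((c : MulAut Nst) (e₀ ((e ^ m) g)) : Nst) : Ω) =
        s * (((c : MulAut Nst) (e₀ g) : Nst) : Ω) * s⁻¹ := by
      intro g
      have h6 := hs ((c : MulAut Nst) (e₀ g))
      have e1 : ((((c * ⟨MulAut.congr e₀ (e ^ m), hβA⟩ * c⁻¹ : F.autGroup Nst) : MulAut Nst)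
          ((c : MulAut Nst) (e₀ g)) : Nst) : Ω) =
          (((c : MulAut Nst) (e₀ ((e ^ m) (e₀.symm ((c : MulAut Nst)⁻¹
            ((c : MulAut Nst) (e₀ g)))))) : Nst) : Ω) := rfl
      rw [e1, MulAut.inv_apply_self, MulEquiv.symm_apply_apply] at h6
      exact h6
    obtain ⟨ψ, hψF, hψkey⟩ : ∃ ψ : normalizerIn S Q ≃* Nst, IsFIso F ψ ∧
        ∀ g, ((ψ ((e ^ m) g) : Nst) : Ω) = s * (ψ g : Ω) * s⁻¹ :=
      ⟨e₀.trans (c : MulAut Nst), IsFIso.trans F he₀ ((isFIso_aut_iff F hNstS _).2 c.2), hkey⟩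
    have hψQ : (Nst.subtype.comp ψ.toMonoidHom).comp (Subgroup.inclusion hQN) ∈ F.Hom Q :=
      res_mem F hψF hQN
    have hconjQ : F.IsConj Q ((Nst.subtype.comp ψ.toMonoidHom).comp (Subgroup.inclusion hQN)).range :=
      ⟨_, hψQ, rfl⟩
    have hfinQ' : Finite ((Nst.subtype.comp ψ.toMonoidHom).comp (Subgroup.inclusion hQN)).range :=
      finite_of_le (hom_range_le F hψQ)
    have hNle : Nst ≤
        normalizerIn S ((Nst.subtype.comp ψ.toMonoidHom).comp (Subgroup.inclusion hQN)).range := by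
      intro y hy
      refine Subgroup.mem_inf.2 ⟨hNstS hy, ?_⟩
      apply mem_normalizer_of_finite_of_conj_mem
      rintro _ ⟨x, rfl⟩
      refine ⟨conjN S Q (ψ.symm ⟨y, hy⟩) x, ?_⟩
      show ((ψ (Subgroup.inclusion hQN (conjN S Q (ψ.symm ⟨y, hy⟩) x)) : Nst) : Ω) =
        y * ((ψ (Subgroup.inclusion hQN x) : Nst) : Ω) * y⁻¹
      have e3 : Subgroup.inclusion hQN (conjN S Q (ψ.symm ⟨y, hy⟩) x) =
          ψ.symm ⟨y, hy⟩ * Subgroup.inclusion hQN x * (ψ.symm ⟨y, hy⟩)⁻¹ := rfl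
      rw [e3, map_mul, map_mul, map_inv, MulEquiv.apply_symm_apply]
      rfl
    have hfinN' : Finite (normalizerIn S
        ((Nst.subtype.comp ψ.toMonoidHom).comp (Subgroup.inclusion hQN)).range) :=
      finite_of_le (normalizerIn_le S _)
    have hcardle : Nat.card (normalizerIn S
        ((Nst.subtype.comp ψ.toMonoidHom).comp (Subgroup.inclusion hQN)).range) ≤ Nat.card Nst := by
      rw [hcardNst]; exact hQn.2 _ hconjQ
    have hNeq := Subgroup.eq_of_le_of_card_ge hNle hcardle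
    have hsN : s ∈ normalizerIn S
        ((Nst.subtype.comp ψ.toMonoidHom).comp (Subgroup.inclusion hQN)).range := by
      refine Subgroup.mem_inf.2 ⟨hsS, ?_⟩
      apply mem_normalizer_of_finite_of_conj_mem
      rintro _ ⟨x, rfl⟩
      refine ⟨((a : MulAut Q) ^ m) x, ?_⟩
      show ((ψ (Subgroup.inclusion hQN (((a : MulAut Q) ^ m) x)) : Nst) : Ω) =
        s * ((ψ (Subgroup.inclusion hQN x) : Nst) : Ω) * s⁻¹
      rw [← hψkey]
      have e4 : Subgroup.inclusion hQN (((a : MulAut Q) ^ m) x) =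
          (e ^ m) (Subgroup.inclusion hQN x) := Subtype.ext (he'Q x).symm
      rw [e4]
    have hsNst : s ∈ Nst := by rw [hNeq]; exact hsN
    have hinner : ∀ g : normalizerIn S Q,
        (e ^ m) g = ψ.symm ⟨s, hsNst⟩ * g * (ψ.symm ⟨s, hsNst⟩)⁻¹ := by
      intro g
      apply ψ.injective
      rw [map_mul, map_mul, map_inv, MulEquiv.apply_symm_apply]
      exact Subtype.ext (hψkey g)
    have ham : ((a : MulAut Q) ^ m) ∈ autInducedBy S Q := by
      rw [mem_autInducedBy_iff]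
      refine ⟨((ψ.symm ⟨s, hsNst⟩ : normalizerIn S Q) : Ω), hNS (Subtype.property _), fun x => ?_⟩
      rw [← he'Q x, hinner]
      rfl
    have hcop : m.Coprime (orderOf (a : MulAut Q)) := by
      obtain ⟨k, hk⟩ := R.2 ⟨a, haR⟩
      have hk' : (a : MulAut Q) ^ (p ^ k) = 1 := by
        have h7 := congrArg (fun z : (R : Subgroup (F.autGroup Q)) => ((z : F.autGroup Q) : MulAut Q)) hk
        exact h7
      have hdvd := orderOf_dvd_of_pow_eq_one hk'
      have h8 : m.Coprime (p ^ k) := Nat.Coprime.pow_right k ((Nat.Prime.coprime_iff_not_dvd hp).2 hm).symm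
      exact Nat.Coprime.coprime_dvd_right hdvd h8
    obtain ⟨t, ht⟩ := exists_pow_eq_self_of_coprime hcop
    apply haT
    rw [Subgroup.mem_subgroupOf, ← ht]
    exact Subgroup.pow_mem _ ham t

/-- Roberts–Shpectorov characterization of saturation. -/
theorem saturated_iff_top_fa_and_fn_receptive [Finite S] (p : ℕ) [Fact p.Prime] (hS : IsPGroup p S)
    (F : FusionSystem S) :
    F.IsSaturated p ↔ (F.IsFullyAutomized p S ∧
      ∀ P : Subgroup Ω, F.IsFullyNormalized P → F.IsReceptive P) := by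
  constructor
  · intro hF
    exact ⟨(Helper88.saturated_top hF).1, fun P hP => receptive_of_fullyCentralized p hS F hF
      (fullyCentralized_of_fullyNormalized p hS F hF hP)⟩
  · rintro ⟨h1, h2⟩ P hP
    obtain ⟨Q, hQ, hQn⟩ := exists_fullyNormalized_conj F hP
    exact ⟨Q, hQ, fullyAutomized_of_fn_receptive p hS F h1 h2 _ Q hQn rfl, h2 Q hQn⟩

end Cfsg.Agent.Lib.Helper84
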