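import Mathlib
import Cfsg.Prelude.Def_FusionSystem
import Cfsg.Agent.Lib.Helper84.KNormalizer
import Cfsg.Agent.Lib.Helper87.FusionStrongly
import Cfsg.Agent.Lib.Helper2.Transfer

set_option autoImplicit false

namespace Cfsg.Agent.Lib.Helper84

open Cfsg Cfsg.FusionSystem
open Cfsg.Agent.Lib.Helper88 (Mor extFun extFun_mem extFun_apply img mor_of_hom hom_of_mor mor_conj mor_id)

variable {Ω : Type*} [Group Ω] {S : Subgroup Ω}

/-! ### Alperin's theorem with an inductive hypothesis -/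

/-- inductive step of the Alperin–Goldschmidt theorem, with the hypothesis on fully normalized
subgroups of the same order only. -/
theorem hom_subset_of_IH' [Finite S] (p : ℕ) [Fact p.Prime] (hS : IsPGroup p S)
    (F : FusionSystem S) (hF : F.IsSaturated p) (E : FusionSystem S)
    {P : Subgroup Ω} (hne : P ≠ S)
    (hE : ∀ Pst : Subgroup Ω, F.IsFullyNormalized Pst → Nat.card Pst = Nat.card P →
      F.autGroup Pst ≤ E.autGroup Pst)
    (IH : ∀ R : Subgroup Ω, Nat.card P < Nat.card R → F.Hom R ⊆ E.Hom R) :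
    F.Hom P ⊆ E.Hom P := by
  intro φ hφ
  have hPS : P ≤ S := hom_le F hφ
  have hfinP : Finite P := finite_of_le hPS
  have hstep : ∀ (Q Pst : Subgroup Ω), Q ≤ S → Nat.card Q = Nat.card P → F.IsFullyNormalized Pst →
      F.IsConj Q Pst → ∃ e : Q ≃* Pst, IsFIso F e ∧ IsFIso E e := by
    intro Q Pst hQS hcard hfn hconj
    have hfc := fullyCentralized_of_fullyNormalized p hS F hF hfn
    have hfa := fullyAutomized_of_fullyNormalized p hS F hF hfn
    have hrec := receptive_of_fullyCentralized p hS F hF hfc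
    obtain ⟨φ₁, hφ₁, -, -, e₁, he₁, hφe₁⟩ := exists_normalizer_map p hS F hfa hrec hconj
    refine ⟨e₁, he₁, ?_⟩
    have hQne : Q ≠ S := by
      intro hQe
      rw [hQe] at hcard
      exact hne (Subgroup.eq_of_le_of_card_ge hPS (le_of_eq hcard))
    obtain ⟨g, hg, hgQ⟩ := exists_mem_normalizerIn_not_mem hS hQS hQne
    have hfinN : Finite (normalizerIn S Q) := finite_of_le (normalizerIn_le S Q)
    have hlt : Nat.card P < Nat.card (normalizerIn S Q) := by
      rw [← hcard]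
      exact card_lt_of_le_of_not_mem (le_normalizerIn hQS) hg hgQ
    have hφ₁E := IH _ hlt hφ₁
    exact hom_of_eq E (res_mem E hφ₁E (le_normalizerIn hQS)) (fun x => (hφe₁ x).symm)
  obtain ⟨Pst, hconj, hfn⟩ := exists_fullyNormalized_conj F hPS
  have hPstS : Pst ≤ S := hfn.1
  obtain ⟨e₁, he₁F, he₁E⟩ := hstep P Pst hPS rfl hfn hconj
  have heF : IsFIso F (isoOfHom F hφ rfl) := isFIso_isoOfHom F hφ rfl
  have hcard' : Nat.card φ.range = Nat.card P := (Nat.card_congr (isoOfHom F hφ rfl).toEquiv).symm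
  have hconj' : F.IsConj φ.range Pst := isConj_trans F (isConj_symm F ⟨φ, hφ, rfl⟩) hconj
  obtain ⟨e₂, he₂F, he₂E⟩ := hstep φ.range Pst (hom_range_le F hφ) hcard' hfn hconj'
  have hαF : IsFIso F ((e₁.symm.trans (isoOfHom F hφ rfl)).trans e₂) :=
    IsFIso.trans F (IsFIso.trans F (IsFIso.symm F he₁F) heF) he₂F
  have hcardPst : Nat.card Pst = Nat.card P := (Nat.card_congr e₁.toEquiv).symm
  have hαmem : ((e₁.symm.trans (isoOfHom F hφ rfl)).trans e₂ : MulAut Pst) ∈ F.autGroup Pst :=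
    (isFIso_aut_iff F hPstS _).1 hαF
  have hle := hE Pst hfn hcardPst
  have hαE : IsFIso E ((e₁.symm.trans (isoOfHom F hφ rfl)).trans e₂) :=
    (isFIso_aut_iff E hPstS _).2 (hle hαmem)
  have hfinal : IsFIso E (e₁.trans (((e₁.symm.trans (isoOfHom F hφ rfl)).trans e₂).trans e₂.symm)) :=
    IsFIso.trans E he₁E (IsFIso.trans E hαE (IsFIso.symm E he₂E))
  apply hom_of_eq E hfinal
  intro x
  show φ x = ((e₂.symm (e₂ ((isoOfHom F hφ rfl) (e₁.symm (e₁ x)))) : φ.range) : Ω)
  rw [MulEquiv.symm_apply_apply, MulEquiv.symm_apply_apply]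
  rfl

/-- **Alperin's fusion theorem, inductive form**: to prove `F ≤ E` it suffices to show
`Aut_F(P) ≤ Aut_E(P)` for fully normalized `P`, assuming all maps of `F` on strictly larger
subgroups are already in `E`. -/
theorem alperin_ih [Finite S] (p : ℕ) [Fact p.Prime] (hS : IsPGroup p S)
    (F : FusionSystem S) (hF : F.IsSaturated p) (E : FusionSystem S)
    (hE : ∀ P : Subgroup Ω, F.IsFullyNormalized P →
      (∀ R : Subgroup Ω, Nat.card P < Nat.card R → F.Hom R ⊆ E.Hom R) →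
      F.autGroup P ≤ E.autGroup P) : F ≤ E := by
  have key : ∀ n : ℕ, ∀ P : Subgroup Ω, Nat.card S - Nat.card P = n → F.Hom P ⊆ E.Hom P := by
    intro n
    induction n using Nat.strong_induction_on with
    | _ n ih =>
      intro P hn
      have hIH : ∀ R : Subgroup Ω, Nat.card P < Nat.card R → F.Hom R ⊆ E.Hom R := by
        intro R hR ψ hψ
        have hRS : R ≤ S := hom_le F hψ
        have h1 : Nat.card R ≤ Nat.card S := Subgroup.card_le_of_le hRS
        exact ih (Nat.card S - Nat.card R) (by omega) R rfl hψ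
      by_cases hPS : P = S
      · rw [hPS] at hIH ⊢
        refine hom_top_subset_of_autGroup_le F E (hE S ⟨le_rfl, fun Q _ => ?_⟩ hIH)
        rw [KSys.normalizerIn_self]
        exact Subgroup.card_le_of_le (normalizerIn_le S Q)
      · apply hom_subset_of_IH' p hS F hF E hPS _ hIH
        intro Pst hfn hcard
        exact hE Pst hfn (fun R hR => hIH R (hcard ▸ hR))
  intro P
  exact key _ P rfl

/-! ### Maps compatible with a homomorphism out of `S` -/

/-- the subsystem of maps of `F` compatible, up to conjugation in `Γ`, with `π : S →* Γ`. -/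
def compatSystem (F : FusionSystem S) {Γ : Type*} [Group Γ] (π : S →* Γ) : FusionSystem S where
  Hom P := {φ | φ ∈ F.Hom P ∧ ∃ γ : Γ, ∀ (x : P) (hx : (x : Ω) ∈ S) (hφ : φ x ∈ S),
    π ⟨φ x, hφ⟩ = γ * π ⟨x, hx⟩ * γ⁻¹}
  le_of_mem := fun h => F.le_of_mem h.1
  injective_of_mem := fun h => F.injective_of_mem h.1
  conj_mem := by
    intro P g hP hg
    refine ⟨F.conj_mem hP hg, π ⟨g, hg⟩, fun x hx hφ => ?_⟩
    rw [← map_inv, ← map_mul, ← map_mul]
    rfl
  comp_mem := by
    intro P Q φ ψ hφ hψ h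
    obtain ⟨γ₁, h₁⟩ := hφ.2
    obtain ⟨γ₂, h₂⟩ := hψ.2
    refine ⟨F.comp_mem hφ.1 hψ.1 h, γ₂ * γ₁, fun x hx hc => ?_⟩
    have hφS : φ x ∈ S := (F.le_of_mem hφ.1).2 x
    have e1 := h₁ x hx hφS
    have e2 := h₂ ⟨φ x, h x⟩ hφS hc
    calc π ⟨(ψ.comp (φ.codRestrict Q h)) x, hc⟩ = γ₂ * π ⟨φ x, hφS⟩ * γ₂⁻¹ := e2
      _ = γ₂ * γ₁ * π ⟨x, hx⟩ * (γ₂ * γ₁)⁻¹ := by rw [e1]; group
  inv_mem := by
    intro P φ hφ
    obtain ⟨γ, h₁⟩ := hφ.2
    obtain ⟨ψ, hψ, hψφ⟩ := F.inv_mem hφ.1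
    refine ⟨ψ, ⟨hψ, γ⁻¹, ?_⟩, hψφ⟩
    rintro ⟨y, x, rfl⟩ hy hc
    have hxS : (x : Ω) ∈ S := (F.le_of_mem hφ.1).1 x.2
    have e1 := h₁ x hxS hy
    have e2 : (⟨ψ ⟨φ x, ⟨x, rfl⟩⟩, hc⟩ : S) = ⟨x, hxS⟩ := Subtype.ext (hψφ x)
    rw [e2, e1]
    group


/-! ### The hyperfocal subgroup acts on a strongly closed subgroup through `O^p(Aut_F(T)) Inn(T)` -/

theorem conj_pow_comm {Γ : Type*} [Group Γ] {p : ℕ} [Fact p.Prime] (hΓ : IsPGroup p Γ)
    {γ y : Γ} {m : ℕ} (hm : Nat.Coprime m p) (h : γ ^ m * y * (γ ^ m)⁻¹ = y) :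
    γ * y * γ⁻¹ = y := by
  obtain ⟨j, hj⟩ := hΓ γ
  have h1 : orderOf γ ∣ p ^ j := orderOf_dvd_of_pow_eq_one hj
  have h2 : Nat.Coprime m (orderOf γ) := Nat.Coprime.coprime_dvd_right h1 (Nat.Coprime.pow_right j hm)
  obtain ⟨c, hc⟩ := exists_pow_eq_self_of_coprime h2
  have h3 : Commute (γ ^ m) y := by
    show γ ^ m * y = y * γ ^ m
    calc γ ^ m * y = (γ ^ m * y * (γ ^ m)⁻¹) * γ ^ m := by group
      _ = y * γ ^ m := by rw [h]
  have h4 : Commute γ y := by
    rw [← hc]
    exact h3.pow_left c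
  calc γ * y * γ⁻¹ = y * γ * γ⁻¹ := by rw [h4.eq]
    _ = y := by group

theorem hyperfocal_acts_in [Finite S] (p : ℕ) [Fact p.Prime] (hS : IsPGroup p S)
    (F : FusionSystem S) (hF : F.IsSaturated p) (T : Subgroup Ω) (hT : F.StronglyClosed T) :
    ∀ x ∈ F.hyperfocalSubgroup p, ∃ α ∈ ((Cfsg.pResidual p ↥(F.autGroup T)).map
      (F.autGroup T).subtype ⊔ Cfsg.Inn ↥T : Subgroup (MulAut ↥T)),
      ∀ t : ↥T, ((α t : ↥T) : Ω) = x * (t : Ω) * x⁻¹ := by
  have hTS : T ≤ S := hT.1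
  have hSn : S ≤ Subgroup.normalizer (T : Set Ω) := Helper87.stronglyClosed_le_normalizer F hT
  have hSN : S ≤ normalizerIn S T := le_inf le_rfl hSn
  obtain ⟨cT, hcT⟩ : ∃ c : S →* MulAut T, c = (conjN S T).comp (Subgroup.inclusion hSN) := ⟨_, rfl⟩
  have hcTx : ∀ (s : S) (t : T), ((cT s t : T) : Ω) = s * t * (s : Ω)⁻¹ := by
    intro s t; rw [hcT]; rfl
  have hcTA : ∀ s : S, cT s ∈ F.autGroup T := by
    intro s
    apply autInducedBy_le_autGroup F hTS
    rw [autInducedBy_eq_range, hcT]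
    exact ⟨_, rfl⟩
  have hfinA : Finite (F.autGroup T) := finite_autGroup F hTS
  have hInnA : Cfsg.Inn T ≤ F.autGroup T := by
    rintro _ ⟨t, rfl⟩
    have h1 : MulAut.conj t = cT ⟨t, hTS t.2⟩ := by
      ext u
      rw [hcTx]
      rfl
    rw [h1]
    exact hcTA _
  obtain ⟨B, hB⟩ : ∃ B : Subgroup (MulAut T), B = (Cfsg.pResidual p ↥(F.autGroup T)).map
      (F.autGroup T).subtype ⊔ Cfsg.Inn ↥T := ⟨_, rfl⟩
  rw [← hB]
  have hBA : B.subgroupOf (F.autGroup T) = Cfsg.pResidual p ↥(F.autGroup T) ⊔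
      (Cfsg.Inn T).subgroupOf (F.autGroup T) := by
    rw [hB, Subgroup.subgroupOf_sup (Subgroup.map_subtype_le _) hInnA]
    congr 1
    exact Subgroup.comap_map_eq_self_of_injective (Subgroup.subtype_injective _) _
  have hn1 : (Cfsg.pResidual p ↥(F.autGroup T)).Normal := Helper2.pResidual_normal p
  have hn2 : ((Cfsg.Inn T).subgroupOf (F.autGroup T)).Normal :=
    Subgroup.Normal.subgroupOf (innNormal T) _
  have hBn : (B.subgroupOf (F.autGroup T)).Normal := by
    rw [hBA]; infer_instance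
  have hΓ : IsPGroup p (F.autGroup T ⧸ B.subgroupOf (F.autGroup T)) :=
    Helper2.isPGroup_quotient_of_pResidual_le p _ (by rw [hBA]; exact le_sup_left)
  obtain ⟨π, hπ⟩ : ∃ π : S →* (F.autGroup T ⧸ B.subgroupOf (F.autGroup T)),
      π = (QuotientGroup.mk' _).comp (cT.codRestrict (F.autGroup T) hcTA) := ⟨_, rfl⟩
  have hπ1 : ∀ s : S, π s = 1 ↔ cT s ∈ B := by
    intro s
    rw [hπ, MonoidHom.comp_apply, QuotientGroup.mk'_apply, QuotientGroup.eq_one_iff,
      Subgroup.mem_subgroupOf]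
    rfl
  have hπT : ∀ (t : Ω) (ht : t ∈ T) (hs : t ∈ S), π ⟨t, hs⟩ = 1 := by
    intro t ht hs
    rw [hπ1, hB]
    apply Subgroup.mem_sup_right
    refine ⟨⟨t, ht⟩, ?_⟩
    ext u
    rw [hcTx]
    rfl
  have hπconj : ∀ (a : MulAut T) (ha : a ∈ F.autGroup T) (s s' : S),
      cT s' * a = a * cT s → π s' = (QuotientGroup.mk ⟨a, ha⟩ : F.autGroup T ⧸ _) * π s *
        (QuotientGroup.mk ⟨a, ha⟩)⁻¹ := by
    intro a ha s s' h
    rw [hπ, MonoidHom.comp_apply, MonoidHom.comp_apply, QuotientGroup.mk'_apply,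
      QuotientGroup.mk'_apply, ← QuotientGroup.mk_mul, ← QuotientGroup.mk_inv,
      ← QuotientGroup.mk_mul]
    congr 1
    apply Subtype.ext
    show cT s' = a * cT s * a⁻¹
    rw [← h]
    group
  -- the compatibility of all maps of the system with `π`
  have hle : F ≤ compatSystem F π := by
    apply alperin_ih p hS F hF
    intro P hfn IH
    have hPS : P ≤ S := hfn.1
    intro α hα
    apply Subgroup.subset_closure
    refine ⟨Helper88.subtype_comp_mem F hPS hα, ?_⟩
    by_cases hTP : T ≤ P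
    · have hmor := autFun_mor F hPS hα
      have hmapT : ∀ x ∈ T, autFun α x ∈ T := by
        intro x hx
        rw [autFun_mem α (hTP hx)]
        exact Helper87.stronglyClosed_aut_mem F hT hPS hα ⟨x, hTP hx⟩ hx
      obtain ⟨a, ha, hax⟩ := (hmor.res hTP).exists_aut hmapT
      refine ⟨QuotientGroup.mk ⟨a, ha⟩, fun x hx hφ => ?_⟩
      apply hπconj a ha
      ext t
      show ((cT ⟨_, hφ⟩ (a t) : T) : Ω) = ((a (cT ⟨x, hx⟩ t) : T) : Ω)
      rw [hcTx, hax, hax, hcTx]
      have h1 : ((P.subtype.comp α.toMonoidHom) x : Ω) = autFun α x := by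
        rw [autFun_mem α x.2]; rfl
      show (P.subtype.comp α.toMonoidHom) x * autFun α t * ((P.subtype.comp α.toMonoidHom) x)⁻¹ = _
      rw [h1]
      exact (mor_conj_apply hmor x.2 (hTP t.2)).symm
    · have hfc := fullyCentralized_of_fullyNormalized p hS F hF hfn
      have hfa := fullyAutomized_of_fullyNormalized p hS F hF hfn
      have hrec := receptive_of_fullyCentralized p hS F hF hfc
      obtain ⟨δ, hδ, hδT, N, hPN, hcard, χ, hχ, hχx⟩ :=
        Helper87.exists_extension_mod hS F hT hfa hrec hTP hα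
      obtain ⟨-, γ, hγ⟩ := IH N hcard hχ
      refine ⟨γ, fun x hx hφ => ?_⟩
      have hNS : N ≤ S := (F.le_of_mem hχ).1
      have e1 := hχx x
      have hχS : χ (Subgroup.inclusion hPN x) ∈ S := (F.le_of_mem hχ).2 _
      have e2 := hγ (Subgroup.inclusion hPN x) hx hχS
      have e3 := hδT (α x)
      have hαx : ((α x : P) : Ω) ∈ S := hPS (α x).2
      have e4 : (⟨χ (Subgroup.inclusion hPN x), hχS⟩ : S) = ⟨((α x : P) : Ω), hαx⟩ *
          ⟨((α x : P) : Ω)⁻¹ * ((δ (α x) : P) : Ω), hTS e3⟩ := by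
        apply Subtype.ext
        show χ (Subgroup.inclusion hPN x) = ((α x : P) : Ω) * (((α x : P) : Ω)⁻¹ * ((δ (α x) : P) : Ω))
        rw [e1]
        show ((δ (α x) : P) : Ω) = _
        group
      rw [e4, map_mul, hπT _ e3, mul_one] at e2
      exact e2
  -- automorphisms of order prime to `p` act trivially modulo the kernel of `π`
  have hres : ∀ (P : Subgroup Ω) (hPS : P ≤ S) (α : F.autGroup P), α ∈ Cfsg.pResidual p (F.autGroup P) →
      ∀ x : P, π ⟨(((α : MulAut P) x : P) : Ω), hPS ((α : MulAut P) x).2⟩ = π ⟨x, hPS x.2⟩ := by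
    intro P hPS α hα
    unfold Cfsg.pResidual at hα
    induction hα using Subgroup.closure_induction with
    | mem α hα =>
      have hcop : Nat.Coprime (orderOf α) p := hα
      obtain ⟨-, γ, hγ⟩ := hle P (Helper88.subtype_comp_mem F hPS α.2)
      have hγ' : ∀ x : P, π ⟨(((α : MulAut P) x : P) : Ω), hPS ((α : MulAut P) x).2⟩ =
          γ * π ⟨x, hPS x.2⟩ * γ⁻¹ := fun x => hγ x (hPS x.2) (hPS ((α : MulAut P) x).2)
      have hpow : ∀ (k : ℕ) (x : P), π ⟨((((α ^ k : F.autGroup P) : MulAut P) x : P) : Ω),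
          hPS (((α ^ k : F.autGroup P) : MulAut P) x).2⟩ = γ ^ k * π ⟨x, hPS x.2⟩ * (γ ^ k)⁻¹ := by
        intro k
        induction k with
        | zero => intro x; simp
        | succ k ih =>
          intro x
          have h1 : (((α ^ (k + 1) : F.autGroup P) : MulAut P) x : P) =
              (α : MulAut P) (((α ^ k : F.autGroup P) : MulAut P) x) := by
            rw [pow_succ']
            rfl
          have h2 := hγ' (((α ^ k : F.autGroup P) : MulAut P) x)
          rw [ih x] at h2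
          have h3 : π ⟨((((α ^ (k + 1) : F.autGroup P) : MulAut P) x : P) : Ω),
              hPS (((α ^ (k + 1) : F.autGroup P) : MulAut P) x).2⟩ =
              π ⟨(((α : MulAut P) (((α ^ k : F.autGroup P) : MulAut P) x) : P) : Ω),
              hPS ((α : MulAut P) (((α ^ k : F.autGroup P) : MulAut P) x)).2⟩ := by
            congr 2
            rw [h1]
          rw [h3, h2, pow_succ']
          group
      intro x
      have h5 := hpow (orderOf α) x
      have h6 : π ⟨((((α ^ orderOf α : F.autGroup P) : MulAut P) x : P) : Ω),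
          hPS (((α ^ orderOf α : F.autGroup P) : MulAut P) x).2⟩ = π ⟨x, hPS x.2⟩ := by
        congr 2
        rw [pow_orderOf_eq_one]
        rfl
      rw [h6] at h5
      rw [hγ' x]
      exact conj_pow_comm hΓ hcop h5.symm
    | one => intro x; rfl
    | mul α β _ _ hα hβ =>
      intro x
      have h1 := hα ((β : MulAut P) x)
      rw [hβ x] at h1
      exact h1
    | inv α _ hα =>
      intro x
      have h1 := hα ((α : MulAut P)⁻¹ x)
      have h2 : (α : MulAut P) ((α : MulAut P)⁻¹ x) = x := by simp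
      have h3 : π ⟨(((α : MulAut P) ((α : MulAut P)⁻¹ x) : P) : Ω),
          hPS ((α : MulAut P) ((α : MulAut P)⁻¹ x)).2⟩ = π ⟨x, hPS x.2⟩ := by
        congr 2
        rw [h2]
      rw [h3] at h1
      exact h1.symm
  have hker : F.hyperfocalSubgroup p ≤ (π.ker).map S.subtype := by
    unfold FusionSystem.hyperfocalSubgroup
    rw [Subgroup.closure_le]
    rintro y ⟨P, α, x, hPS, hα, rfl⟩
    have h1 := hres P hPS α hα x
    refine ⟨⟨(x : Ω), hPS x.2⟩⁻¹ * ⟨(((α : MulAut P) x : P) : Ω), hPS ((α : MulAut P) x).2⟩, ?_, rfl⟩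
    rw [SetLike.mem_coe, MonoidHom.mem_ker, map_mul, map_inv, h1]
    group
  intro x hx
  obtain ⟨s, hs, rfl⟩ := hker hx
  have h1 : π s = 1 := hs
  rw [hπ1] at h1
  exact ⟨cT s, h1, fun t => hcTx s t⟩

end Cfsg.Agent.Lib.Helper84
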