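import Mathlib
import Cfsg.Prelude.Def_FusionSystem
import Cfsg.Agent.Lib.Helper84.FusionApps
import Cfsg.Agent.Lib.Helper85.GroupFusion
import Cfsg.Agent.Lib.Helper47.Syl
import Cfsg.Agent.Lib.Helper2.Transfer
import Cfsg.Agent.Lib.Helper86.FusionAux

set_option autoImplicit false

namespace Cfsg.Agent.Lib.Helper84

open Cfsg Cfsg.FusionSystem
open scoped commutatorElement

/-- a finite `p`-group generated by a subgroup together with its commutator subgroup is that
subgroup (commutators are non-generators). -/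
theorem eq_top_of_sup_commutator_eq_top {T : Type*} [Group T] [Finite T] {p : ℕ} [Fact p.Prime]
    (hT : IsPGroup p T) (A : Subgroup T) (h : A ⊔ commutator T = ⊤) : A = ⊤ := by
  by_contra hA
  obtain ⟨M, hM, hAM⟩ := (eq_top_or_exists_le_coatom A).resolve_left hA
  have hnil : Group.IsNilpotent T := hT.isNilpotent
  have hMn : M.Normal :=
    Subgroup.NormalizerCondition.normal_of_coatom M normalizerCondition_of_isNilpotent hM
  have hnt : Nontrivial (T ⧸ M) := QuotientGroup.nontrivial_iff.2 hM.1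
  have hlt := IsSolvable.commutator_lt_top_of_nontrivial (T ⧸ M)
  have hMC : M ≤ (commutator (T ⧸ M)).comap (QuotientGroup.mk' M) := by
    intro m hm
    rw [Subgroup.mem_comap, QuotientGroup.mk'_apply, (QuotientGroup.eq_one_iff m).2 hm]
    exact Subgroup.one_mem _
  have hCne : (commutator (T ⧸ M)).comap (QuotientGroup.mk' M) ≠ ⊤ := by
    intro htop
    apply hlt.ne
    rw [eq_top_iff]
    intro q _
    obtain ⟨t, rfl⟩ := QuotientGroup.mk'_surjective M q
    have : t ∈ (commutator (T ⧸ M)).comap (QuotientGroup.mk' M) := by rw [htop]; trivial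
    exact this
  have hCM : (commutator (T ⧸ M)).comap (QuotientGroup.mk' M) = M := by
    by_contra hne
    exact hCne (hM.2 _ (lt_of_le_of_ne hMC (Ne.symm hne)))
  have hcomm : commutator T ≤ M := by
    rw [← hCM, ← Subgroup.map_le_iff_le_comap, commutator_def, Subgroup.map_commutator,
      commutator_def]
    exact Subgroup.commutator_mono le_top le_top
  apply hM.1
  rw [eq_top_iff, ← h]
  exact sup_le hAM hcomm

/-- subgroup form of the previous lemma. -/
theorem le_of_le_sup_commutator {G : Type*} [Group G] {p : ℕ} [Fact p.Prime] {T A : Subgroup G}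
    [Finite T] (hT : IsPGroup p T) (hAT : A ≤ T) (h : T ≤ A ⊔ ⁅T, T⁆) : T ≤ A := by
  have key : A.subgroupOf T ⊔ commutator T = ⊤ := by
    rw [eq_top_iff]
    rintro t -
    have ht := h t.2
    rw [← Subgroup.map_subtype_commutator, ← Subgroup.map_subgroupOf_eq_of_le hAT,
      ← Subgroup.map_sup] at ht
    obtain ⟨t', ht', ht'2⟩ := ht
    have : t' = t := Subtype.ext ht'2
    rw [← this]
    exact ht'
  have := eq_top_of_sup_commutator_eq_top hT _ key
  rwa [Subgroup.subgroupOf_eq_top] at this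

section
variable {G : Type*} [Group G]

theorem aut_pow_apply {P : Subgroup G} (α : MulAut P) (g : G)
    (h : ∀ x : P, ((α x : P) : G) = g * x * g⁻¹) (k : ℕ) :
    ∀ x : P, (((α ^ k) x : P) : G) = g ^ k * x * (g ^ k)⁻¹ := by
  induction k with
  | zero => intro x; simp
  | succ k ih =>
    intro x
    rw [pow_succ, MulAut.mul_apply, ih, h, pow_succ]
    group

/-- an automorphism of `p'`-order induced by conjugation is induced by a `p'`-element. -/
theorem exists_pprime_lift [Finite G] {p : ℕ} [Fact p.Prime] {P : Subgroup G}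
    (α : MulAut P) (hα : Nat.Coprime (orderOf α) p) (g : G)
    (h : ∀ x : P, ((α x : P) : G) = g * x * g⁻¹) :
    ∃ g' : G, Nat.Coprime (orderOf g') p ∧ ∀ x : P, ((α x : P) : G) = g' * x * g'⁻¹ := by
  have hp : p.Prime := Fact.out
  have hpos : orderOf g ≠ 0 := (orderOf_pos g).ne'
  obtain ⟨a, m, hm, hgm⟩ := Nat.exists_eq_pow_mul_and_not_dvd hpos p hp.ne_one
  have hcop : (p ^ a).Coprime (orderOf α) := Nat.Coprime.pow_left a hα.symm
  obtain ⟨t, ht⟩ := exists_pow_eq_self_of_coprime hcop
  refine ⟨(g ^ (p ^ a)) ^ t, ?_, fun x => ?_⟩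
  · have h1 : orderOf (g ^ (p ^ a)) = m := by
      rw [orderOf_pow, hgm]
      have hm0 : m ≠ 0 := by
        rintro rfl
        exact hm (dvd_zero p)
      have hg : Nat.gcd (p ^ a * m) (p ^ a) = p ^ a := Nat.gcd_eq_right (dvd_mul_right _ _)
      rw [hg, Nat.mul_div_cancel_left _ (pow_pos hp.pos a)]
    have h2 : orderOf ((g ^ (p ^ a)) ^ t) ∣ m := h1 ▸ orderOf_pow_dvd t
    exact Nat.Coprime.coprime_dvd_left h2 ((Nat.Prime.coprime_iff_not_dvd hp).2 hm).symm
  · have h3 := aut_pow_apply α g h (p ^ a * t) x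
    rw [pow_mul, ht, pow_mul] at h3
    exact h3

theorem pResidual_pResidual_eq_top (p : ℕ) : pResidual p ↥(pResidual p G) = ⊤ := by
  rw [eq_top_iff]
  rintro ⟨k, hk⟩ -
  have key : ∀ (k : G) (hk : k ∈ pResidual p G), (⟨k, hk⟩ : ↥(pResidual p G)) ∈
      pResidual p ↥(pResidual p G) := by
    intro k hk
    unfold pResidual at hk
    induction hk using Subgroup.closure_induction with
    | mem g hg =>
      apply Subgroup.subset_closure
      show Nat.Coprime (orderOf (⟨g, _⟩ : ↥(pResidual p G))) p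
      rw [← Subgroup.orderOf_coe]
      exact hg
    | one => exact Subgroup.one_mem _
    | mul a b ha hb iha ihb => exact Subgroup.mul_mem _ iha ihb
    | inv a ha iha => exact Subgroup.inv_mem _ iha
  exact key k hk

/-- easy inclusion of the hyperfocal subgroup theorem. -/
theorem hyperfocal_le [Finite G] (p : ℕ) [Fact p.Prime] (S : Sylow p G) :
    (groupFusionSystem (S : Subgroup G)).hyperfocalSubgroup p ≤
      (S : Subgroup G) ⊓ pResidual p G := by
  unfold hyperfocalSubgroup
  rw [Subgroup.closure_le]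
  rintro _ ⟨P, α, x, hPS, hα, rfl⟩
  have hK : (pResidual p G).Normal := Helper2.pResidual_normal p
  refine Subgroup.mem_inf.2 ⟨Subgroup.mul_mem _ (Subgroup.inv_mem _ (hPS x.2))
    (hPS (Subtype.property _)), ?_⟩
  have key : ∀ β : (groupFusionSystem (S : Subgroup G)).autGroup P,
      β ∈ pResidual p ((groupFusionSystem (S : Subgroup G)).autGroup P) →
      ∀ x : P, (x : G)⁻¹ * (((β : MulAut P) x : P) : G) ∈ pResidual p G := by
    intro β hβ
    unfold pResidual at hβ
    induction hβ using Subgroup.closure_induction with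
    | mem β hβ =>
      intro x
      have hβF := (mem_autGroup_iff _ hPS (β : MulAut P)).1 β.2
      obtain ⟨-, -, g, hg⟩ := hβF
      have hord : Nat.Coprime (orderOf (β : MulAut P)) p := by
        rw [Subgroup.orderOf_coe]; exact hβ
      obtain ⟨g', hg'c, hg'⟩ := exists_pprime_lift (β : MulAut P) hord g hg
      rw [hg' x]
      have hg'K : g' ∈ pResidual p G := Subgroup.subset_closure hg'c
      have e : (x : G)⁻¹ * (g' * x * g'⁻¹) = ((x : G)⁻¹ * g' * ((x : G)⁻¹)⁻¹) * g'⁻¹ := by group
      rw [e]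
      exact Subgroup.mul_mem _ (hK.conj_mem _ hg'K _) (Subgroup.inv_mem _ hg'K)
    | one => intro x; simp
    | mul β γ _ _ hβ hγ =>
      intro x
      have e : (x : G)⁻¹ * ((((β * γ : (groupFusionSystem (S : Subgroup G)).autGroup P) :
          MulAut P) x : P) : G) =
          ((x : G)⁻¹ * (((γ : MulAut P) x : P) : G)) *
            ((((γ : MulAut P) x : P) : G)⁻¹ * (((β : MulAut P) ((γ : MulAut P) x) : P) : G)) := by
        show (x : G)⁻¹ * (((β : MulAut P) ((γ : MulAut P) x) : P) : G) = _
        group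
      rw [e]
      exact Subgroup.mul_mem _ (hγ x) (hβ _)
    | inv β _ hβ =>
      intro x
      have h1 := hβ ((β : MulAut P)⁻¹ x)
      rw [MulAut.apply_inv_self] at h1
      have e : (x : G)⁻¹ * ((((β⁻¹ : (groupFusionSystem (S : Subgroup G)).autGroup P) :
          MulAut P) x : P) : G) = ((((β : MulAut P)⁻¹ x : P) : G)⁻¹ * (x : G))⁻¹ := by
        show (x : G)⁻¹ * ((((β : MulAut P)⁻¹ x : P) : G)) = _
        group
      rw [e]
      exact Subgroup.inv_mem _ h1
  exact key α hα x

/-- hard inclusion of the hyperfocal subgroup theorem. -/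
theorem le_hyperfocal [Finite G] (p : ℕ) [Fact p.Prime] (S : Sylow p G) :
    (S : Subgroup G) ⊓ pResidual p G ≤
      (groupFusionSystem (S : Subgroup G)).hyperfocalSubgroup p := by
  have hKn : (pResidual p G).Normal := Helper2.pResidual_normal p
  have hTK : (S : Subgroup G) ⊓ pResidual p G ≤ pResidual p G := inf_le_right
  have hTS : (S : Subgroup G) ⊓ pResidual p G ≤ S := inf_le_left
  obtain ⟨T', hT'⟩ := Helper47.exists_sylow_inf_normal S (pResidual p G)
  have hsyl : Helper85.IsSylIn p ((S : Subgroup G) ⊓ pResidual p G) (pResidual p G) := ⟨T', hT'⟩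
  have hsat := Helper85.rel_isSaturated hTK hsyl
  have hTp : IsPGroup p ((S : Subgroup G) ⊓ pResidual p G : Subgroup G) := S.2.to_le hTS
  have hfoc := focal_eq_hyperfocal_sup p hTp
    (fusionSystemOfSubgroup (pResidual p G) ((S : Subgroup G) ⊓ pResidual p G) hTK) hsat
  have hT'foc : (T' : Subgroup ↥(pResidual p G)).focalSubgroup = T' := by
    have h1 : pResidual p ↥(pResidual p G) ≤ (T' : Subgroup ↥(pResidual p G)).transferFocal.ker :=
      Helper2.pResidual_le_ker p _ (T'.2.to_quotient _)
    rw [pResidual_pResidual_eq_top, top_le_iff] at h1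
    have h2 := Subgroup.ker_transferFocal_inf_eq_focalSubgroup T'
    rw [h1, top_inf_eq] at h2
    exact h2.symm
  have hTfoc : (S : Subgroup G) ⊓ pResidual p G ≤
      (fusionSystemOfSubgroup (pResidual p G) ((S : Subgroup G) ⊓ pResidual p G) hTK).focalSubgroup := by
    intro t ht
    have ht' : (⟨t, hTK ht⟩ : ↥(pResidual p G)) ∈ (T' : Subgroup ↥(pResidual p G)) := by
      rw [hT']; exact Subgroup.mem_subgroupOf.2 ht
    rw [← hT'foc] at ht'
    have key : ∀ z ∈ (T' : Subgroup ↥(pResidual p G)).focalSubgroup, (z : G) ∈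
        (fusionSystemOfSubgroup (pResidual p G) ((S : Subgroup G) ⊓ pResidual p G) hTK).focalSubgroup := by
      intro z hz
      rw [Subgroup.focalSubgroup_def] at hz
      induction hz using Subgroup.closure_induction with
      | mem z hz =>
        obtain ⟨hzT, x, hxT, u, rfl⟩ := hz
        rw [hT', Subgroup.mem_subgroupOf] at hzT hxT
        have hzT' : (x : G) * u * (x : G)⁻¹ * (u : G)⁻¹ ∈ (S : Subgroup G) ⊓ pResidual p G := hzT
        have hz0 : (x : G)⁻¹ ∈ (S : Subgroup G) ⊓ pResidual p G := Subgroup.inv_mem _ hxT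
        have hle : Subgroup.zpowers ((x : G)⁻¹) ≤ (S : Subgroup G) ⊓ pResidual p G :=
          (Subgroup.zpowers_le).2 hz0
        have hconj : (u : G) * (x : G)⁻¹ * (u : G)⁻¹ ∈ (S : Subgroup G) ⊓ pResidual p G := by
          have e : (u : G) * (x : G)⁻¹ * (u : G)⁻¹ =
              (x : G)⁻¹ * ((x : G) * u * (x : G)⁻¹ * (u : G)⁻¹) := by group
          rw [e]
          exact Subgroup.mul_mem _ hz0 hzT'
        have hφ : conjHom (Subgroup.zpowers ((x : G)⁻¹)) (u : G) ∈
            (fusionSystemOfSubgroup (pResidual p G) ((S : Subgroup G) ⊓ pResidual p G) hTK).Hom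
              (Subgroup.zpowers ((x : G)⁻¹)) := by
          refine ⟨hle, ?_, u, u.2, fun w => rfl⟩
          rintro ⟨_, k, rfl⟩
          show (u : G) * ((x : G)⁻¹) ^ k * (u : G)⁻¹ ∈ _
          have e : (u : G) * ((x : G)⁻¹) ^ k * (u : G)⁻¹ = ((u : G) * (x : G)⁻¹ * (u : G)⁻¹) ^ k :=
            conj_zpow.symm
          rw [e]
          exact Subgroup.zpow_mem _ hconj k
        apply Subgroup.subset_closure
        refine ⟨_, _, ⟨(x : G)⁻¹, Subgroup.mem_zpowers _⟩, hφ, ?_⟩
        show (x : G) * u * (x : G)⁻¹ * (u : G)⁻¹ = ((x : G)⁻¹)⁻¹ * ((u : G) * (x : G)⁻¹ * (u : G)⁻¹)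
        group
      | one => exact Subgroup.one_mem _
      | mul a b _ _ ha hb => exact Subgroup.mul_mem _ ha hb
      | inv a _ ha => exact Subgroup.inv_mem _ ha
    exact key _ ht'
  have hhypT : (fusionSystemOfSubgroup (pResidual p G) ((S : Subgroup G) ⊓ pResidual p G) hTK).hyperfocalSubgroup p ≤
      (S : Subgroup G) ⊓ pResidual p G := by
    unfold hyperfocalSubgroup
    rw [Subgroup.closure_le]
    rintro _ ⟨P, α, x, hPT, -, rfl⟩
    exact Subgroup.mul_mem _ (Subgroup.inv_mem _ (hPT x.2)) (hPT (Subtype.property _))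
  have hTle : (S : Subgroup G) ⊓ pResidual p G ≤
      (fusionSystemOfSubgroup (pResidual p G) ((S : Subgroup G) ⊓ pResidual p G) hTK).hyperfocalSubgroup p := by
    apply le_of_le_sup_commutator hTp hhypT
    rw [← hfoc]
    exact hTfoc
  refine hTle.trans ?_
  unfold hyperfocalSubgroup
  rw [Subgroup.closure_le]
  rintro _ ⟨P, α, x, hPT, hα, rfl⟩
  have hle : (fusionSystemOfSubgroup (pResidual p G) ((S : Subgroup G) ⊓ pResidual p G) hTK).autGroup P ≤
      (groupFusionSystem (S : Subgroup G)).autGroup P := by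
    intro β hβ
    rw [mem_autGroup_iff _ hPT] at hβ
    rw [mem_autGroup_iff _ (hPT.trans hTS)]
    obtain ⟨-, hβT, g, -, hg⟩ := hβ
    exact ⟨hPT.trans hTS, fun x => hTS (hβT x), g, hg⟩
  have h1 := Helper86.pResidual_map_le p hle ⟨α, hα, rfl⟩
  obtain ⟨α', hα', hαα'⟩ := h1
  apply Subgroup.subset_closure
  refine ⟨P, α', x, hPT.trans hTS, hα', ?_⟩
  have e : (α' : MulAut P) = (α : MulAut P) := hαα'
  rw [e]

/-- the hyperfocal subgroup theorem. -/
theorem hyperfocal_eq [Finite G] (p : ℕ) [Fact p.Prime] (S : Sylow p G) :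
    (groupFusionSystem (S : Subgroup G)).hyperfocalSubgroup p = (S : Subgroup G) ⊓ pResidual p G :=
  le_antisymm (hyperfocal_le p S) (le_hyperfocal p S)

end

end Cfsg.Agent.Lib.Helper84
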