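import Mathlib
import Cfsg.Prelude.Def_FusionSystem
import Cfsg.Agent.Lib.Helper84.HypStrongly
import Cfsg.Agent.Lib.Helper86.PPower
import Cfsg.Agent.Lib.Helper87.FusionHyp

set_option autoImplicit false

namespace Cfsg.Agent.Lib.Helper84.PIdxN

open Cfsg Cfsg.FusionSystem
open Cfsg.Agent.Lib.Helper88 (Mor extFun extFun_mem extFun_apply img mor_of_hom hom_of_mor mor_conj mor_id)

variable {Ω : Type*} [Group Ω] {S T : Subgroup Ω}

/-- `f` on `P` and all its conjugates under `S` are maps of `E`. -/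
def SInv (E : FusionSystem T) (S P : Subgroup Ω) (f : Ω → Ω) : Prop :=
  ∀ s ∈ S, ∀ Q : Subgroup Ω, (∀ y ∈ Q, s⁻¹ * y * s ∈ P) →
    Mor E Q (fun y => s * f (s⁻¹ * y * s) * s⁻¹)

theorem SInv.congr {E : FusionSystem T} {P : Subgroup Ω} {f g : Ω → Ω} (h : SInv E S P f)
    (hfg : ∀ x ∈ P, f x = g x) : SInv E S P g := by
  intro s hs Q hQ
  refine (h s hs Q hQ).congr ?_
  intro y hy
  show s * f (s⁻¹ * y * s) * s⁻¹ = s * g (s⁻¹ * y * s) * s⁻¹
  rw [hfg _ (hQ y hy)]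

theorem mem_conjMap {P : Subgroup Ω} {s q : Ω} (hq : q ∈ P) :
    s * q * s⁻¹ ∈ P.map (MulAut.conj s).toMonoidHom := ⟨q, hq, rfl⟩

theorem conjMap_back {P : Subgroup Ω} {s : Ω} :
    ∀ y ∈ P.map (MulAut.conj s).toMonoidHom, s⁻¹ * y * s ∈ P := by
  rintro _ ⟨q, hq, rfl⟩
  have : s⁻¹ * ((MulAut.conj s).toMonoidHom q) * s = q := by
    show s⁻¹ * (s * q * s⁻¹) * s = q
    group
  rw [this]
  exact hq

/-- conjugating an element of `O^p(Aut_F(P))` by an element of `S`. -/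
theorem conj_residual (F : FusionSystem S) (p : ℕ) {P : Subgroup Ω} (hP : P ≤ S) {s : Ω}
    (hs : s ∈ S) {γ : MulAut P}
    (hγ : γ ∈ (pResidual p ↥(F.autGroup P)).map (F.autGroup P).subtype) :
    ∃ γ' : MulAut ↥(P.map (MulAut.conj s).toMonoidHom),
      γ' ∈ (pResidual p ↥(F.autGroup (P.map (MulAut.conj s).toMonoidHom))).map
        (F.autGroup (P.map (MulAut.conj s).toMonoidHom)).subtype ∧
      ∀ (y : ↥(P.map (MulAut.conj s).toMonoidHom)) (hy : s⁻¹ * (y : Ω) * s ∈ P),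
        ((γ' y : ↥(P.map (MulAut.conj s).toMonoidHom)) : Ω)
          = s * ((γ ⟨s⁻¹ * y * s, hy⟩ : P) : Ω) * s⁻¹ := by
  obtain ⟨e, he_apply⟩ : ∃ (e : P ≃* ↥(P.map (MulAut.conj s).toMonoidHom)),
      ∀ x : P, ((e x : ↥(P.map (MulAut.conj s).toMonoidHom)) : Ω) = s * x * s⁻¹ :=
    ⟨(MulAut.conj s).subgroupMap P, fun x => rfl⟩
  have he : Helper87.IsIso F e := by
    have h1 : conjHom P s ∈ F.Hom P := F.conj_mem hP hs
    have h2 : conjHom P s = (P.map (MulAut.conj s).toMonoidHom).subtype.comp e.toMonoidHom := by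
      ext x
      exact (he_apply x).symm
    rw [h2] at h1
    exact h1
  refine ⟨MulAut.congr e γ, Helper87.map_pResidual_congr p (MulAut.congr e)
    (fun a ha => Helper87.congr_mem_autGroup F he ha) hγ, ?_⟩
  intro y hy
  have e1 : e.symm y = ⟨s⁻¹ * y * s, hy⟩ := by
    rw [MulEquiv.symm_apply_eq]
    apply Subtype.ext
    rw [he_apply]
    show (y : Ω) = s * (s⁻¹ * y * s) * s⁻¹
    group
  show ((e (γ (e.symm y)) : ↥(P.map (MulAut.conj s).toMonoidHom)) : Ω) = _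
  rw [he_apply, e1]

/-- the subsystem of `E` of the maps all of whose `S`-conjugates are in `E`. -/
def dSys (E : FusionSystem T) (S : Subgroup Ω) (hn : ∀ s ∈ S, ∀ t ∈ T, s * t * s⁻¹ ∈ T) :
    FusionSystem T where
  Hom P := {φ | φ ∈ E.Hom P ∧ SInv E S P (extFun φ)}
  le_of_mem h := E.le_of_mem h.1
  injective_of_mem h := E.injective_of_mem h.1
  conj_mem := by
    intro P g hP hg
    refine ⟨E.conj_mem hP hg, ?_⟩
    intro s hs Q hQ
    have hQT : Q ≤ T := by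
      intro y hy
      have h1 := hn s hs _ (hP (hQ y hy))
      have h2 : s * (s⁻¹ * y * s) * s⁻¹ = y := by group
      rwa [h2] at h1
    refine (mor_conj E hQT (hn s hs g hg)).congr ?_
    intro y hy
    rw [extFun_mem _ (hQ y hy)]
    show s * g * s⁻¹ * y * (s * g * s⁻¹)⁻¹ = s * (g * (s⁻¹ * y * s) * g⁻¹) * s⁻¹
    group
  comp_mem := by
    intro P Q φ ψ hφ hψ h
    refine ⟨E.comp_mem hφ.1 hψ.1 h, ?_⟩
    intro s hs R hR
    have h1 := hφ.2 s hs R hR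
    have h2 := hψ.2 s hs (Q.map (MulAut.conj s).toMonoidHom) conjMap_back
    refine (h1.comp h2 ?_).congr ?_
    · intro y hy
      refine ⟨extFun φ (s⁻¹ * y * s), ?_, rfl⟩
      rw [extFun_mem _ (hR y hy)]
      exact h _
    · intro y hy
      show s * extFun ψ (s⁻¹ * (s * extFun φ (s⁻¹ * y * s) * s⁻¹) * s) * s⁻¹
        = s * extFun (ψ.comp (φ.codRestrict Q h)) (s⁻¹ * y * s) * s⁻¹
      have e1 : s⁻¹ * (s * extFun φ (s⁻¹ * y * s) * s⁻¹) * s = extFun φ (s⁻¹ * y * s) := by group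
      rw [e1, extFun_mem φ (hR y hy), extFun_mem _ (hR y hy), extFun_mem ψ (h _)]
      rfl
  inv_mem := by
    intro P φ hφ
    obtain ⟨ψ, hψ, hψφ⟩ := E.inv_mem hφ.1
    refine ⟨ψ, ⟨hψ, ?_⟩, hψφ⟩
    intro s hs R hR
    have h1 := hφ.2 s hs (P.map (MulAut.conj s).toMonoidHom) conjMap_back
    obtain ⟨g, hg, hgf⟩ := h1.exists_inv
    have key : ∀ y ∈ R, ∃ x : P, y = s * extFun φ (s⁻¹ * (s * (x : Ω) * s⁻¹) * s) * s⁻¹ ∧
        extFun ψ (s⁻¹ * y * s) = x := by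
      intro y hy
      obtain ⟨x, hx⟩ := hR y hy
      refine ⟨x, ?_, ?_⟩
      · have e1 : s⁻¹ * (s * (x : Ω) * s⁻¹) * s = x := by group
        rw [e1, extFun_apply, hx]
        group
      · rw [extFun_mem ψ (hR y hy)]
        have : (⟨s⁻¹ * y * s, hR y hy⟩ : φ.range) = ⟨φ x, ⟨x, rfl⟩⟩ := Subtype.ext hx.symm
        rw [this]
        exact hψφ x
    have hRle : R ≤ img (P.map (MulAut.conj s).toMonoidHom)
        (fun y => s * extFun φ (s⁻¹ * y * s) * s⁻¹) := by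
      intro y hy
      obtain ⟨x, hx, -⟩ := key y hy
      exact h1.mem_img.mpr ⟨s * x * s⁻¹, mem_conjMap x.2, hx.symm⟩
    refine (hg.res hRle).congr ?_
    intro y hy
    obtain ⟨x, hx, hx2⟩ := key y hy
    have e2 := hgf (s * x * s⁻¹) (mem_conjMap x.2)
    show g y = s * extFun ψ (s⁻¹ * y * s) * s⁻¹
    rw [hx2]
    conv_lhs => rw [hx]
    exact e2

theorem dSys_index (p : ℕ) (F : FusionSystem S) (E : FusionSystem T) (hTS : T ≤ S)
    (hn : ∀ s ∈ S, ∀ t ∈ T, s * t * s⁻¹ ∈ T) (hEi : E.HasPPowerIndexIn F p) :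
    (dSys E S hn).HasPPowerIndexIn F p := by
  refine ⟨fun P φ hφ => hEi.1 P hφ.1, hEi.2.1, ?_⟩
  intro P hPT γ hγ
  have hγE := hEi.2.2 P hPT hγ
  apply Subgroup.subset_closure
  show P.subtype.comp γ.toMonoidHom ∈ (dSys E S hn).Hom P
  refine ⟨Helper88.subtype_comp_mem E hPT hγE, ?_⟩
  intro s hs Q hQ
  obtain ⟨γ', hγ', hγ'x⟩ := conj_residual F p (hPT.trans hTS) hs hγ
  have hP'T : P.map (MulAut.conj s).toMonoidHom ≤ T := by
    rintro _ ⟨q, hq, rfl⟩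
    exact hn s hs q (hPT hq)
  have hγ'E := hEi.2.2 _ hP'T hγ'
  have hmor := (Helper88.mem_autGroup_iff E hP'T γ').mp hγ'E
  have hQP' : Q ≤ P.map (MulAut.conj s).toMonoidHom := by
    intro y hy
    refine ⟨s⁻¹ * y * s, hQ y hy, ?_⟩
    show s * (s⁻¹ * y * s) * s⁻¹ = y
    group
  refine (hmor.res hQP').congr ?_
  intro y hy
  rw [extFun_mem _ (hQP' hy), extFun_mem _ (hQ y hy)]
  exact hγ'x ⟨y, hQP' hy⟩ (hQ y hy)

/-- every map of a saturated subsystem of `p`-power index has all its `S`-conjugates in the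
subsystem. -/
theorem sInv_of_mor [Finite S] {p : ℕ} [Fact p.Prime] (hS : IsPGroup p S) (F : FusionSystem S)
    (E : FusionSystem T) (hTS : T ≤ S) (hn : ∀ s ∈ S, ∀ t ∈ T, s * t * s⁻¹ ∈ T)
    (hEs : E.IsSaturated p) (hEi : E.HasPPowerIndexIn F p) (P : Subgroup Ω) (f : Ω → Ω)
    (hf : Mor E P f) : SInv E S P f := by
  have h1 := Helper86.le_of_hasPPowerIndexIn hS F E hEs hEi.1 (dSys E S hn) le_rfl
    (dSys_index p F E hTS hn hEi)
  obtain ⟨φ, hφ, hφf⟩ := hf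
  have h2 := (h1 P hφ).2
  refine h2.congr ?_
  intro x hx
  rw [extFun_mem _ hx]
  exact hφf ⟨x, hx⟩

end Cfsg.Agent.Lib.Helper84.PIdxN
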