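import Mathlib
import Cfsg.Prelude.Def_FusionSystem
import Cfsg.Agent.Lib.Helper84.PIdxN1

set_option autoImplicit false

namespace Cfsg.Agent.Lib.Helper84.PIdxN

open Cfsg Cfsg.FusionSystem
open Cfsg.Agent.Lib.Helper88 (Mor extFun extFun_mem extFun_apply img mor_of_hom hom_of_mor mor_conj mor_id)

variable {Ω : Type*} [Group Ω] {S T : Subgroup Ω}

/-- the maps of `F` that, up to conjugation in `S`, restrict on the part of their source inside
`T` to a map of `E`, and reflect membership in `T`. -/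
def fSys (F : FusionSystem S) (E : FusionSystem T) (hn : ∀ s ∈ S, ∀ t ∈ T, s * t * s⁻¹ ∈ T)
    (hinv : ∀ (P : Subgroup Ω) (f : Ω → Ω), Mor E P f → SInv E S P f) : FusionSystem S where
  Hom P := {φ | φ ∈ F.Hom P ∧ (∀ x : P, φ x ∈ T → (x : Ω) ∈ T) ∧
    ∃ s ∈ S, Mor E (P ⊓ T) (fun x => s⁻¹ * extFun φ x * s)}
  le_of_mem h := F.le_of_mem h.1
  injective_of_mem h := F.injective_of_mem h.1
  conj_mem := by
    intro P g hP hg
    refine ⟨F.conj_mem hP hg, ?_, g, hg, ?_⟩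
    · intro x hx
      have h1 := hn g⁻¹ (S.inv_mem hg) _ hx
      have h2 : g⁻¹ * (conjHom P g x) * g⁻¹⁻¹ = x := by
        show g⁻¹ * (g * x * g⁻¹) * g⁻¹⁻¹ = x
        group
      rwa [h2] at h1
    · refine (mor_id E inf_le_right).congr ?_
      intro x hx
      rw [extFun_mem _ hx.1]
      show x = g⁻¹ * (g * x * g⁻¹) * g
      group
  comp_mem := by
    intro P Q φ ψ hφ hψ h
    obtain ⟨hφF, hφT, s, hs, hφE⟩ := hφ
    obtain ⟨hψF, hψT, t, ht, hψE⟩ := hψ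
    refine ⟨F.comp_mem hφF hψF h, ?_, t * s, S.mul_mem ht hs, ?_⟩
    · intro x hx
      exact hφT x (hψT ⟨φ x, h x⟩ hx)
    · have h2 := hinv _ _ hψE s⁻¹ (S.inv_mem hs)
        (img (P ⊓ T) (fun x => s⁻¹ * extFun φ x * s)) (by
        intro w hw
        obtain ⟨x, hx, rfl⟩ := hφE.mem_img.mp hw
        have e1 : s⁻¹⁻¹ * (s⁻¹ * extFun φ x * s) * s⁻¹ = extFun φ x := by group
        rw [e1, extFun_mem _ hx.1]
        refine ⟨h _, ?_⟩
        have h3 := hφE.mem_S hx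
        have h4 := hn s hs _ h3
        rw [extFun_mem _ hx.1] at h4
        have e2 : s * (s⁻¹ * φ ⟨x, hx.1⟩ * s) * s⁻¹ = φ ⟨x, hx.1⟩ := by group
        rwa [e2] at h4)
      refine (hφE.comp h2 (fun x hx => hφE.apply_mem_img hx)).congr ?_
      intro x hx
      show s⁻¹ * (t⁻¹ * extFun ψ (s⁻¹⁻¹ * (s⁻¹ * extFun φ x * s) * s⁻¹) * t) * s⁻¹⁻¹
        = (t * s)⁻¹ * extFun (ψ.comp (φ.codRestrict Q h)) x * (t * s)
      have e1 : s⁻¹⁻¹ * (s⁻¹ * extFun φ x * s) * s⁻¹ = extFun φ x := by group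
      rw [e1, extFun_mem φ hx.1, extFun_mem _ hx.1, extFun_mem ψ (h _)]
      show s⁻¹ * (t⁻¹ * ψ ⟨φ ⟨x, hx.1⟩, h _⟩ * t) * s⁻¹⁻¹
        = (t * s)⁻¹ * ψ ⟨φ ⟨x, hx.1⟩, h _⟩ * (t * s)
      group
  inv_mem := by
    intro P φ hφ
    obtain ⟨hφF, hφT, s, hs, hφE⟩ := hφ
    obtain ⟨ψ, hψ, hψφ⟩ := F.inv_mem hφF
    have hT' : ∀ x : P, (x : Ω) ∈ T → φ x ∈ T := by
      intro x hx
      have h3 := hφE.mem_S (show (x : Ω) ∈ P ⊓ T from ⟨x.2, hx⟩)
      have h4 := hn s hs _ h3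
      rw [extFun_apply] at h4
      have e2 : s * (s⁻¹ * φ x * s) * s⁻¹ = φ x := by group
      rwa [e2] at h4
    refine ⟨ψ, ⟨hψ, ?_, s⁻¹, S.inv_mem hs, ?_⟩, hψφ⟩
    · rintro ⟨_, x, rfl⟩ hx
      rw [hψφ x] at hx
      exact hT' x hx
    · have h1 := hinv _ _ hφE s hs ((P ⊓ T).map (MulAut.conj s).toMonoidHom) conjMap_back
      obtain ⟨g, hg, hgf⟩ := h1.exists_inv
      have key : ∀ z ∈ φ.range ⊓ T, ∃ x : P, (x : Ω) ∈ T ∧ φ x = z := by
        rintro z ⟨⟨x, rfl⟩, hz⟩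
        exact ⟨x, hφT x hz, rfl⟩
      have e3 : ∀ x : P, s * (s⁻¹ * extFun φ (s⁻¹ * (s * (x : Ω) * s⁻¹) * s) * s) * s⁻¹ = φ x := by
        intro x
        have e1 : s⁻¹ * (s * (x : Ω) * s⁻¹) * s = x := by group
        rw [e1, extFun_apply]
        group
      have hle : φ.range ⊓ T ≤ img ((P ⊓ T).map (MulAut.conj s).toMonoidHom)
          (fun y => s * (s⁻¹ * extFun φ (s⁻¹ * y * s) * s) * s⁻¹) := by
        intro z hz
        obtain ⟨x, hxT, rfl⟩ := key z hz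
        exact h1.mem_img.mpr ⟨s * x * s⁻¹, mem_conjMap ⟨x.2, hxT⟩, e3 x⟩
      refine (hg.res hle).congr ?_
      intro z hz
      obtain ⟨x, hxT, rfl⟩ := key z hz
      have e2 := hgf (s * x * s⁻¹) (mem_conjMap ⟨x.2, hxT⟩)
      rw [e3 x] at e2
      rw [e2, extFun_mem ψ ⟨x, rfl⟩, hψφ x]
      group

/-- **Frattini-type decomposition**: a saturated system is contained in `fSys`. -/
theorem le_fSys [Finite S] (p : ℕ) [Fact p.Prime] (hS : IsPGroup p S) (F : FusionSystem S)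
    (hF : F.IsSaturated p) (hn : ∀ s ∈ S, ∀ t ∈ T, s * t * s⁻¹ ∈ T)
    (hT : F.hyperfocalSubgroup p ≤ T) (E : FusionSystem T) (hEi : E.HasPPowerIndexIn F p)
    (hinv : ∀ (P : Subgroup Ω) (f : Ω → Ω), Mor E P f → SInv E S P f) :
    F ≤ fSys F E hn hinv := by
  apply alperin_ih p hS F hF
  intro P hfn _
  have hPS : P ≤ S := hfn.1
  have hfa := fullyAutomized_of_fullyNormalized p hS F hF hfn
  have hle : (pResidual p ↥(F.autGroup P)).map (F.autGroup P).subtype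
      ≤ (fSys F E hn hinv).autGroup P := by
    rw [Helper87.map_pResidual_eq_closure, Subgroup.closure_le]
    rintro a ⟨haF, hcop⟩
    have haR : a ∈ (pResidual p ↥(F.autGroup P)).map (F.autGroup P).subtype := by
      rw [Helper87.map_pResidual_eq_closure]
      exact Subgroup.subset_closure ⟨haF, hcop⟩
    have hyp : ∀ x : P, (x : Ω)⁻¹ * ((a x : P) : Ω) ∈ T :=
      fun x => hT (Helper87.hyperfocal_gen F p hPS haR x)
    have h1 : ∀ x : P, ((a x : P) : Ω) ∈ T → (x : Ω) ∈ T := by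
      intro x hx
      have h2 := T.mul_mem hx (T.inv_mem (hyp x))
      have e : ((a x : P) : Ω) * ((x : Ω)⁻¹ * ((a x : P) : Ω))⁻¹ = x := by group
      rwa [e] at h2
    have h1' : ∀ x : P, (x : Ω) ∈ T → ((a x : P) : Ω) ∈ T := by
      intro x hx
      have h2 := T.mul_mem hx (hyp x)
      have e : (x : Ω) * ((x : Ω)⁻¹ * ((a x : P) : Ω)) = ((a x : P) : Ω) := by group
      rwa [e] at h2
    have h1'' : ∀ x : P, (x : Ω) ∈ T → ((a⁻¹ x : P) : Ω) ∈ T := by
      intro x hx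
      apply h1
      have e : a (a⁻¹ x) = x := by simp
      rw [e]
      exact hx
    apply Subgroup.subset_closure
    show P.subtype.comp a.toMonoidHom ∈ (fSys F E hn hinv).Hom P
    refine ⟨Helper88.subtype_comp_mem F hPS haF, h1, 1, S.one_mem, ?_⟩
    have hmorP := (Helper88.mem_autGroup_iff F hPS a).mp haF
    have ha'F : Helper86.restrictAut a T h1' h1'' ∈ F.autGroup (P ⊓ T) := by
      rw [Helper88.mem_autGroup_iff F (inf_le_left.trans hPS)]
      refine (hmorP.res inf_le_left).congr ?_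
      intro x hx
      rw [extFun_mem _ hx.1, extFun_mem _ hx]
      rfl
    have hord : orderOf (Helper86.restrictAut a T h1' h1'') ∣ orderOf a := by
      apply orderOf_dvd_of_pow_eq_one
      ext z
      rw [Helper86.restrictAut_pow_apply, pow_orderOf_eq_one]
      rfl
    have ha'R : Helper86.restrictAut a T h1' h1'' ∈
        (pResidual p ↥(F.autGroup (P ⊓ T))).map (F.autGroup (P ⊓ T)).subtype := by
      rw [Helper87.map_pResidual_eq_closure]
      exact Subgroup.subset_closure ⟨ha'F, Nat.Coprime.coprime_dvd_left hord hcop⟩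
    have ha'E := hEi.2.2 (P ⊓ T) inf_le_right ha'R
    have hmor := (Helper88.mem_autGroup_iff E inf_le_right _).mp ha'E
    refine hmor.congr ?_
    intro x hx
    rw [extFun_mem _ hx, extFun_mem _ hx.1]
    show ((a ⟨x, hx.1⟩ : P) : Ω) = 1⁻¹ * ((a ⟨x, hx.1⟩ : P) : Ω) * 1
    group
  intro α hα
  obtain ⟨c, hc, β, hβ, rfl⟩ := Helper87.exists_aut_mul_pResidual F hfa hα
  exact Subgroup.mul_mem _ (autInducedBy_le_autGroup _ hPS hc) (hle hβ)

end Cfsg.Agent.Lib.Helper84.PIdxN
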