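import Mathlib
import Cfsg.Prelude.Def_FusionSystem
import Cfsg.Agent.Lib.Helper84.PIdxN2

set_option autoImplicit false

namespace Cfsg.Agent.Lib.Helper84.PIdxN

open Cfsg Cfsg.FusionSystem
open Cfsg.Agent.Lib.Helper88 (Mor extFun extFun_mem extFun_apply img mor_of_hom hom_of_mor mor_conj mor_id)

variable {Ω : Type*} [Group Ω] {S T : Subgroup Ω}

theorem fullyNormalized_of_normal [Finite S] (F : FusionSystem S) (hTS : T ≤ S)
    (hn : ∀ s ∈ S, ∀ t ∈ T, s * t * s⁻¹ ∈ T) : F.IsFullyNormalized T := by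
  refine ⟨hTS, fun Q _ => ?_⟩
  have h1 : normalizerIn S T = S := by
    apply le_antisymm (normalizerIn_le S T)
    intro s hs
    refine ⟨hs, ?_⟩
    show s ∈ Subgroup.normalizer (T : Set Ω)
    rw [Subgroup.mem_normalizer_iff]
    intro h
    constructor
    · intro hh
      exact hn s hs h hh
    · intro hh
      have h2 := hn s⁻¹ (S.inv_mem hs) _ hh
      have e : s⁻¹ * (s * h * s⁻¹) * s⁻¹⁻¹ = h := by group
      rwa [e] at h2
  rw [h1]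
  exact Subgroup.card_le_of_le (normalizerIn_le S Q)

theorem stronglyClosed_of_le {F : FusionSystem S} {E : FusionSystem T} (hTS : T ≤ S)
    {hn : ∀ s ∈ S, ∀ t ∈ T, s * t * s⁻¹ ∈ T}
    {hinv : ∀ (P : Subgroup Ω) (f : Ω → Ω), Mor E P f → SInv E S P f}
    (hle : F ≤ fSys F E hn hinv) : F.StronglyClosed T := by
  refine ⟨hTS, fun R hRT φ hφ x => ?_⟩
  obtain ⟨-, -, s, hs, hmor⟩ := hle R hφ
  have h3 := hmor.mem_S (show (x : Ω) ∈ R ⊓ T from ⟨x.2, hRT x.2⟩)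
  have h4 := hn s hs _ h3
  rw [extFun_apply] at h4
  have e2 : s * (s⁻¹ * φ x * s) * s⁻¹ = φ x := by group
  rwa [e2] at h4

theorem frattini_of_le [Finite S] {F : FusionSystem S} {E : FusionSystem T} (hTS : T ≤ S)
    {hn : ∀ s ∈ S, ∀ t ∈ T, s * t * s⁻¹ ∈ T}
    {hinv : ∀ (P : Subgroup Ω) (f : Ω → Ω), Mor E P f → SInv E S P f}
    (hle : F ≤ fSys F E hn hinv) :
    ∀ (P : Subgroup Ω), P ≤ T → ∀ (φ : P →* Ω), φ ∈ F.Hom P →
      ∃ α ∈ F.autGroup T, ∃ φ₀ ∈ E.Hom P, ∀ (x : P) (hx : φ₀ x ∈ T),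
        φ x = ((α ⟨φ₀ x, hx⟩ : T) : Ω) := by
  intro P hPT φ hφ
  obtain ⟨-, -, s, hs, hmor⟩ := hle P hφ
  obtain ⟨φ₀, hφ₀, hφ₀f⟩ := hmor.res (le_inf le_rfl hPT)
  obtain ⟨α, hα, hαx⟩ := (mor_conj F hTS hs).exists_aut (fun x hx => hn s hs x hx)
  refine ⟨α, hα, φ₀, hφ₀, fun x hx => ?_⟩
  rw [hαx]
  have h1 : φ₀ x = s⁻¹ * extFun φ x * s := hφ₀f x
  show φ x = s * φ₀ x * s⁻¹
  rw [h1, extFun_apply]
  group

theorem invariant_of [Finite S] (p : ℕ) [Fact p.Prime] (hS : IsPGroup p S) (F : FusionSystem S)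
    (hF : F.IsSaturated p) (hTS : T ≤ S) (hn : ∀ s ∈ S, ∀ t ∈ T, s * t * s⁻¹ ∈ T)
    (E : FusionSystem T) (hEi : E.HasPPowerIndexIn F p)
    (hinv : ∀ (P : Subgroup Ω) (f : Ω → Ω), Mor E P f → SInv E S P f) :
    ∀ (P : Subgroup Ω) (hPT : P ≤ T) (φ : P →* Ω), φ ∈ E.Hom P → ∀ α ∈ F.autGroup T,
      ∃ χ ∈ E.Hom ((P.subgroupOf T).map (T.subtype.comp α.toMonoidHom)),
        ∀ (x : P) (hφx : φ x ∈ T)
          (hαx : ((α ⟨x, hPT x.2⟩ : T) : Ω) ∈ (P.subgroupOf T).map (T.subtype.comp α.toMonoidHom)),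
          χ ⟨(α ⟨x, hPT x.2⟩ : T), hαx⟩ = ((α ⟨φ x, hφx⟩ : T) : Ω) := by
  intro P hPT φ hφ α hα
  have hfn := fullyNormalized_of_normal F hTS hn
  have hfa := fullyAutomized_of_fullyNormalized p hS F hF hfn
  obtain ⟨c, hc, β, hβ, rfl⟩ := Helper87.exists_aut_mul_pResidual F hfa hα
  obtain ⟨s, hs, hcs⟩ := (Helper88.mem_autInducedBy_iff S T c).mp hc
  have hβE : β ∈ E.autGroup T := hEi.2.2 T le_rfl hβ
  have hβm := (Helper88.mem_autGroup_iff E le_rfl β).mp hβE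
  have hβim := (Helper88.mem_autGroup_iff E le_rfl β⁻¹).mp (Subgroup.inv_mem _ hβE)
  have hβP := hβm.res hPT
  have hRT : img P (extFun (fun x : T => ((β x : T) : Ω))) ≤ T := hβP.img_le
  have hm1 := hβim.res hRT
  have hback : ∀ y ∈ img P (extFun (fun x : T => ((β x : T) : Ω))),
      extFun (fun x : T => ((β⁻¹ x : T) : Ω)) y ∈ P := by
    intro y hy
    obtain ⟨x, hx, rfl⟩ := hβP.mem_img.mp hy
    rw [extFun_mem _ (hPT hx), extFun_apply]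
    have : β⁻¹ (β ⟨x, hPT hx⟩) = ⟨x, hPT hx⟩ := by simp
    rw [this]
    exact hx
  have hm2 := hm1.comp (mor_of_hom E hφ) hback
  have hm3 := hm2.comp hβm (fun y hy => (mor_of_hom E hφ).mem_S (hback y hy))
  have hQ : ∀ y ∈ (P.subgroupOf T).map (T.subtype.comp (c * β).toMonoidHom),
      s⁻¹ * y * s ∈ img P (extFun (fun x : T => ((β x : T) : Ω))) := by
    rintro _ ⟨u, hu, rfl⟩
    have hu' : (u : Ω) ∈ P := Subgroup.mem_subgroupOf.mp hu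
    refine hβP.mem_img.mpr ⟨u, hu', ?_⟩
    rw [extFun_apply]
    show ((β u : T) : Ω) = s⁻¹ * ((c (β u) : T) : Ω) * s
    rw [hcs]
    group
  obtain ⟨χ, hχ, hχf⟩ := hinv _ _ hm3 s hs _ hQ
  refine ⟨χ, hχ, ?_⟩
  intro x hφx hαx
  rw [hχf]
  have e1 : s⁻¹ * ((c (β ⟨x, hPT x.2⟩) : T) : Ω) * s = ((β ⟨x, hPT x.2⟩ : T) : Ω) := by
    rw [hcs]
    group
  show s * extFun (fun x : T => ((β x : T) : Ω)) (extFun φ (extFun (fun x : T => ((β⁻¹ x : T) : Ω))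
    (s⁻¹ * ((c (β ⟨x, hPT x.2⟩) : T) : Ω) * s))) * s⁻¹ = ((c (β ⟨φ x, hφx⟩) : T) : Ω)
  rw [e1, extFun_apply]
  have e2 : β⁻¹ (β ⟨x, hPT x.2⟩) = ⟨x, hPT x.2⟩ := by simp
  rw [e2]
  show s * extFun (fun x : T => ((β x : T) : Ω)) (extFun φ (x : Ω)) * s⁻¹ = _
  rw [extFun_apply, extFun_mem _ hφx, hcs]

/-! ### The extension condition -/

/-- the automorphisms of `T` that extend suitably to `T C_S(T)`. -/
def Ext (F : FusionSystem S) (T : Subgroup Ω) (α : MulAut T) : Prop :=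
  ∃ β ∈ F.autGroup (T ⊔ centralizerIn S T),
    (∀ x : T, ((β (Subgroup.inclusion le_sup_left x) : ↥(T ⊔ centralizerIn S T)) : Ω)
      = ((α x : T) : Ω)) ∧
    ∀ c : ↥(T ⊔ centralizerIn S T), (c : Ω) ∈ centralizerIn S T →
      (c : Ω)⁻¹ * ((β c : ↥(T ⊔ centralizerIn S T)) : Ω) ∈ T ⊓ Subgroup.centralizer (T : Set Ω)

theorem aut_center_mem (α : MulAut T) {z : Ω} (hz : z ∈ T ⊓ Subgroup.centralizer (T : Set Ω)) :
    ((α ⟨z, hz.1⟩ : T) : Ω) ∈ T ⊓ Subgroup.centralizer (T : Set Ω) := by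
  refine ⟨(α _).2, ?_⟩
  show _ ∈ Subgroup.centralizer (T : Set Ω)
  rw [Subgroup.mem_centralizer_iff]
  intro t ht
  have h1 : (⟨t, ht⟩ : T) = α (α⁻¹ ⟨t, ht⟩) := by simp
  have h2 : (α⁻¹ ⟨t, ht⟩ : T) * ⟨z, hz.1⟩ = ⟨z, hz.1⟩ * α⁻¹ ⟨t, ht⟩ := by
    apply Subtype.ext
    exact (Subgroup.mem_centralizer_iff.mp hz.2) _ (α⁻¹ ⟨t, ht⟩).2
  have h3 : α (α⁻¹ ⟨t, ht⟩) * α ⟨z, hz.1⟩ = α ⟨z, hz.1⟩ * α (α⁻¹ ⟨t, ht⟩) := by
    rw [← map_mul, ← map_mul, h2]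
  rw [← h1] at h3
  exact congrArg Subtype.val h3

theorem aut_cent_mem {K : Subgroup Ω} (hTK : T ≤ K) (β : MulAut K) (α : MulAut T)
    (h : ∀ x : T, ((β (Subgroup.inclusion hTK x) : K) : Ω) = ((α x : T) : Ω)) (c : K)
    (hc : (c : Ω) ∈ Subgroup.centralizer (T : Set Ω)) :
    ((β c : K) : Ω) ∈ Subgroup.centralizer (T : Set Ω) := by
  rw [Subgroup.mem_centralizer_iff]
  intro t ht
  have e1 : ((β (Subgroup.inclusion hTK (α⁻¹ ⟨t, ht⟩)) : K) : Ω) = t := by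
    rw [h]
    simp
  have e2 : Subgroup.inclusion hTK (α⁻¹ ⟨t, ht⟩) * c = c * Subgroup.inclusion hTK (α⁻¹ ⟨t, ht⟩) := by
    apply Subtype.ext
    exact (Subgroup.mem_centralizer_iff.mp hc) _ (α⁻¹ ⟨t, ht⟩).2
  have e3 : β (Subgroup.inclusion hTK (α⁻¹ ⟨t, ht⟩)) * β c
      = β c * β (Subgroup.inclusion hTK (α⁻¹ ⟨t, ht⟩)) := by
    rw [← map_mul, ← map_mul, e2]
  have e4 := congrArg Subtype.val e3
  rw [Subgroup.coe_mul, Subgroup.coe_mul, e1] at e4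
  exact e4

theorem ext_one (F : FusionSystem S) (T : Subgroup Ω) : Ext F T 1 := by
  refine ⟨1, Subgroup.one_mem _, fun x => rfl, fun c _ => ?_⟩
  have e : (c : Ω)⁻¹ * (((1 : MulAut ↥(T ⊔ centralizerIn S T)) c : ↥(T ⊔ centralizerIn S T)) : Ω)
      = 1 := by
    show (c : Ω)⁻¹ * (c : Ω) = 1
    group
  rw [e]
  exact Subgroup.one_mem _

theorem Ext.mul {F : FusionSystem S} {α₁ α₂ : MulAut T} (h₁ : Ext F T α₁) (h₂ : Ext F T α₂) :
    Ext F T (α₁ * α₂) := by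
  obtain ⟨β₁, hβ₁, hx₁, hc₁⟩ := h₁
  obtain ⟨β₂, hβ₂, hx₂, hc₂⟩ := h₂
  refine ⟨β₁ * β₂, Subgroup.mul_mem _ hβ₁ hβ₂, ?_, ?_⟩
  · intro x
    show ((β₁ (β₂ (Subgroup.inclusion le_sup_left x)) : ↥(T ⊔ centralizerIn S T)) : Ω)
      = ((α₁ (α₂ x) : T) : Ω)
    have e : β₂ (Subgroup.inclusion le_sup_left x) = Subgroup.inclusion le_sup_left (α₂ x) :=
      Subtype.ext (hx₂ x)
    rw [e, hx₁]
  · intro c hc
    have hz := hc₂ c hc
    have e : β₂ c = c * Subgroup.inclusion le_sup_left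
        (⟨(c : Ω)⁻¹ * ((β₂ c : ↥(T ⊔ centralizerIn S T)) : Ω), hz.1⟩ : T) := by
      apply Subtype.ext
      show ((β₂ c : ↥(T ⊔ centralizerIn S T)) : Ω)
        = (c : Ω) * ((c : Ω)⁻¹ * ((β₂ c : ↥(T ⊔ centralizerIn S T)) : Ω))
      group
    show (c : Ω)⁻¹ * ((β₁ (β₂ c) : ↥(T ⊔ centralizerIn S T)) : Ω) ∈ _
    rw [e, map_mul, Subgroup.coe_mul, ← mul_assoc, hx₁]
    exact Subgroup.mul_mem _ (hc₁ c hc) (aut_center_mem α₁ hz)

theorem Ext.pow {F : FusionSystem S} {α : MulAut T} (h : Ext F T α) (k : ℕ) : Ext F T (α ^ k) := by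
  induction k with
  | zero => rw [pow_zero]; exact ext_one F T
  | succ k ih => rw [pow_succ]; exact ih.mul h

/-- the subgroup of the automorphisms of `T` with a suitable extension. -/
def extSubgroup (F : FusionSystem S) (T : Subgroup Ω) [Finite T] :
    Subgroup (MulAut T) where
  carrier := {α | Ext F T α}
  mul_mem' := fun h₁ h₂ => h₁.mul h₂
  one_mem' := ext_one F T
  inv_mem' := by
    intro α hα
    have hpos : 0 < orderOf α := orderOf_pos α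
    have e : α⁻¹ = α ^ (orderOf α - 1) := by
      apply inv_eq_of_mul_eq_one_right
      rw [← pow_succ', Nat.sub_add_cancel hpos, pow_orderOf_eq_one]
    show Ext F T α⁻¹
    rw [e]
    exact hα.pow _

theorem ext_inner [Finite S] (F : FusionSystem S) (hTS : T ≤ S) {c : MulAut T} {g : Ω}
    (hg : g ∈ T) (hc : ∀ x : T, ((c x : T) : Ω) = g * x * g⁻¹) : Ext F T c := by
  have hK : T ⊔ centralizerIn S T ≤ S := sup_le hTS (centralizerIn_le S T)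
  have hgK : g ∈ T ⊔ centralizerIn S T := (le_sup_left : T ≤ T ⊔ centralizerIn S T) hg
  obtain ⟨β, hβ, hβx⟩ := (mor_conj F hK (hTS hg)).exists_aut
    (fun x hx => Subgroup.mul_mem _ (Subgroup.mul_mem _ hgK hx) (Subgroup.inv_mem _ hgK))
  refine ⟨β, hβ, fun x => ?_, fun c' hc' => ?_⟩
  · rw [hβx, hc]
    rfl
  · rw [hβx]
    have h1 : g * (c' : Ω) = (c' : Ω) * g := (Subgroup.mem_centralizer_iff.mp hc'.2) g hg
    have e : (c' : Ω)⁻¹ * (g * (c' : Ω) * g⁻¹) = 1 := by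
      rw [h1]
      group
    show (c' : Ω)⁻¹ * (g * (c' : Ω) * g⁻¹) ∈ _
    rw [e]
    exact Subgroup.one_mem _

end Cfsg.Agent.Lib.Helper84.PIdxN
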