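import Mathlib
import Cfsg.Prelude.Def_FusionSystem
import Cfsg.Prelude.Def_TwoFusion
import Cfsg.Agent.Lib.Helper84.PIdxN3
import Cfsg.Agent.Lib.Helper87.FusionMore

set_option autoImplicit false

namespace Cfsg.Agent.Lib.Helper84.DFac

open Cfsg Cfsg.FusionSystem
open Cfsg.Agent.Lib.Helper88 (Mor extFun extFun_mem extFun_apply img mor_of_hom hom_of_mor mor_conj mor_id)

variable {Ω : Type*} [Group Ω] {S : Subgroup Ω}

/-- elements of the join of two elementwise commuting subgroups are products. -/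
theorem exists_mul_of_mem_sup {A B : Subgroup Ω} (hcomm : ∀ a ∈ A, ∀ b ∈ B, a * b = b * a)
    {x : Ω} (hx : x ∈ A ⊔ B) : ∃ a ∈ A, ∃ b ∈ B, x = a * b := by
  let M : Subgroup Ω :=
    { carrier := {x | ∃ a ∈ A, ∃ b ∈ B, x = a * b}
      mul_mem' := by
        rintro _ _ ⟨a, ha, b, hb, rfl⟩ ⟨a', ha', b', hb', rfl⟩
        refine ⟨a * a', A.mul_mem ha ha', b * b', B.mul_mem hb hb', ?_⟩
        calc a * b * (a' * b') = a * (b * a') * b' := by group
          _ = a * (a' * b) * b' := by rw [hcomm a' ha' b hb]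
          _ = a * a' * (b * b') := by group
      one_mem' := ⟨1, A.one_mem, 1, B.one_mem, by simp⟩
      inv_mem' := by
        rintro _ ⟨a, ha, b, hb, rfl⟩
        refine ⟨a⁻¹, A.inv_mem ha, b⁻¹, B.inv_mem hb, ?_⟩
        rw [mul_inv_rev, hcomm a⁻¹ (A.inv_mem ha) b⁻¹ (B.inv_mem hb)] }
  have hle : A ⊔ B ≤ M := by
    refine sup_le (fun a ha => ⟨a, ha, 1, B.one_mem, by simp⟩) (fun b hb => ⟨1, A.one_mem, b, hb, by simp⟩)
  exact hle hx

/-- a strongly closed subgroup of a saturated system is fully automized and receptive. -/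
theorem fa_rec_of_stronglyClosed [Finite S] (p : ℕ) (F : FusionSystem S) (hF : F.IsSaturated p)
    {T : Subgroup Ω} (hT : F.StronglyClosed T) : F.IsFullyAutomized p T ∧ F.IsReceptive T := by
  obtain ⟨Q, ⟨φ, hφ, hr⟩, hfa, hrec⟩ := hF T hT.1
  have hQ : Q = T := by
    rw [← hr]
    exact (Helper87.stronglyClosed_weaklyClosed F hT).2 φ hφ
  rw [hQ] at hfa hrec
  exact ⟨hfa, hrec⟩

/-- extension to `S` of an automorphism of a strongly closed receptive subgroup `T` with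
`S = T C_S(T)`. -/
theorem exists_ext_top [Finite S] {F : FusionSystem S} {T : Subgroup Ω} (hT : F.StronglyClosed T)
    (hrec : F.IsReceptive T)
    (hdec : ∀ g ∈ S, ∃ a ∈ T, ∃ b ∈ Subgroup.centralizer (T : Set Ω), g = a * b)
    {f : Ω → Ω} (hf : Mor F T f) (hfT : ∀ x ∈ T, f x ∈ T) :
    ∃ f', Mor F S f' ∧ ∀ x ∈ T, f' x = f x := by
  have himg : img T f = T := hf.img_eq_self hfT
  refine Helper88.receptive_extend (N := S) hrec hf himg ?_ hT.1
  intro g hg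
  obtain ⟨a, ha, b, hb, rfl⟩ := hdec g hg
  refine ⟨hg, Helper87.stronglyClosed_le_normalizer F hT hg, f a, hT.1 (hfT a ha), ?_⟩
  intro x hx
  have e : a * b * x * (a * b)⁻¹ = a * x * a⁻¹ := by
    have hbx : x * b = b * x := (Subgroup.mem_centralizer_iff.mp hb) x hx
    calc a * b * x * (a * b)⁻¹ = a * (b * x) * b⁻¹ * a⁻¹ := by group
      _ = a * (x * b) * b⁻¹ * a⁻¹ := by rw [hbx]
      _ = a * x * a⁻¹ := by group
  rw [e, hf.map_mul (T.mul_mem ha hx) (T.inv_mem ha), hf.map_mul ha hx, hf.map_inv ha]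

/-- the centralizer system of `Q`, as a fusion system over `C_S(Q)`. -/
def centSystem (F : FusionSystem S) (Q : Subgroup Ω) (hQ : Q ≤ S) :
    FusionSystem (centralizerIn S Q) where
  Hom P := F.centralizerHom Q P
  le_of_mem h := ⟨h.2.1, h.2.2.1⟩
  injective_of_mem h := F.injective_of_mem h.1
  conj_mem := by
    intro P g hP hg
    have hPS : P ≤ S := hP.trans inf_le_left
    refine ⟨F.conj_mem hPS hg.1, hP, fun x => ?_, conjHom (P ⊔ Q) g,
      F.conj_mem (sup_le hPS hQ) hg.1, fun x => rfl, fun x => ?_⟩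
    · exact Subgroup.mul_mem _ (Subgroup.mul_mem _ hg (hP x.2)) (Subgroup.inv_mem _ hg)
    · show g * (x : Ω) * g⁻¹ = x
      have h1 : (x : Ω) * g = g * x := (Subgroup.mem_centralizer_iff.mp hg.2) x x.2
      rw [← h1]
      group
  comp_mem := by
    rintro P P' φ φ' ⟨hφ, hPN, hφN, ψ1, hψ1, hext1, hfix1⟩
      ⟨hφ', hP'N, hφ'N, ψ2, hψ2, hext2, hfix2⟩ h
    have h1 : ∀ y : ↥(P ⊔ Q), ψ1 y ∈ P' ⊔ Q := by
      have h0 : (P.subgroupOf (P ⊔ Q)) ⊔ (Q.subgroupOf (P ⊔ Q)) ≤ (P' ⊔ Q).comap ψ1 := by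
        refine sup_le (fun x hx => ?_) (fun x hx => ?_)
        · rw [Subgroup.mem_comap]
          have hx' : (x : Ω) ∈ P := Subgroup.mem_subgroupOf.1 hx
          have e : x = Subgroup.inclusion le_sup_left (⟨(x : Ω), hx'⟩ : P) := Subtype.ext rfl
          rw [e, hext1]
          exact (le_sup_left : P' ≤ P' ⊔ Q) (h _)
        · rw [Subgroup.mem_comap]
          have hx' : (x : Ω) ∈ Q := Subgroup.mem_subgroupOf.1 hx
          have e : x = Subgroup.inclusion le_sup_right (⟨(x : Ω), hx'⟩ : Q) := Subtype.ext rfl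
          rw [e, hfix1]
          exact (le_sup_right : Q ≤ P' ⊔ Q) hx'
      rw [← Subgroup.subgroupOf_sup le_sup_left le_sup_right, Subgroup.subgroupOf_self] at h0
      intro y
      exact h0 (Subgroup.mem_top y)
    refine ⟨F.comp_mem hφ hφ' h, hPN, fun x => hφ'N _, ψ2.comp (ψ1.codRestrict (P' ⊔ Q) h1),
      F.comp_mem hψ1 hψ2 h1, ?_, ?_⟩
    · intro x
      show ψ2 ⟨ψ1 (Subgroup.inclusion le_sup_left x), _⟩ = φ' ⟨φ x, _⟩
      rw [← hext2 ⟨φ x, h x⟩]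
      congr 1
      apply Subtype.ext
      exact hext1 x
    · intro x
      show ψ2 ⟨ψ1 (Subgroup.inclusion le_sup_right x), _⟩ = x
      rw [← hfix2 x]
      congr 1
      apply Subtype.ext
      exact hfix1 x
  inv_mem := by
    rintro P φ ⟨hφ, hPN, hφN, ψ1, hψ1, hext1, hfix1⟩
    obtain ⟨ρ, hρ, hinv⟩ := F.inv_mem hψ1
    have hle1 : φ.range ≤ ψ1.range := by
      rintro _ ⟨x, rfl⟩
      exact ⟨Subgroup.inclusion le_sup_left x, hext1 x⟩
    have hle2 : Q ≤ ψ1.range := by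
      intro q hq
      exact ⟨Subgroup.inclusion le_sup_right ⟨q, hq⟩, hfix1 ⟨q, hq⟩⟩
    have hle : φ.range ⊔ Q ≤ ψ1.range := sup_le hle1 hle2
    have hkey : ∀ x : P, ρ ⟨φ x, hle1 (MonoidHom.mem_range.2 ⟨x, rfl⟩)⟩ = (x : Ω) := by
      intro x
      have h2 := hinv (Subgroup.inclusion le_sup_left x)
      have h3 : (⟨φ x, hle1 (MonoidHom.mem_range.2 ⟨x, rfl⟩)⟩ : ψ1.range)
          = ⟨ψ1 (Subgroup.inclusion le_sup_left x), MonoidHom.mem_range.2 ⟨_, rfl⟩⟩ :=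
        Subtype.ext (hext1 x).symm
      rw [h3]
      exact h2
    refine ⟨ρ.comp (Subgroup.inclusion hle1), ⟨res_mem F hρ hle1, ?_, ?_,
      ρ.comp (Subgroup.inclusion hle), res_mem F hρ hle, fun x => rfl, ?_⟩, ?_⟩
    · rintro _ ⟨x, rfl⟩
      exact hφN x
    · rintro ⟨_, x, rfl⟩
      show ρ ⟨φ x, _⟩ ∈ centralizerIn S Q
      rw [hkey x]
      exact hPN x.2
    · intro q
      show ρ ⟨(q : Ω), _⟩ = q
      have h2 := hinv (Subgroup.inclusion le_sup_right q)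
      have h4 : (⟨(q : Ω), hle2 q.2⟩ : ψ1.range)
          = ⟨ψ1 (Subgroup.inclusion le_sup_right q), MonoidHom.mem_range.2 ⟨_, rfl⟩⟩ :=
        Subtype.ext (hfix1 q).symm
      rw [h4]
      exact h2
    · intro x
      exact hkey x

theorem isCentralizerSystem_centSystem (F : FusionSystem S) (Q : Subgroup Ω) (hQ : Q ≤ S) :
    F.IsCentralizerSystem Q (centSystem F Q hQ) := fun _ => rfl

/-- maps of the centralizer system, as functions. -/
theorem mor_centSystem_iff (F : FusionSystem S) (Q : Subgroup Ω) (hQ : Q ≤ S) (P : Subgroup Ω)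
    (f : Ω → Ω) : Mor (centSystem F Q hQ) P f ↔ (Mor F P f ∧ P ≤ centralizerIn S Q ∧
      (∀ x ∈ P, f x ∈ centralizerIn S Q) ∧
      ∃ f', Mor F (P ⊔ Q) f' ∧ (∀ x ∈ P, f' x = f x) ∧ ∀ x ∈ Q, f' x = x) := by
  constructor
  · rintro ⟨φ, ⟨hφ, hP, hφC, ψ, hψ, hext, hfix⟩, hφf⟩
    refine ⟨⟨φ, hφ, hφf⟩, hP, fun x hx => ?_, extFun ψ, mor_of_hom F hψ, fun x hx => ?_,
      fun x hx => ?_⟩
    · rw [← hφf ⟨x, hx⟩]
      exact hφC _
    · rw [extFun_mem ψ ((le_sup_left : P ≤ P ⊔ Q) hx), ← hφf ⟨x, hx⟩]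
      exact hext ⟨x, hx⟩
    · rw [extFun_mem ψ ((le_sup_right : Q ≤ P ⊔ Q) hx)]
      exact hfix ⟨x, hx⟩
  · rintro ⟨⟨φ, hφ, hφf⟩, hP, hfC, f', ⟨ψ, hψ, hψf⟩, hext, hfix⟩
    refine ⟨φ, ⟨hφ, hP, fun x => ?_, ψ, hψ, fun x => ?_, fun x => ?_⟩, hφf⟩
    · rw [hφf]
      exact hfC x x.2
    · rw [hψf, hφf]
      exact hext x x.2
    · rw [hψf]
      exact hfix x x.2

/-- **restriction to a strongly closed "direct factor" is saturated.** -/
theorem restrict_saturated {S' : Subgroup Ω} [Finite S'] (p : ℕ) (F' : FusionSystem S')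
    (hF' : F'.IsSaturated p) {S₁ : Subgroup Ω} (h₁ : F'.StronglyClosed S₁)
    (hdec : ∀ s ∈ S', ∃ a ∈ S₁, ∃ b ∈ Subgroup.centralizer (S₁ : Set Ω), s = a * b)
    (R : FusionSystem S₁) (hR : ∀ P : Subgroup Ω, P ≤ S₁ → R.Hom P = F'.Hom P) :
    R.IsSaturated p := by
  intro P hP
  obtain ⟨Q, ⟨φ, hφ, hr⟩, hfa, hrec⟩ := hF' P (hP.trans h₁.1)
  have hQ : Q ≤ S₁ := by
    rw [← hr]
    rintro _ ⟨x, rfl⟩
    exact h₁.2 P hP φ hφ x
  refine ⟨Q, ⟨φ, by rw [hR P hP]; exact hφ, hr⟩, ?_, ?_⟩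
  · -- fully automized
    have e1 : R.autGroup Q = F'.autGroup Q := by
      unfold FusionSystem.autGroup
      rw [hR Q hQ]
    have e2 : autInducedBy S₁ Q = autInducedBy S' Q := by
      apply le_antisymm
      · unfold autInducedBy
        apply Subgroup.closure_mono
        rintro α ⟨g, hg, hα⟩
        exact ⟨g, h₁.1 hg, hα⟩
      · intro α hα
        obtain ⟨g, hg, hα⟩ := (Helper88.mem_autInducedBy_iff S' Q α).mp hα
        obtain ⟨a, ha, b, hb, rfl⟩ := hdec g hg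
        refine (Helper88.mem_autInducedBy_iff S₁ Q α).mpr ⟨a, ha, fun x => ?_⟩
        rw [hα x]
        have hbx : (x : Ω) * b = b * x := (Subgroup.mem_centralizer_iff.mp hb) x (hQ x.2)
        calc a * b * (x : Ω) * (a * b)⁻¹ = a * (b * x) * b⁻¹ * a⁻¹ := by group
          _ = a * ((x : Ω) * b) * b⁻¹ * a⁻¹ := by rw [hbx]
          _ = a * x * a⁻¹ := by group
    refine ⟨hQ, ?_⟩
    rw [e1, e2]
    exact hfa.2
  · -- receptive
    refine ⟨hQ, ?_⟩
    intro P' φ' hφ' hr'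
    have hP' : P' ≤ S₁ := (R.le_of_mem hφ').1
    rw [hR P' hP'] at hφ'
    obtain ⟨ψ, hψ, hψφ⟩ := hrec.2 P' φ' hφ' hr'
    have hle : extender S₁ P' φ' ≤ extender S' P' φ' := by
      unfold extender
      apply Subgroup.closure_mono
      rintro g ⟨hg, hgn, h, hh, hgh⟩
      exact ⟨h₁.1 hg, hgn, h, h₁.1 hh, hgh⟩
    have hleS : extender S₁ P' φ' ≤ S₁ := by
      unfold extender
      rw [Subgroup.closure_le]
      rintro g ⟨hg, -⟩
      exact hg
    refine ⟨ψ.comp (Subgroup.inclusion hle), ?_, ?_⟩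
    · rw [hR _ hleS]
      exact res_mem F' hψ hle
    · intro x hxP hxN
      exact hψφ x hxP (hle hxN)

end Cfsg.Agent.Lib.Helper84.DFac
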