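import Mathlib
import Cfsg.Prelude.Def_FusionSystem
import Cfsg.Prelude.Def_TwoFusion
import Cfsg.Agent.Lib.Helper84.DFac1

set_option autoImplicit false

namespace Cfsg.Agent.Lib.Helper84.DFac

open Cfsg Cfsg.FusionSystem
open Cfsg.Agent.Lib.Helper88 (Mor extFun extFun_mem extFun_apply img mor_of_hom hom_of_mor mor_conj mor_id)

variable {Ω : Type*} [Group Ω] {S : Subgroup Ω}

/-- a map of the system on a subgroup of a strongly closed subgroup takes values in it. -/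
theorem mor_mem_of_stronglyClosed {F : FusionSystem S} {T : Subgroup Ω} (hT : F.StronglyClosed T)
    {P : Subgroup Ω} {f : Ω → Ω} (hf : Mor F P f) {x : Ω} (hx : x ∈ P) (hxT : x ∈ T) : f x ∈ T := by
  obtain ⟨φ, hφ, hφf⟩ := hf.res (inf_le_left : P ⊓ T ≤ P)
  have h1 := hT.2 (P ⊓ T) inf_le_right φ hφ ⟨x, ⟨hx, hxT⟩⟩
  rw [hφf] at h1
  exact h1

/-- an automorphism of `S` in the system, with its inverse. -/
structure AutPair (F : FusionSystem S) (a ainv : Ω → Ω) : Prop where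
  ha : Mor F S a
  hainv : Mor F S ainv
  inv1 : ∀ x ∈ S, ainv (a x) = x
  inv2 : ∀ x ∈ S, a (ainv x) = x

theorem AutPair.symm {F : FusionSystem S} {a ainv : Ω → Ω} (h : AutPair F a ainv) :
    AutPair F ainv a := ⟨h.hainv, h.ha, h.inv2, h.inv1⟩

theorem AutPair.comp {F : FusionSystem S} {a ainv b binv : Ω → Ω} (h : AutPair F a ainv)
    (h' : AutPair F b binv) : AutPair F (fun x => b (a x)) (fun x => ainv (binv x)) := by
  refine ⟨h.ha.comp h'.ha (fun x hx => h.ha.mem_S hx), h'.hainv.comp h.hainv (fun x hx => h'.hainv.mem_S hx),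
    fun x hx => ?_, fun x hx => ?_⟩
  · show ainv (binv (b (a x))) = x
    rw [h'.inv1 _ (h.ha.mem_S hx), h.inv1 x hx]
  · show b (a (ainv (binv x))) = x
    rw [h.inv2 _ (h'.hainv.mem_S hx), h'.inv2 x hx]

theorem exists_autPair [Finite S] {F : FusionSystem S} {a : Ω → Ω} (ha : Mor F S a) :
    ∃ ainv, AutPair F a ainv := by
  obtain ⟨g, hg, hgf⟩ := ha.exists_inv
  rw [ha.img_top] at hg
  refine ⟨g, ha, hg, hgf, fun x hx => ?_⟩
  have hx' : x ∈ img S a := by rw [ha.img_top]; exact hx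
  obtain ⟨w, hw, rfl⟩ := ha.mem_img.mp hx'
  rw [hgf w hw]

/-- extension to an automorphism of `S`. -/
theorem exists_aut_ext [Finite S] {F : FusionSystem S} {T : Subgroup Ω} (hT : F.StronglyClosed T)
    (hrec : F.IsReceptive T)
    (hdec : ∀ g ∈ S, ∃ a ∈ T, ∃ b ∈ Subgroup.centralizer (T : Set Ω), g = a * b)
    {f : Ω → Ω} (hf : Mor F T f) (hfT : ∀ x ∈ T, f x ∈ T) :
    ∃ a ainv : Ω → Ω, AutPair F a ainv ∧ ∀ x ∈ T, a x = f x := by
  obtain ⟨a, ha, hax⟩ := exists_ext_top hT hrec hdec hf hfT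
  obtain ⟨ainv, hp⟩ := exists_autPair ha
  exact ⟨a, ainv, hp, hax⟩

/-- an automorphism of `S` in the system preserves `C_S(T)` for `T` strongly closed. -/
theorem AutPair.map_cent [Finite S] {F : FusionSystem S} {a ainv : Ω → Ω} (h : AutPair F a ainv)
    {T : Subgroup Ω} (hT : F.StronglyClosed T) {c : Ω} (hc : c ∈ centralizerIn S T) :
    a c ∈ centralizerIn S T := by
  refine ⟨h.ha.mem_S hc.1, ?_⟩
  show a c ∈ Subgroup.centralizer (T : Set Ω)
  rw [Subgroup.mem_centralizer_iff]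
  intro z hz
  have hzS : z ∈ S := hT.1 hz
  have hw : ainv z ∈ T := mor_mem_of_stronglyClosed hT h.hainv hzS hz
  have hwS : ainv z ∈ S := hT.1 hw
  have e1 : ainv z * c = c * ainv z := (Subgroup.mem_centralizer_iff.mp hc.2) _ hw
  have e2 : a (ainv z * c) = a (c * ainv z) := by rw [e1]
  rw [h.ha.map_mul hwS hc.1, h.ha.map_mul hc.1 hwS, h.inv2 z hzS] at e2
  exact e2

section
variable [Finite S] {F : FusionSystem S} {S₂ : Subgroup Ω}

/-- conjugating a map of the centralizer system of a strongly closed subgroup by an automorphism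
of `S`. -/
theorem cmor_conj (h₂ : F.StronglyClosed S₂) {a ainv : Ω → Ω} (h : AutPair F a ainv)
    {D : Subgroup Ω} {t : Ω → Ω} (ht : Mor (centSystem F S₂ h₂.1) D t) {D' : Subgroup Ω}
    (hD' : D' ≤ centralizerIn S S₂) (hD'D : ∀ y ∈ D', ainv y ∈ D) :
    Mor (centSystem F S₂ h₂.1) D' (fun y => a (t (ainv y))) := by
  rw [mor_centSystem_iff] at ht ⊢
  obtain ⟨htF, hDC, htC, t', ht', hext, hfix⟩ := ht
  have hD'S : D' ≤ S := hD'.trans inf_le_left
  have hsupS : D' ⊔ S₂ ≤ S := sup_le hD'S h₂.1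
  have hmaps : ∀ y ∈ D' ⊔ S₂, ainv y ∈ D ⊔ S₂ :=
    mor_sup_mem (h.hainv.res hsupS) (fun y hy => (le_sup_left : D ≤ D ⊔ S₂) (hD'D y hy))
      (fun y hy => (le_sup_right : S₂ ≤ D ⊔ S₂)
        (mor_mem_of_stronglyClosed h₂ h.hainv (h₂.1 hy) hy))
  refine ⟨((h.hainv.res hD'S).comp htF hD'D).comp h.ha (fun y hy => htF.mem_S (hD'D y hy)), hD',
    fun y hy => h.map_cent h₂ (htC _ (hD'D y hy)), fun y => a (t' (ainv y)),
    ((h.hainv.res hsupS).comp ht' hmaps).comp h.ha (fun y hy => ht'.mem_S (hmaps y hy)),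
    fun y hy => ?_, fun y hy => ?_⟩
  · show a (t' (ainv y)) = a (t (ainv y))
    rw [hext _ (hD'D y hy)]
  · show a (t' (ainv y)) = y
    rw [hfix _ (mor_mem_of_stronglyClosed h₂ h.hainv (h₂.1 hy) hy), h.inv2 y (h₂.1 hy)]

end

theorem img_comp {F : FusionSystem S} {P : Subgroup Ω} {f c : Ω → Ω} (hf : Mor F P f)
    (hc : Mor F (img P f) c) : img P (fun x => c (f x)) = img (img P f) c := by
  have hcf : Mor F P (fun x => c (f x)) := hf.comp hc (fun x hx => hf.apply_mem_img hx)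
  ext y
  rw [hcf.mem_img, hc.mem_img]
  constructor
  · rintro ⟨x, hx, rfl⟩
    exact ⟨f x, hf.apply_mem_img hx, rfl⟩
  · rintro ⟨z, hz, rfl⟩
    obtain ⟨x, hx, rfl⟩ := hf.mem_img.mp hz
    exact ⟨x, hx, rfl⟩

section
variable [Finite S] {F : FusionSystem S} {S₁ S₂ : Subgroup Ω}

/-- Frattini decomposition of a map onto a receptive subgroup. -/
theorem frattini_rec (p : ℕ) (hF : F.IsSaturated p) (hprod : IsInternalDirectProduct S₁ S₂ S)
    (h₁ : F.StronglyClosed S₁) (h₂ : F.StronglyClosed S₂) {A Q' : Subgroup Ω} (hA : A ≤ S₁)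
    {θ : Ω → Ω} (hθ : Mor F A θ) (himg : img A θ = Q') (hrec : F.IsReceptive Q') :
    ∃ a ainv t : Ω → Ω, AutPair F a ainv ∧ Mor (centSystem F S₂ h₂.1) A t ∧
      ∀ x ∈ A, θ x = a (t x) := by
  obtain ⟨hS₁, hS₂, hcomm, -, hsup⟩ := hprod
  have hAS : A ≤ S := hA.trans hS₁
  have hS₁C : S₁ ≤ centralizerIn S S₂ := by
    intro x hx
    refine ⟨hS₁ hx, ?_⟩
    show x ∈ Subgroup.centralizer (S₂ : Set Ω)
    rw [Subgroup.mem_centralizer_iff]
    intro z hz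
    exact (hcomm x hx z hz).symm
  -- extend θ to A ⊔ S₂
  obtain ⟨θ', hθ', hθ'x⟩ := Helper88.receptive_extend (N := A ⊔ S₂) hrec hθ himg (by
    intro g hg
    obtain ⟨u, hu, v, hv, rfl⟩ := exists_mul_of_mem_sup (fun a ha b hb => hcomm a (hA ha) b hb) hg
    have hconj : ∀ k ∈ A, u * v * k * (u * v)⁻¹ = u * k * u⁻¹ := by
      intro k hk
      have hvk : k * v = v * k := hcomm k (hA hk) v hv
      calc u * v * k * (u * v)⁻¹ = u * (v * k) * v⁻¹ * u⁻¹ := by group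
        _ = u * (k * v) * v⁻¹ * u⁻¹ := by rw [hvk]
        _ = u * k * u⁻¹ := by group
    have hconj' : ∀ k ∈ A, (u * v)⁻¹ * k * (u * v) = u⁻¹ * k * u := by
      intro k hk
      have hvk : k * v = v * k := hcomm k (hA hk) v hv
      calc (u * v)⁻¹ * k * (u * v) = v⁻¹ * u⁻¹ * k * u * v := by group
        _ = v⁻¹ * (u⁻¹ * k * u * v) := by group
        _ = v⁻¹ * (v * (u⁻¹ * k * u)) := by
          rw [hcomm (u⁻¹ * k * u) (hA (A.mul_mem (A.mul_mem (A.inv_mem hu) hk) hu)) v hv]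
        _ = u⁻¹ * k * u := by group
    refine ⟨sup_le hAS hS₂ hg, ?_, θ u, hθ.mem_S hu, ?_⟩
    · rw [Subgroup.mem_normalizer_iff]
      intro k
      constructor
      · intro hk
        rw [hconj k hk]
        exact A.mul_mem (A.mul_mem hu hk) (A.inv_mem hu)
      · intro hk
        have h1 := hconj' _ hk
        have h2 : (u * v)⁻¹ * (u * v * k * (u * v)⁻¹) * (u * v) = k := by group
        rw [h2] at h1
        rw [h1]
        exact A.mul_mem (A.mul_mem (A.inv_mem hu) hk) hu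
    · intro x hx
      rw [hconj x hx, hθ.map_mul (A.mul_mem hu hx) (A.inv_mem hu), hθ.map_mul hu hx, hθ.map_inv hu])
    le_sup_left
  have hsupS : A ⊔ S₂ ≤ S := sup_le hAS hS₂
  -- θ' maps S₂ into S₂; extend to an automorphism b of S
  have hθ'S₂ : ∀ y ∈ S₂, θ' y ∈ S₂ := fun y hy =>
    mor_mem_of_stronglyClosed h₂ hθ' ((le_sup_right : S₂ ≤ A ⊔ S₂) hy) hy
  have hdec₂ : ∀ g ∈ S, ∃ a ∈ S₂, ∃ b ∈ Subgroup.centralizer (S₂ : Set Ω), g = a * b := by
    intro g hg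
    rw [← hsup] at hg
    obtain ⟨u, hu, v, hv, rfl⟩ := exists_mul_of_mem_sup hcomm hg
    refine ⟨v, hv, u, (hS₁C hu).2, hcomm u hu v hv⟩
  obtain ⟨b, binv, hb, hbx⟩ := exists_aut_ext h₂ (fa_rec_of_stronglyClosed p F hF h₂).2 hdec₂
    (hθ'.res le_sup_right) hθ'S₂
  have hθS₁ : ∀ x ∈ A, θ' x ∈ S₁ := fun x hx =>
    mor_mem_of_stronglyClosed h₁ hθ' ((le_sup_left : A ≤ A ⊔ S₂) hx) (hA hx)
  refine ⟨b, binv, fun x => binv (θ' x), hb, ?_, fun x hx => ?_⟩
  · rw [mor_centSystem_iff]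
    have hcomp : Mor F (A ⊔ S₂) (fun x => binv (θ' x)) :=
      hθ'.comp hb.hainv (fun x hx => hθ'.mem_S hx)
    refine ⟨hcomp.res le_sup_left, hA.trans hS₁C, fun x hx => ?_, fun x => binv (θ' x), hcomp,
      fun x hx => rfl, fun y hy => ?_⟩
    · exact hS₁C (mor_mem_of_stronglyClosed h₁ hb.hainv (hS₁ (hθS₁ x hx)) (hθS₁ x hx))
    · show binv (θ' y) = y
      rw [← hbx y hy, hb.inv1 y (hS₂ hy)]
  · show θ x = b (binv (θ' x))
    rw [hb.inv2 _ (hθ'.mem_S ((le_sup_left : A ≤ A ⊔ S₂) hx)), hθ'x x hx]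

/-- **Frattini decomposition**: every map of `F` on a subgroup of `S₁` is an automorphism of `S`
composed with a map of the centralizer system of `S₂`. -/
theorem frattini_cent (p : ℕ) (hF : F.IsSaturated p) (hprod : IsInternalDirectProduct S₁ S₂ S)
    (h₁ : F.StronglyClosed S₁) (h₂ : F.StronglyClosed S₂) {P : Subgroup Ω} (hP : P ≤ S₁)
    {f : Ω → Ω} (hf : Mor F P f) :
    ∃ a ainv t : Ω → Ω, AutPair F a ainv ∧ Mor (centSystem F S₂ h₂.1) P t ∧
      ∀ x ∈ P, f x = a (t x) := by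
  have hQS₁ : img P f ≤ S₁ := by
    intro y hy
    obtain ⟨x, hx, rfl⟩ := hf.mem_img.mp hy
    exact mor_mem_of_stronglyClosed h₁ hf hx (hP hx)
  obtain ⟨Q', hconj, -, hrec⟩ := hF (img P f) hf.img_le
  obtain ⟨c, hc, hcimg⟩ := (Helper88.isConj_iff F).mp hconj
  have hcf : Mor F P (fun x => c (f x)) := hf.comp hc (fun x hx => hf.apply_mem_img hx)
  have hcfimg : img P (fun x => c (f x)) = Q' := by rw [img_comp hf hc, hcimg]
  obtain ⟨a₁, a₁inv, t₁, hp₁, ht₁, he₁⟩ := frattini_rec p hF hprod h₁ h₂ hP hcf hcfimg hrec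
  obtain ⟨a₂, a₂inv, t₂, hp₂, ht₂, he₂⟩ := frattini_rec p hF hprod h₁ h₂ hQS₁ hc hcimg hrec
  obtain ⟨g, hg, hgt⟩ := ht₂.exists_inv
  have hCS : centralizerIn S S₂ ≤ S := inf_le_left
  have ht₁S : ∀ x ∈ P, t₁ x ∈ S := fun x hx => hCS (ht₁.mem_S hx)
  have ht₂S : ∀ y ∈ img P f, t₂ y ∈ S := fun y hy => hCS (ht₂.mem_S hy)
  -- key relation
  have hkey : ∀ x ∈ P, t₂ (f x) = a₂inv (a₁ (t₁ x)) := by
    intro x hx
    have h1 : a₂ (t₂ (f x)) = a₁ (t₁ x) := by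
      rw [← he₂ _ (hf.apply_mem_img hx)]
      exact he₁ x hx
    rw [← h1, hp₂.inv1 _ (ht₂S _ (hf.apply_mem_img hx))]
  have hp : AutPair F (fun x => a₂inv (a₁ x)) (fun x => a₁inv (a₂ x)) := hp₁.comp hp₂.symm
  have hconjm : Mor (centSystem F S₂ h₂.1) (img P t₁)
      (fun y => (fun x => a₁inv (a₂ x)) (g ((fun x => a₂inv (a₁ x)) y))) := by
    refine cmor_conj h₂ hp.symm hg ht₁.img_le ?_
    intro y hy
    obtain ⟨x, hx, rfl⟩ := ht₁.mem_img.mp hy
    show a₂inv (a₁ (t₁ x)) ∈ img (img P f) t₂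
    rw [← hkey x hx]
    exact ht₂.apply_mem_img (hf.apply_mem_img hx)
  refine ⟨fun x => a₂inv (a₁ x), fun x => a₁inv (a₂ x),
    fun x => a₁inv (a₂ (g (a₂inv (a₁ (t₁ x))))), hp,
    ht₁.comp hconjm (fun x hx => ht₁.apply_mem_img hx), fun x hx => ?_⟩
  show f x = a₂inv (a₁ (a₁inv (a₂ (g (a₂inv (a₁ (t₁ x)))))))
  rw [← hkey x hx, hgt _ (hf.apply_mem_img hx)]
  have hfS : f x ∈ S := hf.mem_S hx
  rw [hp₁.inv2 _ (hp₂.ha.mem_S hfS), hp₂.inv1 _ hfS]

end

end Cfsg.Agent.Lib.Helper84.DFac
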