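import Mathlib
import Cfsg.Prelude.Def_FusionSystem
import Cfsg.Agent.Lib.Helper84.FusionSat2
import Cfsg.Agent.Lib.Helper84.FusionRS
import Cfsg.Agent.Lib.Helper84.FusionAlperin

set_option autoImplicit false

namespace Cfsg.Agent.Lib.Helper84.SatCrit

open Cfsg Cfsg.FusionSystem Cfsg.Agent.Lib.Helper84

variable {Ω : Type*} [Group Ω] {S : Subgroup Ω}

/-- the data attached to a subgroup `Q` whose class contains a fully automized receptive member. -/
theorem saturated_data_local [Finite S] (p : ℕ) [Fact p.Prime] (hS : IsPGroup p S) (F : FusionSystem S)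
    {Q : Subgroup Ω} (hex : ∃ P, F.IsConj Q P ∧ F.IsFullyAutomized p P ∧ F.IsReceptive P) (hQ : Q ≤ S) :
    ∃ P, F.IsConj Q P ∧ F.IsFullyAutomized p P ∧ F.IsReceptive P ∧
      ∃ φ ∈ F.Hom (normalizerIn S Q), (∀ x, φ x ∈ normalizerIn S P) ∧
        ∃ e : Q ≃* P, IsFIso F e ∧ ∀ (x : Q), φ ⟨x, le_normalizerIn hQ x.2⟩ = e x := by
  obtain ⟨P, hconj, hfa, hrec⟩ := hex
  obtain ⟨φ, hφ, h1, -, e, he, hφe⟩ := exists_normalizer_map p hS F hfa hrec hconj
  exact ⟨P, hconj, hfa, hrec, φ, hφ, h1, e, he, hφe⟩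

/-- In a saturated system, fully normalized subgroups are fully centralized. -/
theorem fc_of_fn_local [Finite S] (p : ℕ) [Fact p.Prime] (hS : IsPGroup p S)
    (F : FusionSystem S) {Q : Subgroup Ω} (hex : ∃ P, F.IsConj Q P ∧ F.IsFullyAutomized p P ∧ F.IsReceptive P) (hQn : F.IsFullyNormalized Q) :
    F.IsFullyCentralized Q := by
  have hQS : Q ≤ S := hQn.1
  obtain ⟨P, hconj, hfa, hrec, φ, hφ, h1, e, he, hφe⟩ := saturated_data_local p hS F hex hQS
  have hsurj := normalizer_map_surj F hQn hconj hφ h1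
  have hPc := fullyCentralized_of_receptive F hrec
  refine ⟨hQS, fun Q' hQ' => ?_⟩
  have h2 : Nat.card (centralizerIn S Q') ≤ Nat.card (centralizerIn S P) :=
    hPc.2 Q' (isConj_trans F (isConj_symm F hconj) hQ')
  refine h2.trans ?_
  have hfin : Finite (centralizerIn S Q) := finite_of_le (centralizerIn_le S Q)
  -- an injection C_S(P) → C_S(Q)
  have hex : ∀ c : centralizerIn S P, ∃ g : normalizerIn S Q, φ g = c :=
    fun c => hsurj c (centralizerIn_le_normalizerIn S P c.2)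
  choose g hg using hex
  have hgc : ∀ c : centralizerIn S P, (g c : Ω) ∈ centralizerIn S Q := by
    intro c
    rw [mem_centralizerIn]
    refine ⟨(mem_normalizerIn.1 (g c).2).1, fun x hx => ?_⟩
    have hx' : (⟨x, le_normalizerIn hQS hx⟩ : normalizerIn S Q) * g c = g c * ⟨x, le_normalizerIn hQS hx⟩ := by
      apply F.injective_of_mem hφ
      rw [map_mul, map_mul, hg, hφe ⟨x, hx⟩]
      exact (mem_centralizerIn.1 c.2).2 _ (e ⟨x, hx⟩).2
    exact congrArg Subtype.val hx'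
  refine Nat.card_le_card_of_injective (fun c => (⟨g c, hgc c⟩ : centralizerIn S Q)) ?_
  intro c d hcd
  have h4 : ((g c : normalizerIn S Q) : Ω) = ((g d : normalizerIn S Q) : Ω) := by
    have := congrArg Subtype.val hcd
    exact this
  have h3 : g c = g d := Subtype.ext h4
  apply Subtype.ext
  rw [← hg c, ← hg d, h3]

/-- In a saturated system, fully normalized subgroups are fully automized. -/
theorem fa_of_fn_local [Finite S] (p : ℕ) [Fact p.Prime] (hS : IsPGroup p S)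
    (F : FusionSystem S) {Q : Subgroup Ω} (hex : ∃ P, F.IsConj Q P ∧ F.IsFullyAutomized p P ∧ F.IsReceptive P) (hQn : F.IsFullyNormalized Q) :
    F.IsFullyAutomized p Q := by
  have hQS : Q ≤ S := hQn.1
  obtain ⟨P, hconj, hfa, hrec, φ, hφ, h1, e, he, hφe⟩ := saturated_data_local p hS F hex hQS
  have hsurj := normalizer_map_surj F hQn hconj hφ h1
  have hPS : P ≤ S := hfa.1
  obtain ⟨R, hR⟩ := hfa.2
  have hfinP : Finite (F.autGroup P) := finite_autGroup F hPS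
  have hfinQ : Finite (F.autGroup Q) := finite_autGroup F hQS
  -- the action of φ g on P
  have hact : ∀ (g : normalizerIn S Q) (y : P),
      ((MulAut.congr e (conjN S Q g) y : P) : Ω) = φ g * y * (φ g)⁻¹ := by
    intro g y
    have hx : (g : Ω) * ((e.symm y : Q) : Ω) * (g : Ω)⁻¹ ∈ Q :=
      ((mem_normalizerIn.1 g.2).2 _).1 (e.symm y).2
    have h2 : ((MulAut.congr e (conjN S Q g) y : P) : Ω) =
        (e ⟨(g : Ω) * ((e.symm y : Q) : Ω) * (g : Ω)⁻¹, hx⟩ : P) := rfl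
    rw [h2, ← hφe ⟨_, hx⟩]
    have h3 : (⟨(g : Ω) * ((e.symm y : Q) : Ω) * (g : Ω)⁻¹, le_normalizerIn hQS hx⟩ : normalizerIn S Q) =
        g * ⟨(e.symm y : Q), le_normalizerIn hQS (e.symm y).2⟩ * g⁻¹ := rfl
    rw [h3, map_mul, map_mul, map_inv, hφe (e.symm y), MulEquiv.apply_symm_apply]
  have hmapS : (autInducedBy S Q).map (MulAut.congr e).toMonoidHom = autInducedBy S P := by
    apply le_antisymm
    · rintro _ ⟨α, hα, rfl⟩
      rw [SetLike.mem_coe, autInducedBy_eq_range] at hα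
      obtain ⟨g, rfl⟩ := hα
      rw [mem_autInducedBy_iff]
      exact ⟨φ g, hom_mem_S F hφ g, fun y => hact g y⟩
    · intro β hβ
      rw [autInducedBy_eq_range] at hβ
      obtain ⟨h, rfl⟩ := hβ
      obtain ⟨g, hg⟩ := hsurj h h.2
      refine ⟨conjN S Q g, ?_, ?_⟩
      · rw [SetLike.mem_coe, autInducedBy_eq_range]
        exact ⟨g, rfl⟩
      · ext y
        show ((MulAut.congr e (conjN S Q g) y : P) : Ω) = _
        rw [hact g y, hg]
        rfl
  have hmapF : (F.autGroup Q).map (MulAut.congr e).toMonoidHom = F.autGroup P := by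
    apply le_antisymm
    · rintro _ ⟨α, hα, rfl⟩
      exact congr_mem_autGroup F he hα
    · intro β hβ
      exact ⟨(MulAut.congr e).symm β, congr_symm_mem_autGroup F he hβ,
        (MulAut.congr e).apply_symm_apply β⟩
  have hc1 : Nat.card (autInducedBy S Q) = Nat.card (autInducedBy S P) := by
    rw [← hmapS]
    exact (Subgroup.card_map_of_injective (MulAut.congr e).injective).symm
  have hc2 : Nat.card (F.autGroup Q) = Nat.card (F.autGroup P) := by
    rw [← hmapF]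
    exact (Subgroup.card_map_of_injective (MulAut.congr e).injective).symm
  have hc3 : Nat.card ((autInducedBy S Q).subgroupOf (F.autGroup Q)) = Nat.card (autInducedBy S Q) :=
    Nat.card_congr (Subgroup.subgroupOfEquivOfLe (autInducedBy_le_autGroup F hQS)).toEquiv
  have hc4 : Nat.card ((autInducedBy S P).subgroupOf (F.autGroup P)) = Nat.card (autInducedBy S P) :=
    Nat.card_congr (Subgroup.subgroupOfEquivOfLe (autInducedBy_le_autGroup F hPS)).toEquiv
  have hc5 : Nat.card ((autInducedBy S P).subgroupOf (F.autGroup P)) =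
      p ^ (Nat.card (F.autGroup P)).factorization p := by
    rw [← hR]
    exact R.card_eq_multiplicity
  have hcard : Nat.card ((autInducedBy S Q).subgroupOf (F.autGroup Q)) =
      p ^ (Nat.card (F.autGroup Q)).factorization p := by
    rw [hc3, hc1, ← hc4, hc5, hc2]
  exact ⟨hQS, Sylow.ofCard _ hcard, Sylow.coe_ofCard _ hcard⟩

/-- In a saturated system, fully centralized subgroups are receptive. -/
theorem rec_of_fc_local [Finite S] (p : ℕ) [Fact p.Prime] (hS : IsPGroup p S)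
    (F : FusionSystem S) {Q : Subgroup Ω} (hex : ∃ P, F.IsConj Q P ∧ F.IsFullyAutomized p P ∧ F.IsReceptive P) (hQc : F.IsFullyCentralized Q) :
    F.IsReceptive Q := by
  have hQS : Q ≤ S := hQc.1
  obtain ⟨P, hconj, hfa, hrec, φ, hφ, h1, e, he, hφe⟩ := saturated_data_local p hS F hex hQS
  have hPS : P ≤ S := hfa.1
  have hQN : Q ≤ normalizerIn S Q := le_normalizerIn hQS
  have hcent : ∀ c : normalizerIn S Q, (c : Ω) ∈ centralizerIn S Q → φ c ∈ centralizerIn S P := by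
    intro c hc
    rw [mem_centralizerIn]
    refine ⟨hom_mem_S F hφ c, fun y hy => ?_⟩
    have h2 : y = φ ⟨(e.symm ⟨y, hy⟩ : Q), hQN (e.symm ⟨y, hy⟩).2⟩ := by
      rw [hφe, MulEquiv.apply_symm_apply]
    rw [h2, ← map_mul, ← map_mul]
    congr 1
    apply Subtype.ext
    exact (mem_centralizerIn.1 hc).2 _ (e.symm ⟨y, hy⟩).2
  have hfinP : Finite (centralizerIn S P) := finite_of_le (centralizerIn_le S P)
  have hfinQ : Finite (centralizerIn S Q) := finite_of_le (centralizerIn_le S Q)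
  have hCN : centralizerIn S Q ≤ normalizerIn S Q := centralizerIn_le_normalizerIn S Q
  have hinj : Function.Injective (fun c : centralizerIn S Q =>
      (⟨φ (Subgroup.inclusion hCN c), hcent _ c.2⟩ : centralizerIn S P)) := by
    intro a b hab
    have h2 : φ (Subgroup.inclusion hCN a) = φ (Subgroup.inclusion hCN b) := congrArg Subtype.val hab
    exact Subgroup.inclusion_injective hCN (F.injective_of_mem hφ h2)
  have hbij := hinj.bijective_of_nat_card_le (hQc.2 P hconj)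
  have hcsurj : ∀ y ∈ centralizerIn S P, ∃ c : normalizerIn S Q, φ c = y := by
    intro y hy
    obtain ⟨c, hc⟩ := hbij.2 ⟨y, hy⟩
    exact ⟨Subgroup.inclusion hCN c, congrArg Subtype.val hc⟩
  refine ⟨hQS, fun R ψ hψ hψr => ?_⟩
  have hRS : R ≤ S := hom_le F hψ
  have hψQ : ∀ x : R, ψ x ∈ Q := fun x => by rw [← hψr]; exact ⟨x, rfl⟩
  have hψN : ∀ x : R, ψ x ∈ normalizerIn S Q := fun x => hQN (hψQ x)
  let θ : R →* Ω := φ.comp (ψ.codRestrict (normalizerIn S Q) hψN)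
  have hθ : θ ∈ F.Hom R := F.comp_mem hψ hφ hψN
  have hθx : ∀ x : R, θ x = φ ⟨ψ x, hψN x⟩ := fun x => rfl
  have hθe : ∀ x : R, θ x = e ⟨ψ x, hψQ x⟩ := fun x => by rw [hθx]; exact hφe ⟨ψ x, hψQ x⟩
  have hθr : θ.range = P := by
    apply le_antisymm
    · rintro _ ⟨x, rfl⟩
      rw [hθe]; exact (e _).2
    · intro y hy
      have hq : ((e.symm ⟨y, hy⟩ : Q) : Ω) ∈ ψ.range := by rw [hψr]; exact (e.symm ⟨y, hy⟩).2
      obtain ⟨x, hx⟩ := hq
      refine ⟨x, ?_⟩
      rw [hθe]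
      have : (⟨ψ x, hψQ x⟩ : Q) = e.symm ⟨y, hy⟩ := Subtype.ext hx
      rw [this, MulEquiv.apply_symm_apply]
  have hkey : ∀ g ∈ extender S R ψ, ∃ h : normalizerIn S Q,
      ∀ (x : R) (hx : g * (x : Ω) * g⁻¹ ∈ R), ψ ⟨g * x * g⁻¹, hx⟩ = h * ψ x * (h : Ω)⁻¹ := by
    intro g hg
    rw [mem_extender_iff] at hg
    obtain ⟨hgS, hgN, h, hhS, hh⟩ := hg
    have hgN' := Subgroup.mem_normalizer_iff.1 hgN
    have hhN : h ∈ normalizerIn S Q := by
      rw [mem_normalizerIn]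
      refine ⟨hhS, fun x => ⟨fun hx => ?_, fun hx => ?_⟩⟩
      · have hx' : x ∈ ψ.range := by rw [hψr]; exact hx
        obtain ⟨r, rfl⟩ := hx'
        rw [← hh r ((hgN' r).1 r.2)]
        exact hψQ _
      · have hx' : h * x * h⁻¹ ∈ ψ.range := by rw [hψr]; exact hx
        obtain ⟨r, hr⟩ := hx'
        have hr' : g⁻¹ * r * g ∈ R := by
          rw [hgN' (g⁻¹ * r * g)]
          simpa [mul_assoc] using r.2
        have hr'' : g * ((⟨g⁻¹ * r * g, hr'⟩ : R) : Ω) * g⁻¹ ∈ R := by simpa [mul_assoc] using r.2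
        have h3 := hh ⟨g⁻¹ * r * g, hr'⟩ hr''
        have h4 : (⟨g * ((⟨g⁻¹ * r * g, hr'⟩ : R) : Ω) * g⁻¹, hr''⟩ : R) = r := by
          apply Subtype.ext; simp [mul_assoc]
        rw [h4, hr] at h3
        have h5 : x = ψ ⟨g⁻¹ * r * g, hr'⟩ := mul_left_cancel (mul_right_cancel h3)
        rw [h5]; exact hψQ _
    exact ⟨⟨h, hhN⟩, hh⟩
  have hle : extender S R ψ ≤ extender S R θ := by
    intro g hg
    obtain ⟨h, hh⟩ := hkey g hg
    have hg' := (mem_extender_iff ψ).1 hg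
    rw [mem_extender_iff]
    refine ⟨hg'.1, hg'.2.1, φ h, hom_mem_S F hφ h, fun x hx => ?_⟩
    rw [hθx, hθx]
    have : (⟨ψ ⟨g * x * g⁻¹, hx⟩, hψN _⟩ : normalizerIn S Q) = h * ⟨ψ x, hψN x⟩ * h⁻¹ :=
      Subtype.ext (hh x hx)
    rw [this, map_mul, map_mul, map_inv]
  obtain ⟨χ₀, hχ₀, hχ₀θ⟩ := hrec.2 R θ hθ hθr
  have hRθ : R ≤ extender S R θ := le_extender hRS θ (hom_mem_S F hθ)
  have hχrange : ∀ g : extender S R ψ, χ₀ (Subgroup.inclusion hle g) ∈ φ.range := by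
    intro g
    obtain ⟨h, hh⟩ := hkey g g.2
    have hg' := (mem_extender_iff ψ).1 g.2
    have hgN' := Subgroup.mem_normalizer_iff.1 hg'.2.1
    have hc : (φ h)⁻¹ * χ₀ (Subgroup.inclusion hle g) ∈ centralizerIn S P := by
      rw [mem_centralizerIn]
      refine ⟨S.mul_mem (S.inv_mem (hom_mem_S F hφ h)) (hom_mem_S F hχ₀ _), fun y hy => ?_⟩
      have hy' : y ∈ θ.range := by rw [hθr]; exact hy
      obtain ⟨x, rfl⟩ := hy'
      have hx : (g : Ω) * x * (g : Ω)⁻¹ ∈ R := (hgN' x).1 x.2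
      have e1 : χ₀ (Subgroup.inclusion hle g) * θ x * (χ₀ (Subgroup.inclusion hle g))⁻¹ =
          θ ⟨g * x * (g : Ω)⁻¹, hx⟩ := by
        rw [← hχ₀θ x x.2 (hRθ x.2), ← hχ₀θ _ hx (hRθ hx), ← map_inv, ← map_mul, ← map_mul]
        rfl
      have e2 : θ ⟨g * x * (g : Ω)⁻¹, hx⟩ = φ h * θ x * (φ h)⁻¹ := by
        rw [hθx, hθx]
        have : (⟨ψ ⟨g * x * (g : Ω)⁻¹, hx⟩, hψN _⟩ : normalizerIn S Q) = h * ⟨ψ x, hψN x⟩ * h⁻¹ :=
          Subtype.ext (hh x hx)
        rw [this, map_mul, map_mul, map_inv]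
      rw [e2] at e1
      generalize χ₀ (Subgroup.inclusion hle g) = a at e1 ⊢
      generalize φ h = b at e1 ⊢
      generalize θ x = t at e1 ⊢
      have e3 : a * t = b * t * b⁻¹ * a := by rw [← e1]; group
      calc t * (b⁻¹ * a) = b⁻¹ * (b * t * b⁻¹ * a) := by group
        _ = b⁻¹ * (a * t) := by rw [e3]
        _ = b⁻¹ * a * t := by group
    obtain ⟨c, hc2⟩ := hcsurj _ hc
    refine ⟨h * c, ?_⟩
    rw [map_mul, hc2]; group
  obtain ⟨ι, hι, hιx, -⟩ := exists_inv F hφ (le_refl φ.range)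
  have hχ₁ : χ₀.comp (Subgroup.inclusion hle) ∈ F.Hom (extender S R ψ) := res_mem F hχ₀ hle
  refine ⟨ι.comp ((χ₀.comp (Subgroup.inclusion hle)).codRestrict φ.range hχrange),
    F.comp_mem hχ₁ hι hχrange, ?_⟩
  intro x hxR hxN
  have h6 : χ₀ (Subgroup.inclusion hle ⟨x, hxN⟩) = φ ⟨ψ ⟨x, hxR⟩, hψN _⟩ := by
    rw [← hθx]
    exact hχ₀θ x hxR (hle hxN)
  have h7 : (⟨χ₀ (Subgroup.inclusion hle ⟨x, hxN⟩), hχrange ⟨x, hxN⟩⟩ : φ.range) =
      ⟨φ ⟨ψ ⟨x, hxR⟩, hψN _⟩, ⟨_, rfl⟩⟩ := Subtype.ext h6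
  exact (congrArg ι h7).trans (hιx _ _)

/-- Roberts–Shpectorov, local form: a fully normalized receptive subgroup is fully automized as
soon as the larger fully normalized subgroups are. -/
theorem fa_of_fn_rec_local [Finite S] (p : ℕ) [Fact p.Prime] (hS : IsPGroup p S)
    (F : FusionSystem S) {Q : Subgroup Ω} (hQn : F.IsFullyNormalized Q) (hrec : F.IsReceptive Q)
    (hQe : Q ≠ S)
    (hbig : ∀ R : Subgroup Ω, F.IsFullyNormalized R → Nat.card Q < Nat.card R →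
      F.IsFullyAutomized p R) :
    F.IsFullyAutomized p Q := by
  have hp : p.Prime := Fact.out
  have hQS : Q ≤ S := hQn.1
  have hfinQ : Finite Q := finite_of_le hQS
  have hfinA : Finite (F.autGroup Q) := finite_autGroup F hQS
  have hTp : IsPGroup p ((autInducedBy S Q).subgroupOf (F.autGroup Q)) :=
    (autInducedBy_isPGroup hS Q).comap_subtype
  obtain ⟨R, hR⟩ := hTp.exists_le_sylow
  by_cases hRT : (R : Subgroup (F.autGroup Q)) = (autInducedBy S Q).subgroupOf (F.autGroup Q)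
  · exact ⟨hQS, R, hRT⟩
  exfalso
  obtain ⟨a, ha, haT⟩ := exists_mem_normalizerIn_not_mem (S := (R : Subgroup (F.autGroup Q)))
    R.2 hR (fun h => hRT h.symm)
  have haR : a ∈ (R : Subgroup (F.autGroup Q)) := (mem_normalizerIn.1 ha).1
  have haN := (mem_normalizerIn.1 ha).2
  have hαF : Q.subtype.comp (a : MulAut Q).toMonoidHom ∈ F.Hom Q :=
    (mem_autGroup_iff F hQS _).1 a.2
  have hNext : normalizerIn S Q ≤ extender S Q (Q.subtype.comp (a : MulAut Q).toMonoidHom) := by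
    intro g hg
    rw [mem_extender_iff]
    have hcg : conjN S Q ⟨g, hg⟩ ∈ autInducedBy S Q := by
      rw [autInducedBy_eq_range]; exact ⟨_, rfl⟩
    have hcgA : conjN S Q ⟨g, hg⟩ ∈ F.autGroup Q := autInducedBy_le_autGroup F hQS hcg
    have h3 := (haN ⟨conjN S Q ⟨g, hg⟩, hcgA⟩).1 (Subgroup.mem_subgroupOf.2 hcg)
    rw [Subgroup.mem_subgroupOf, mem_autInducedBy_iff] at h3
    obtain ⟨h, hhS, hh⟩ := h3
    refine ⟨(mem_normalizerIn.1 hg).1, (Subgroup.mem_inf.1 hg).2, h, hhS, fun x hx => ?_⟩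
    have h4 := hh ((a : MulAut Q) x)
    have e1 : ((((a * ⟨conjN S Q ⟨g, hg⟩, hcgA⟩ * a⁻¹ : F.autGroup Q) : MulAut Q)
        ((a : MulAut Q) x) : Q) : Ω) =
        (((a : MulAut Q) (conjN S Q ⟨g, hg⟩ ((a : MulAut Q)⁻¹ ((a : MulAut Q) x))) : Q) : Ω) := rfl
    rw [e1, MulAut.inv_apply_self] at h4
    exact h4
  obtain ⟨χ, hχ, hχα⟩ := hrec.2 Q _ hαF (IsFIso.range F hαF)
  have hQN : Q ≤ normalizerIn S Q := le_normalizerIn hQS
  have hNS : normalizerIn S Q ≤ S := normalizerIn_le S Q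
  have hᾱ : χ.comp (Subgroup.inclusion hNext) ∈ F.Hom (normalizerIn S Q) := res_mem F hχ hNext
  have hᾱQ : ∀ x : Q, (χ.comp (Subgroup.inclusion hNext)) (Subgroup.inclusion hQN x) =
      ((a : MulAut Q) x : Q) := fun x => hχα x x.2 (hNext (hQN x.2))
  have hfinN : Finite (normalizerIn S Q) := finite_of_le hNS
  have hrange_le : (χ.comp (Subgroup.inclusion hNext)).range ≤ normalizerIn S Q := by
    rintro _ ⟨g, rfl⟩
    refine Subgroup.mem_inf.2 ⟨hom_mem_S F hᾱ g, ?_⟩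
    apply mem_normalizer_of_finite_of_conj_mem
    intro x hx
    have hx' : x = (χ.comp (Subgroup.inclusion hNext))
        (Subgroup.inclusion hQN ((a : MulAut Q)⁻¹ ⟨x, hx⟩)) := by
      rw [hᾱQ, MulAut.apply_inv_self]
    rw [hx', ← map_inv, ← map_mul, ← map_mul]
    have e2 : g * Subgroup.inclusion hQN ((a : MulAut Q)⁻¹ ⟨x, hx⟩) * g⁻¹ =
        Subgroup.inclusion hQN (conjN S Q g ((a : MulAut Q)⁻¹ ⟨x, hx⟩)) := rfl
    rw [e2, hᾱQ]
    exact Subtype.property _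
  have hfinr : Finite (χ.comp (Subgroup.inclusion hNext)).range :=
    finite_of_le (hom_range_le F hᾱ)
  have hrange : (χ.comp (Subgroup.inclusion hNext)).range = normalizerIn S Q := by
    apply Subgroup.eq_of_le_of_card_ge hrange_le
    exact Nat.card_le_card_of_injective
      (fun x => (⟨_, x, rfl⟩ : (χ.comp (Subgroup.inclusion hNext)).range))
      (fun a b hab => F.injective_of_mem hᾱ (congrArg Subtype.val hab))
  obtain ⟨e, he, heQ⟩ : ∃ e : MulAut (normalizerIn S Q), IsFIso F e ∧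
      ∀ x : Q, ((e (Subgroup.inclusion hQN x) : normalizerIn S Q) : Ω) =
        ((a : MulAut Q) x : Q) :=
    ⟨isoOfHom F hᾱ hrange, isFIso_isoOfHom F hᾱ hrange, fun x => hᾱQ x⟩
  have hpos : orderOf e ≠ 0 := (orderOf_pos e).ne'
  obtain ⟨j, m, hm, hem⟩ := Nat.exists_eq_pow_mul_and_not_dvd hpos p hp.ne_one
  have he'A : e ^ m ∈ F.autGroup (normalizerIn S Q) :=
    Subgroup.pow_mem _ ((isFIso_aut_iff F hNS e).1 he) m
  have he'ord : (e ^ m) ^ (p ^ j) = 1 := by
    rw [← pow_mul, mul_comm, ← hem, pow_orderOf_eq_one]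
  have he'Q := pow_restrict hQN e (a : MulAut Q) heQ m
  obtain ⟨Nst, hconjN, hNstn⟩ := exists_fullyNormalized_conj F hNS
  have hNstS : Nst ≤ S := hNstn.1
  obtain ⟨e₀, he₀⟩ := exists_isFIso_of_isConj F hconjN
  have hcardNst : Nat.card Nst = Nat.card (normalizerIn S Q) := (Nat.card_congr e₀.toEquiv).symm
  obtain ⟨g₀, hg₀, hg₀Q⟩ := exists_mem_normalizerIn_not_mem hS hQS hQe
  have hlt : Nat.card Q < Nat.card (normalizerIn S Q) := card_lt_of_le_of_not_mem hQN hg₀ hg₀Q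
  have hNstfa : F.IsFullyAutomized p Nst := hbig Nst hNstn (by rw [hcardNst]; exact hlt)
  obtain ⟨Rst, hRst⟩ := hNstfa.2
  have hfinAst : Finite (F.autGroup Nst) := finite_autGroup F hNstS
  have hβA : MulAut.congr e₀ (e ^ m) ∈ F.autGroup Nst := congr_mem_autGroup F he₀ he'A
  have hβord : (⟨MulAut.congr e₀ (e ^ m), hβA⟩ : F.autGroup Nst) ^ (p ^ j) = 1 := by
    apply Subtype.ext
    rw [Subgroup.coe_pow]
    show (MulAut.congr e₀ (e ^ m)) ^ (p ^ j) = 1
    rw [← map_pow, he'ord, map_one]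
  have hβp : IsPGroup p (Subgroup.zpowers (⟨MulAut.congr e₀ (e ^ m), hβA⟩ : F.autGroup Nst)) := by
    have hdvd := orderOf_dvd_of_pow_eq_one hβord
    obtain ⟨i, -, hi⟩ := (Nat.dvd_prime_pow hp).1 hdvd
    apply IsPGroup.of_card (n := i)
    rw [Nat.card_zpowers, hi]
  obtain ⟨c, hc⟩ := exists_conj_le_sylow Rst hβp
  have h5 := hc _ (Subgroup.mem_zpowers _)
  rw [hRst, Subgroup.mem_subgroupOf, mem_autInducedBy_iff] at h5
  obtain ⟨s, hsS, hs⟩ := h5
  have hkey : ∀ g : normalizerIn S Q, (((c : MulAut Nst) (e₀ ((e ^ m) g)) : Nst) : Ω) =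
      s * (((c : MulAut Nst) (e₀ g) : Nst) : Ω) * s⁻¹ := by
    intro g
    have h6 := hs ((c : MulAut Nst) (e₀ g))
    have e1 : ((((c * ⟨MulAut.congr e₀ (e ^ m), hβA⟩ * c⁻¹ : F.autGroup Nst) : MulAut Nst)
        ((c : MulAut Nst) (e₀ g)) : Nst) : Ω) =
        (((c : MulAut Nst) (e₀ ((e ^ m) (e₀.symm ((c : MulAut Nst)⁻¹
          ((c : MulAut Nst) (e₀ g)))))) : Nst) : Ω) := rfl
    rw [e1, MulAut.inv_apply_self, MulEquiv.symm_apply_apply] at h6
    exact h6
  obtain ⟨ψ, hψF, hψkey⟩ : ∃ ψ : normalizerIn S Q ≃* Nst, IsFIso F ψ ∧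
      ∀ g, ((ψ ((e ^ m) g) : Nst) : Ω) = s * (ψ g : Ω) * s⁻¹ :=
    ⟨e₀.trans (c : MulAut Nst), IsFIso.trans F he₀ ((isFIso_aut_iff F hNstS _).2 c.2), hkey⟩
  have hψQ : (Nst.subtype.comp ψ.toMonoidHom).comp (Subgroup.inclusion hQN) ∈ F.Hom Q :=
    res_mem F hψF hQN
  have hconjQ : F.IsConj Q ((Nst.subtype.comp ψ.toMonoidHom).comp (Subgroup.inclusion hQN)).range :=
    ⟨_, hψQ, rfl⟩
  have hfinQ' : Finite ((Nst.subtype.comp ψ.toMonoidHom).comp (Subgroup.inclusion hQN)).range :=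
    finite_of_le (hom_range_le F hψQ)
  have hNle : Nst ≤
      normalizerIn S ((Nst.subtype.comp ψ.toMonoidHom).comp (Subgroup.inclusion hQN)).range := by
    intro y hy
    refine Subgroup.mem_inf.2 ⟨hNstS hy, ?_⟩
    apply mem_normalizer_of_finite_of_conj_mem
    rintro _ ⟨x, rfl⟩
    refine ⟨conjN S Q (ψ.symm ⟨y, hy⟩) x, ?_⟩
    show ((ψ (Subgroup.inclusion hQN (conjN S Q (ψ.symm ⟨y, hy⟩) x)) : Nst) : Ω) =
      y * ((ψ (Subgroup.inclusion hQN x) : Nst) : Ω) * y⁻¹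
    have e3 : Subgroup.inclusion hQN (conjN S Q (ψ.symm ⟨y, hy⟩) x) =
        ψ.symm ⟨y, hy⟩ * Subgroup.inclusion hQN x * (ψ.symm ⟨y, hy⟩)⁻¹ := rfl
    rw [e3, map_mul, map_mul, map_inv, MulEquiv.apply_symm_apply]
    rfl
  have hfinN' : Finite (normalizerIn S
      ((Nst.subtype.comp ψ.toMonoidHom).comp (Subgroup.inclusion hQN)).range) :=
    finite_of_le (normalizerIn_le S _)
  have hcardle : Nat.card (normalizerIn S
      ((Nst.subtype.comp ψ.toMonoidHom).comp (Subgroup.inclusion hQN)).range) ≤ Nat.card Nst := by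
    rw [hcardNst]; exact hQn.2 _ hconjQ
  have hNeq := Subgroup.eq_of_le_of_card_ge hNle hcardle
  have hsN : s ∈ normalizerIn S
      ((Nst.subtype.comp ψ.toMonoidHom).comp (Subgroup.inclusion hQN)).range := by
    refine Subgroup.mem_inf.2 ⟨hsS, ?_⟩
    apply mem_normalizer_of_finite_of_conj_mem
    rintro _ ⟨x, rfl⟩
    refine ⟨((a : MulAut Q) ^ m) x, ?_⟩
    show ((ψ (Subgroup.inclusion hQN (((a : MulAut Q) ^ m) x)) : Nst) : Ω) =
      s * ((ψ (Subgroup.inclusion hQN x) : Nst) : Ω) * s⁻¹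
    rw [← hψkey]
    have e4 : Subgroup.inclusion hQN (((a : MulAut Q) ^ m) x) =
        (e ^ m) (Subgroup.inclusion hQN x) := Subtype.ext (he'Q x).symm
    rw [e4]
  have hsNst : s ∈ Nst := by rw [hNeq]; exact hsN
  have hinner : ∀ g : normalizerIn S Q,
      (e ^ m) g = ψ.symm ⟨s, hsNst⟩ * g * (ψ.symm ⟨s, hsNst⟩)⁻¹ := by
    intro g
    apply ψ.injective
    rw [map_mul, map_mul, map_inv, MulEquiv.apply_symm_apply]
    exact Subtype.ext (hψkey g)
  have ham : ((a : MulAut Q) ^ m) ∈ autInducedBy S Q := by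
    rw [mem_autInducedBy_iff]
    refine ⟨((ψ.symm ⟨s, hsNst⟩ : normalizerIn S Q) : Ω), hNS (Subtype.property _), fun x => ?_⟩
    rw [← he'Q x, hinner]
    rfl
  have hcop : m.Coprime (orderOf (a : MulAut Q)) := by
    obtain ⟨k, hk⟩ := R.2 ⟨a, haR⟩
    have hk' : (a : MulAut Q) ^ (p ^ k) = 1 := by
      have h7 := congrArg (fun z : (R : Subgroup (F.autGroup Q)) => ((z : F.autGroup Q) : MulAut Q)) hk
      exact h7
    have hdvd := orderOf_dvd_of_pow_eq_one hk'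
    have h8 : m.Coprime (p ^ k) := Nat.Coprime.pow_right k ((Nat.Prime.coprime_iff_not_dvd hp).2 hm).symm
    exact Nat.Coprime.coprime_dvd_right hdvd h8
  obtain ⟨t, ht⟩ := exists_pow_eq_self_of_coprime hcop
  apply haT
  rw [Subgroup.mem_subgroupOf, ← ht]
  exact Subgroup.pow_mem _ ham t

end Cfsg.Agent.Lib.Helper84.SatCrit
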