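import Mathlib
import Cfsg.Prelude.Def_FusionSystem
import Cfsg.Agent.Lib.Helper84.SatCrit1
import Cfsg.Agent.Lib.Helper84.KNormalizer
import Cfsg.Agent.Lib.Helper84.DFac2
import Cfsg.Agent.Lib.Helper88.FusBasic

set_option autoImplicit false

namespace Cfsg.Agent.Lib.Helper84.SatCrit

open Cfsg Cfsg.FusionSystem Cfsg.Agent.Lib.Helper84
open Cfsg.Agent.Lib.Helper88 (Mor extFun extFun_mem extFun_apply img mor_of_hom hom_of_mor mor_conj mor_id)

variable {Ω : Type*} [Group Ω] {S : Subgroup Ω}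

/-! ### Group lemmas on Sylow positions -/

/-- A subgroup `K₀` can be conjugated so that the given Sylow subgroup meets it in a Sylow subgroup
(in "conjugation form"). -/
theorem exists_conj_sylK {G : Type*} [Group G] [Finite G] {p : ℕ} [Fact p.Prime] (A : Sylow p G)
    (K₀ : Subgroup G) :
    ∃ γ : G, ∀ B : Subgroup G, IsPGroup p B → (∀ b ∈ B, γ⁻¹ * b * γ ∈ K₀) →
      ∃ k : G, γ⁻¹ * k * γ ∈ K₀ ∧ ∀ b ∈ B, k * b * k⁻¹ ∈ (A : Subgroup G) := by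
  obtain ⟨T⟩ : Nonempty (Sylow p K₀) := inferInstance
  have hT' : IsPGroup p ((T : Subgroup K₀).map K₀.subtype) := T.2.map _
  obtain ⟨γ, hγ⟩ := exists_conj_le_sylow A hT'
  refine ⟨γ, fun B hB hBK => ?_⟩
  have hB₀ : IsPGroup p ((B.map (MulAut.conj γ⁻¹).toMonoidHom).subgroupOf K₀) :=
    (hB.map _).comap_subtype
  obtain ⟨k₀, hk₀⟩ := exists_conj_le_sylow T hB₀
  refine ⟨γ * (k₀ : G) * γ⁻¹, ?_, fun b hb => ?_⟩
  · have : γ⁻¹ * (γ * (k₀ : G) * γ⁻¹) * γ = k₀ := by group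
    rw [this]; exact k₀.2
  · have hb₀ : γ⁻¹ * b * γ ∈ K₀ := hBK b hb
    have hmem : (⟨γ⁻¹ * b * γ, hb₀⟩ : K₀) ∈
        (B.map (MulAut.conj γ⁻¹).toMonoidHom).subgroupOf K₀ := by
      rw [Subgroup.mem_subgroupOf]
      refine ⟨b, hb, ?_⟩
      show MulAut.conj γ⁻¹ b = γ⁻¹ * b * γ
      rw [MulAut.conj_apply, inv_inv]
    have h1 := hk₀ _ hmem
    have h2 : ((k₀ * ⟨γ⁻¹ * b * γ, hb₀⟩ * k₀⁻¹ : K₀) : G) ∈
        (T : Subgroup K₀).map K₀.subtype := ⟨_, h1, rfl⟩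
    have h3 := hγ _ h2
    have e : γ * (k₀ : G) * γ⁻¹ * b * (γ * (k₀ : G) * γ⁻¹)⁻¹ =
        γ * ((k₀ : G) * (γ⁻¹ * b * γ) * (k₀ : G)⁻¹) * γ⁻¹ := by group
    rw [e]
    exact h3

/-- The Sylow position passes to intermediate subgroups. -/
theorem sylK_mono {G : Type*} [Group G] [Finite G] {p : ℕ} [Fact p.Prime] (A : Subgroup G)
    (K K' : Subgroup G) (hK'K : K' ≤ K) (hAK : A ⊓ K ≤ K') (hA : IsPGroup p A)
    (h : ∀ B : Subgroup G, IsPGroup p B → B ≤ K → ∃ k ∈ K, ∀ b ∈ B, k * b * k⁻¹ ∈ A) :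
    ∀ B : Subgroup G, IsPGroup p B → B ≤ K' → ∃ k ∈ K', ∀ b ∈ B, k * b * k⁻¹ ∈ A := by
  obtain ⟨T⟩ : Nonempty (Sylow p K') := inferInstance
  have hT' : IsPGroup p ((T : Subgroup K').map K'.subtype) := T.2.map _
  have hT'K : (T : Subgroup K').map K'.subtype ≤ K := by
    rintro x ⟨t, -, rfl⟩
    exact hK'K t.2
  obtain ⟨k₀, hk₀K, hk₀⟩ := h _ hT' hT'K
  have hA₁ : IsPGroup p ((A ⊓ K).subgroupOf K') := (hA.to_le inf_le_left).comap_subtype
  obtain ⟨T₂, hT₂⟩ := hA₁.exists_le_sylow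
  have hmemAK : ∀ t : (T : Subgroup K'), k₀ * ((t : K') : G) * k₀⁻¹ ∈ A ⊓ K := by
    intro t
    refine ⟨hk₀ _ ⟨t.1, t.2, rfl⟩, K.mul_mem (K.mul_mem hk₀K (hK'K t.1.2)) (K.inv_mem hk₀K)⟩
  have hcard : Nat.card (T : Subgroup K') ≤ Nat.card ((A ⊓ K).subgroupOf K') := by
    refine Nat.card_le_card_of_injective
      (fun t => (⟨⟨k₀ * ((t : K') : G) * k₀⁻¹, hAK (hmemAK t)⟩,
        Subgroup.mem_subgroupOf.2 (hmemAK t)⟩ : (A ⊓ K).subgroupOf K')) ?_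
    intro t t' htt
    have h1 : k₀ * ((t : K') : G) * k₀⁻¹ = k₀ * ((t' : K') : G) * k₀⁻¹ :=
      congrArg (fun z : (A ⊓ K).subgroupOf K' => ((z : K') : G)) htt
    have h2 : ((t : K') : G) = ((t' : K') : G) := mul_left_cancel (mul_right_cancel h1)
    exact Subtype.ext (Subtype.ext h2)
  have hcard2 : Nat.card (T₂ : Subgroup K') = Nat.card (T : Subgroup K') := by
    rw [T₂.card_eq_multiplicity, T.card_eq_multiplicity]
  have heq : (A ⊓ K).subgroupOf K' = T₂ :=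
    Subgroup.eq_of_le_of_card_ge hT₂ (by rw [hcard2]; exact hcard)
  intro B hB hBK'
  have hB' : IsPGroup p (B.subgroupOf K') := hB.comap_subtype
  obtain ⟨k, hk⟩ := exists_conj_le_sylow T₂ hB'
  refine ⟨k, k.2, fun b hb => ?_⟩
  have h1 := hk ⟨b, hBK' hb⟩ (Subgroup.mem_subgroupOf.2 hb)
  rw [← heq, Subgroup.mem_subgroupOf] at h1
  exact h1.1

/-- elements of a join `A ⊔ B` when `A` normalizes `B`. -/
theorem exists_mul_of_mem_sup_of_normalizes {A B : Subgroup Ω}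
    (h : ∀ a ∈ A, ∀ b ∈ B, a * b * a⁻¹ ∈ B) {x : Ω} (hx : x ∈ A ⊔ B) :
    ∃ a ∈ A, ∃ b ∈ B, x = a * b := by
  let M : Subgroup Ω :=
    { carrier := {x | ∃ a ∈ A, ∃ b ∈ B, x = a * b}
      mul_mem' := by
        rintro _ _ ⟨a, ha, b, hb, rfl⟩ ⟨a', ha', b', hb', rfl⟩
        have h1 := h a'⁻¹ (A.inv_mem ha') b hb
        rw [inv_inv] at h1
        refine ⟨a * a', A.mul_mem ha ha', a'⁻¹ * b * a' * b', B.mul_mem h1 hb', ?_⟩
        group
      one_mem' := ⟨1, A.one_mem, 1, B.one_mem, by simp⟩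
      inv_mem' := by
        rintro _ ⟨a, ha, b, hb, rfl⟩
        refine ⟨a⁻¹, A.inv_mem ha, a * b⁻¹ * a⁻¹, h a ha _ (B.inv_mem hb), ?_⟩
        group }
  have hle : A ⊔ B ≤ M :=
    sup_le (fun a ha => ⟨a, ha, 1, B.one_mem, by simp⟩) (fun b hb => ⟨1, A.one_mem, b, hb, by simp⟩)
  exact hle hx

/-! ### Maps of the system and normalizers -/

theorem mem_normalizerIn_of_conj [Finite S] {P : Subgroup Ω} (hP : P ≤ S) {g : Ω} (hg : g ∈ S)
    (h : ∀ x ∈ P, g * x * g⁻¹ ∈ P) : g ∈ normalizerIn S P := by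
  haveI : Finite P := finite_of_le hP
  exact Subgroup.mem_inf.2 ⟨hg, mem_normalizer_of_finite_of_conj_mem h⟩

theorem conj_mem_of_mem_normalizerIn {P : Subgroup Ω} {g x : Ω} (hg : g ∈ normalizerIn S P)
    (hx : x ∈ P) : g * x * g⁻¹ ∈ P :=
  ((mem_normalizerIn.1 hg).2 x).1 hx

/-- a map of the system sends the normalizer of `P` into the normalizer of the image of `P`. -/
theorem mor_normalizer [Finite S] {F : FusionSystem S} {D P : Subgroup Ω} {f : Ω → Ω}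
    (hf : Mor F D f) (hPD : P ≤ D) {g : Ω} (hg : g ∈ D) (hgN : g ∈ normalizerIn S P) :
    f g ∈ normalizerIn S (img P f) := by
  have hfP : Mor F P f := hf.res hPD
  refine mem_normalizerIn_of_conj hfP.img_le (hf.mem_S hg) ?_
  intro y hy
  obtain ⟨x, hx, rfl⟩ := hfP.mem_img.1 hy
  rw [← mor_conj_apply hf hg (hPD hx)]
  exact hfP.apply_mem_img (conj_mem_of_mem_normalizerIn hgN hx)

theorem img_mono_of_mor {F : FusionSystem S} {D P : Subgroup Ω} {f : Ω → Ω}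
    (hf : Mor F D f) (hPD : P ≤ D) : img P f ≤ img D f := by
  intro y hy
  obtain ⟨x, hx, rfl⟩ := (hf.res hPD).mem_img.1 hy
  exact hf.apply_mem_img (hPD hx)

/-- receptivity extends a map to the join of its source with a subgroup acting compatibly. -/
theorem receptive_extend_sup {F : FusionSystem S} {Q P M : Subgroup Ω} {f : Ω → Ω}
    (hQ : F.IsReceptive Q) (hf : Mor F P f) (himg : img P f = Q)
    (hM : ∀ g ∈ M, g ∈ S ∧ g ∈ Subgroup.normalizer (P : Set Ω) ∧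
      ∃ h ∈ S, ∀ x ∈ P, f (g * x * g⁻¹) = h * f x * h⁻¹) :
    ∃ f', Mor F (P ⊔ M) f' ∧ ∀ x ∈ P, f' x = f x := by
  have hPS := hf.le
  obtain ⟨φ, hφ, hφf⟩ := hf
  have hr : φ.range = Q := by rw [← Helper88.img_eq_range φ hφf]; exact himg
  obtain ⟨ψ, hψ, hψφ⟩ := hQ.2 P φ hφ hr
  have hNle : P ⊔ M ≤ extender S P φ := by
    refine sup_le (le_extender hPS φ (hom_mem_S F hφ)) ?_
    intro g hg
    obtain ⟨h1, h2, h, hh, h3⟩ := hM g hg
    apply Subgroup.subset_closure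
    refine ⟨h1, h2, h, hh, ?_⟩
    intro x hx
    rw [hφf, hφf]
    exact h3 x x.2
  refine ⟨extFun ψ, (mor_of_hom F hψ).res hNle, ?_⟩
  intro x hx
  have hxN : x ∈ extender S P φ := hNle ((le_sup_left : P ≤ P ⊔ M) hx)
  rw [extFun_mem ψ hxN, hψφ x hx hxN]
  exact hφf ⟨x, hx⟩

/-! ### Function-level facts on automorphisms -/

theorem autFun_one {R : Subgroup Ω} {x : Ω} (hx : x ∈ R) : autFun (1 : MulAut R) x = x := by
  rw [autFun_mem _ hx]; rfl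

theorem autFun_inv' {R : Subgroup Ω} (α : MulAut R) {x : Ω} (hx : x ∈ R) :
    autFun α (autFun α⁻¹ x) = x := by
  have h := autFun_inv α⁻¹ hx
  rwa [inv_inv] at h

/-! ### Families of normal subgroups of automizers -/

/-- A family `K_X ⊴ Aut_F(X)`, given through the predicate "`f` restricts on `X` to an element of
`K_X`", compatible with the isomorphisms of the system. -/
structure KFam (F : FusionSystem S) where
  Kp : Subgroup Ω → (Ω → Ω) → Prop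
  kcongr : ∀ {X : Subgroup Ω} {f g : Ω → Ω}, (∀ x ∈ X, f x = g x) → Kp X f → Kp X g
  kmor : ∀ {X : Subgroup Ω} {f : Ω → Ω}, Kp X f → Mor F X f
  kmaps : ∀ {X : Subgroup Ω} {f : Ω → Ω}, Kp X f → ∀ x ∈ X, f x ∈ X
  kcomp : ∀ {X : Subgroup Ω} {f g : Ω → Ω}, Kp X f → Kp X g → Kp X (fun x => g (f x))
  kinv : ∀ {X : Subgroup Ω} {f g : Ω → Ω}, Kp X f → (∀ x ∈ X, g (f x) = x) → Kp X g
  kinn : ∀ {X : Subgroup Ω} {y : Ω}, X ≤ S → y ∈ X → Kp X (fun x => y * x * y⁻¹)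
  ktrans : ∀ {X : Subgroup Ω} {e f g : Ω → Ω}, Mor F X e → Kp X f →
    (∀ x ∈ X, g (e x) = e (f x)) → Kp (img X e) g

namespace KFam

variable {F : FusionSystem S}

/-- `N_S^K(X)`: the elements of `S` inducing an element of `K_X` on `X`. -/
def QX (K : KFam F) (X : Subgroup Ω) : Subgroup Ω where
  carrier := {g | g ∈ S ∧ (X ≤ S → K.Kp X (fun x => g * x * g⁻¹))}
  mul_mem' := by
    rintro a b ⟨ha, hKa⟩ ⟨hb, hKb⟩
    refine ⟨S.mul_mem ha hb, fun hX => K.kcongr (fun x _ => ?_) (K.kcomp (hKb hX) (hKa hX))⟩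
    group
  one_mem' := ⟨S.one_mem, fun hX => K.kinn hX X.one_mem⟩
  inv_mem' := by
    rintro a ⟨ha, hKa⟩
    refine ⟨S.inv_mem ha, fun hX => K.kinv (hKa hX) (fun x _ => ?_)⟩
    group

theorem mem_QX (K : KFam F) {X : Subgroup Ω} (hX : X ≤ S) {g : Ω} :
    g ∈ K.QX X ↔ g ∈ S ∧ K.Kp X (fun x => g * x * g⁻¹) :=
  ⟨fun h => ⟨h.1, h.2 hX⟩, fun h => ⟨h.1, fun _ => h.2⟩⟩

theorem QX_le (K : KFam F) (X : Subgroup Ω) : K.QX X ≤ S := fun _ hg => hg.1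

theorem le_QX (K : KFam F) {X : Subgroup Ω} (hX : X ≤ S) : X ≤ K.QX X :=
  fun y hy => (K.mem_QX hX).2 ⟨hX hy, K.kinn hX hy⟩

theorem QX_le_normalizerIn [Finite S] (K : KFam F) {X : Subgroup Ω} (hX : X ≤ S) :
    K.QX X ≤ normalizerIn S X := by
  intro g hg
  obtain ⟨hgS, hgK⟩ := (K.mem_QX hX).1 hg
  exact mem_normalizerIn_of_conj hX hgS (K.kmaps hgK)

/-- invariance of `N_S^K` under the maps of the system. -/
theorem map_mem_QX [Finite S] (K : KFam F) {Y X : Subgroup Ω} {f : Ω → Ω} (hf : Mor F Y f)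
    (hXY : X ≤ Y) {g : Ω} (hg : g ∈ Y) (hgQ : g ∈ K.QX X) : f g ∈ K.QX (img X f) := by
  have hXS : X ≤ S := hXY.trans hf.le
  have hfX : Mor F X f := hf.res hXY
  obtain ⟨-, hgK⟩ := (K.mem_QX hXS).1 hgQ
  refine (K.mem_QX hfX.img_le).2 ⟨hf.mem_S hg, ?_⟩
  refine K.ktrans hfX hgK (fun x hx => ?_)
  exact (mor_conj_apply hf hg (hXY hx)).symm

/-- the automorphisms of `R₀` in the system restricting to an element of `K_X` on `X`. -/
def StabK (K : KFam F) {R₀ X : Subgroup Ω} (hX : X ≤ R₀) (hR₀ : R₀ ≤ S) :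
    Subgroup (F.autGroup R₀) where
  carrier := {α | K.Kp X (autFun (α : MulAut R₀))}
  mul_mem' := by
    intro a b ha hb
    refine K.kcongr (fun x hx => ?_) (K.kcomp hb ha)
    exact (autFun_mul (a : MulAut R₀) (b : MulAut R₀) (hX hx)).symm
  one_mem' := by
    refine K.kcongr (fun x hx => ?_) (K.kinn (hX.trans hR₀) X.one_mem)
    show 1 * x * 1⁻¹ = autFun (1 : MulAut R₀) x
    rw [autFun_one (hX hx)]
    group
  inv_mem' := by
    intro a ha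
    exact K.kinv ha (fun x hx => autFun_inv (a : MulAut R₀) (hX hx))

theorem mem_StabK (K : KFam F) {R₀ X : Subgroup Ω} (hX : X ≤ R₀) (hR₀ : R₀ ≤ S)
    {α : F.autGroup R₀} : α ∈ K.StabK hX hR₀ ↔ K.Kp X (autFun (α : MulAut R₀)) := Iff.rfl

end KFam

/-- The Sylow position of a subgroup `𝔎` of `Aut_F(R₀)`: its `p`-subgroups can be conjugated inside
`𝔎` into `Aut_S(R₀)`. -/
def SylK (F : FusionSystem S) (p : ℕ) {R₀ : Subgroup Ω} (𝔎 : Subgroup (F.autGroup R₀)) : Prop :=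
  ∀ B : Subgroup (F.autGroup R₀), IsPGroup p B → B ≤ 𝔎 →
    ∃ k ∈ 𝔎, ∀ b ∈ B, k * b * k⁻¹ ∈ (autInducedBy S R₀).subgroupOf (F.autGroup R₀)

theorem img_autFun [Finite S] (F : FusionSystem S) {R₀ : Subgroup Ω} (hR₀ : R₀ ≤ S)
    (γ : F.autGroup R₀) : img R₀ (autFun (γ : MulAut R₀)) = R₀ :=
  (autFun_mor F hR₀ γ.2).img_eq_self (fun _ hx => autFun_mem_R _ hx)

/-- Every subgroup `X₀` of a fully automized `R₀` has a conjugate under `Aut_F(R₀)` in good Sylow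
position with respect to the family `K`. -/
theorem exists_pos [Finite S] (p : ℕ) [Fact p.Prime] (F : FusionSystem S) (K : KFam F)
    {R₀ X₀ : Subgroup Ω} (hfa : F.IsFullyAutomized p R₀) (hX₀ : X₀ ≤ R₀) :
    ∃ γ : F.autGroup R₀, ∀ (hX : img X₀ (autFun (γ : MulAut R₀)) ≤ R₀),
      SylK F p (K.StabK hX hfa.1) := by
  have hR₀ : R₀ ≤ S := hfa.1
  haveI : Finite (F.autGroup R₀) := finite_autGroup F hR₀
  obtain ⟨Rsyl, hRsyl⟩ := hfa.2
  obtain ⟨γ, hγ⟩ := exists_conj_sylK Rsyl (K.StabK hX₀ hR₀)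
  refine ⟨γ, fun hX B hB hBK => ?_⟩
  have hγX₀ : Mor F X₀ (autFun (γ : MulAut R₀)) := (autFun_mor F hR₀ γ.2).res hX₀
  have hγinv : Mor F (img X₀ (autFun (γ : MulAut R₀))) (autFun ((γ⁻¹ : F.autGroup R₀) : MulAut R₀)) :=
    (autFun_mor F hR₀ (γ⁻¹).2).res hX
  have himg : img (img X₀ (autFun (γ : MulAut R₀))) (autFun ((γ⁻¹ : F.autGroup R₀) : MulAut R₀))
      = X₀ := by
    rw [← DFac.img_comp hγX₀ hγinv]
    refine (hγX₀.comp hγinv (fun x hx => hγX₀.apply_mem_img hx)).img_eq_self (fun x hx => ?_)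
    show autFun ((γ : MulAut R₀)⁻¹) (autFun (γ : MulAut R₀) x) ∈ X₀
    rw [autFun_inv _ (hX₀ hx)]
    exact hx
  have h1 : ∀ b ∈ B, γ⁻¹ * b * γ ∈ K.StabK hX₀ hR₀ := by
    intro b hb
    have hbK : K.Kp (img X₀ (autFun (γ : MulAut R₀))) (autFun (b : MulAut R₀)) := hBK hb
    have h2 := K.ktrans (g := autFun ((γ⁻¹ * b * γ : F.autGroup R₀) : MulAut R₀)) hγinv hbK
      (fun x hx => by
        have hxR : x ∈ R₀ := hX hx
        show autFun ((γ : MulAut R₀)⁻¹ * (b : MulAut R₀) * (γ : MulAut R₀))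
          (autFun ((γ : MulAut R₀)⁻¹) x) = autFun ((γ : MulAut R₀)⁻¹) (autFun (b : MulAut R₀) x)
        rw [autFun_mul _ _ (autFun_mem_R _ hxR), autFun_inv' _ hxR, autFun_mul _ _ hxR])
    rw [himg] at h2
    exact h2
  obtain ⟨k, hk, hkB⟩ := hγ B hB h1
  refine ⟨k, ?_, fun b hb => ?_⟩
  · have hkK : K.Kp X₀ (autFun ((γ⁻¹ * k * γ : F.autGroup R₀) : MulAut R₀)) := hk
    exact K.ktrans (g := autFun (k : MulAut R₀)) hγX₀ hkK (fun x hx => by
      have hxR : x ∈ R₀ := hX₀ hx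
      show autFun (k : MulAut R₀) (autFun (γ : MulAut R₀) x) =
        autFun (γ : MulAut R₀) (autFun ((γ : MulAut R₀)⁻¹ * (k : MulAut R₀) * (γ : MulAut R₀)) x)
      rw [autFun_mul _ _ hxR, autFun_mul _ _ (autFun_mem_R _ hxR),
        autFun_inv' _ (autFun_mem_R _ (autFun_mem_R _ hxR))])
  · rw [← hRsyl]
    exact hkB b hb

/-- The extension lemma: in good Sylow position, an isomorphism onto the receptive subgroup `R₀`
extends, after twisting by an element of `𝔎`, over any subgroup acting through `𝔎`. -/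
theorem kext0 [Finite S] (p : ℕ) [Fact p.Prime] (hS : IsPGroup p S) (F : FusionSystem S)
    {R₀ : Subgroup Ω} (hrec : F.IsReceptive R₀) (𝔎 : Subgroup (F.autGroup R₀)) (hsyl : SylK F p 𝔎)
    {R₁ M : Subgroup Ω} {ξ : Ω → Ω} (hξ : Mor F R₁ ξ) (himg : img R₁ ξ = R₀)
    (hM : ∀ g ∈ M, g ∈ normalizerIn S R₁ ∧ ∃ b ∈ 𝔎, ∀ x ∈ R₁,
      autFun (b : MulAut R₀) (ξ x) = ξ (g * x * g⁻¹)) :
    ∃ k ∈ 𝔎, ∃ ψ, Mor F (R₁ ⊔ M) ψ ∧ ∀ x ∈ R₁, ψ x = autFun (k : MulAut R₀) (ξ x) := by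
  have hR₀ : R₀ ≤ S := hrec.1
  have hξR : ∀ x ∈ R₁, ξ x ∈ R₀ := fun x hx => himg ▸ hξ.apply_mem_img hx
  -- the subgroup of `𝔎` induced by `M`
  let B : Subgroup (F.autGroup R₀) :=
    { carrier := {b | b ∈ 𝔎 ∧ ∃ g ∈ M, ∀ x ∈ R₁, autFun (b : MulAut R₀) (ξ x) = ξ (g * x * g⁻¹)}
      mul_mem' := by
        rintro a b ⟨ha, g₁, hg₁, h₁⟩ ⟨hb, g₂, hg₂, h₂⟩
        refine ⟨𝔎.mul_mem ha hb, g₁ * g₂, M.mul_mem hg₁ hg₂, fun x hx => ?_⟩
        have hx2 : g₂ * x * g₂⁻¹ ∈ R₁ := conj_mem_of_mem_normalizerIn (hM g₂ hg₂).1 hx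
        show autFun ((a : MulAut R₀) * (b : MulAut R₀)) (ξ x) = _
        rw [autFun_mul _ _ (hξR x hx), h₂ x hx, h₁ _ hx2]
        congr 1
        group
      one_mem' := by
        refine ⟨𝔎.one_mem, 1, M.one_mem, fun x hx => ?_⟩
        show autFun (1 : MulAut R₀) (ξ x) = _
        rw [autFun_one (hξR x hx)]
        congr 1
        group
      inv_mem' := by
        rintro a ⟨ha, g, hg, h⟩
        refine ⟨𝔎.inv_mem ha, g⁻¹, M.inv_mem hg, fun x hx => ?_⟩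
        have hgN := (hM g hg).1
        have hx2 : g⁻¹ * x * g⁻¹⁻¹ ∈ R₁ :=
          conj_mem_of_mem_normalizerIn (Subgroup.inv_mem _ hgN) hx
        have h3 := h _ hx2
        have e : g * (g⁻¹ * x * g⁻¹⁻¹) * g⁻¹ = x := by group
        rw [e] at h3
        show autFun ((a : MulAut R₀)⁻¹) (ξ x) = _
        rw [← h3, autFun_inv _ (hξR _ hx2)] }
  have hBle : B ≤ 𝔎 := fun b hb => hb.1
  have hpow : ∀ (b : F.autGroup R₀) (g : Ω), g ∈ normalizerIn S R₁ →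
      (∀ x ∈ R₁, autFun (b : MulAut R₀) (ξ x) = ξ (g * x * g⁻¹)) →
      ∀ m : ℕ, ∀ x ∈ R₁, autFun ((b : MulAut R₀) ^ m) (ξ x) = ξ (g ^ m * x * (g ^ m)⁻¹) := by
    intro b g hgN h m
    induction m with
    | zero =>
      intro x hx
      rw [pow_zero, pow_zero, autFun_one (hξR x hx)]
      congr 1
      group
    | succ m ih =>
      intro x hx
      have hx2 : g ^ m * x * (g ^ m)⁻¹ ∈ R₁ :=
        conj_mem_of_mem_normalizerIn (Subgroup.pow_mem _ hgN m) hx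
      rw [pow_succ', autFun_mul _ _ (hξR x hx), ih x hx, h _ hx2]
      congr 1
      rw [pow_succ']
      group
  have hB : IsPGroup p B := by
    rintro ⟨b, hb𝔎, g, hg, h⟩
    have hgN := (hM g hg).1
    obtain ⟨n, hn⟩ := hS ⟨g, (mem_normalizerIn.1 hgN).1⟩
    have hn' : g ^ (p ^ n) = 1 := by
      have := congrArg Subtype.val hn
      simpa using this
    refine ⟨n, ?_⟩
    apply Subtype.ext
    apply Subtype.ext
    show (b : MulAut R₀) ^ (p ^ n) = 1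
    ext y
    have hy : (y : Ω) ∈ img R₁ ξ := by rw [himg]; exact y.2
    obtain ⟨x, hx, hxy⟩ := hξ.mem_img.1 hy
    have h2 := hpow b g hgN h (p ^ n) x hx
    rw [hn', hxy, autFun_mem _ y.2] at h2
    rw [h2]
    show ξ (1 * x * 1⁻¹) = ((1 : MulAut R₀) y : Ω)
    rw [one_mul, inv_one, mul_one, hxy]
    rfl
  obtain ⟨k, hk, hkB⟩ := hsyl B hB hBle
  have hkmor : Mor F R₀ (autFun (k : MulAut R₀)) := autFun_mor F hR₀ k.2
  have hξ' : Mor F R₁ (fun x => autFun (k : MulAut R₀) (ξ x)) := hξ.comp hkmor hξR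
  have himg' : img R₁ (fun x => autFun (k : MulAut R₀) (ξ x)) = R₀ := by
    have h1 : Mor F (img R₁ ξ) (autFun (k : MulAut R₀)) := by rw [himg]; exact hkmor
    rw [DFac.img_comp hξ h1, himg]
    exact img_autFun F hR₀ k
  obtain ⟨ψ, hψ, hψx⟩ := receptive_extend_sup hrec hξ' himg' (M := M) (by
    intro g hg
    obtain ⟨hgN, b, hb, hbg⟩ := hM g hg
    refine ⟨(mem_normalizerIn.1 hgN).1, (Subgroup.mem_inf.1 hgN).2, ?_⟩
    have hbB : b ∈ B := ⟨hb, g, hg, hbg⟩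
    have h1 := hkB b hbB
    rw [Subgroup.mem_subgroupOf, Helper88.mem_autInducedBy_iff] at h1
    obtain ⟨s, hs, hsx⟩ := h1
    refine ⟨s, hs, fun x hx => ?_⟩
    have hx2 : g * x * g⁻¹ ∈ R₁ := conj_mem_of_mem_normalizerIn hgN hx
    have hkξ : autFun (k : MulAut R₀) (ξ x) ∈ R₀ := autFun_mem_R _ (hξR x hx)
    have h2 := hsx ⟨_, hkξ⟩
    have h3 : ((((k * b * k⁻¹ : F.autGroup R₀) : MulAut R₀) ⟨_, hkξ⟩ : R₀) : Ω) =
        autFun ((k : MulAut R₀) * (b : MulAut R₀) * (k : MulAut R₀)⁻¹)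
          (autFun (k : MulAut R₀) (ξ x)) := (autFun_mem _ hkξ).symm
    rw [h3, autFun_mul _ _ hkξ, autFun_inv _ (hξR x hx), autFun_mul _ _ (hξR x hx), hbg x hx] at h2
    exact h2)
  exact ⟨k, hk, ψ, hψ, hψx⟩

end Cfsg.Agent.Lib.Helper84.SatCrit
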