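import Mathlib
import Cfsg.Prelude.Def_FusionSystem
import Cfsg.Agent.Lib.Helper84.SatCrit2

set_option autoImplicit false

namespace Cfsg.Agent.Lib.Helper84.SatCrit

open Cfsg Cfsg.FusionSystem Cfsg.Agent.Lib.Helper84
open Cfsg.Agent.Lib.Helper88 (Mor extFun extFun_mem extFun_apply img mor_of_hom hom_of_mor mor_conj mor_id)

variable {Ω : Type*} [Group Ω] {S : Subgroup Ω}

/-! ### The extension lemma for a family -/

/-- In good position for the family `K`, an isomorphism `ξ : R₁ → R₀` extends, after a twist in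
`Stab_K(X)`, to `R₁ · (N_S(R₁) ∩ N_S^K(P₁))` where `P₁ = ξ⁻¹(X)`. -/
theorem kext [Finite S] (p : ℕ) [Fact p.Prime] (hS : IsPGroup p S) (F : FusionSystem S) (K : KFam F)
    {R₀ X : Subgroup Ω} (hrec : F.IsReceptive R₀) (hX : X ≤ R₀)
    (hsyl : SylK F p (K.StabK hX hrec.1))
    {R₁ P₁ : Subgroup Ω} {ξ : Ω → Ω} (hξ : Mor F R₁ ξ) (himg : img R₁ ξ = R₀) (hP₁ : P₁ ≤ R₁)
    (himgP : img P₁ ξ = X) :
    ∃ k ∈ K.StabK hX hrec.1, ∃ ψ, Mor F (R₁ ⊔ (normalizerIn S R₁ ⊓ K.QX P₁)) ψ ∧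
      ∀ x ∈ R₁, ψ x = autFun (k : MulAut R₀) (ξ x) := by
  have hR₀ : R₀ ≤ S := hrec.1
  have hR₁ : R₁ ≤ S := hξ.le
  have hξR : ∀ x ∈ R₁, ξ x ∈ R₀ := fun x hx => himg ▸ hξ.apply_mem_img hx
  obtain ⟨ξinv, hξinv, hinv⟩ := hξ.exists_inv
  rw [himg] at hξinv
  have hinvR : ∀ y ∈ R₀, ξinv y ∈ R₁ := by
    intro y hy
    rw [← himg] at hy
    obtain ⟨x, hx, rfl⟩ := hξ.mem_img.1 hy
    rw [hinv x hx]; exact hx
  refine kext0 p hS F hrec _ hsyl hξ himg ?_
  intro g hg
  obtain ⟨hgN, hgQ⟩ := Subgroup.mem_inf.1 hg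
  refine ⟨hgN, ?_⟩
  have hgS : g ∈ S := (mem_normalizerIn.1 hgN).1
  have hc : Mor F R₁ (fun x => g * x * g⁻¹) := mor_conj F hR₁ hgS
  have hβ : Mor F R₀ (fun y => ξ (g * ξinv y * g⁻¹)) :=
    (hξinv.comp hc hinvR).comp hξ (fun y hy => conj_mem_of_mem_normalizerIn hgN (hinvR y hy))
  obtain ⟨b, hb, hbx⟩ := hβ.exists_aut (fun y hy =>
    hξR _ (conj_mem_of_mem_normalizerIn hgN (hinvR y hy)))
  have hbξ : ∀ x ∈ R₁, autFun b (ξ x) = ξ (g * x * g⁻¹) := by
    intro x hx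
    rw [autFun_mem b (hξR x hx), hbx ⟨_, hξR x hx⟩]
    show ξ (g * ξinv (ξ x) * g⁻¹) = _
    rw [hinv x hx]
  refine ⟨⟨b, hb⟩, ?_, hbξ⟩
  have hP₁S : P₁ ≤ S := hP₁.trans hR₁
  obtain ⟨-, hgK⟩ := (K.mem_QX hP₁S).1 hgQ
  have h1 := K.ktrans (g := autFun b) (hξ.res hP₁) hgK (fun x hx => hbξ x (hP₁ hx))
  subst himgP
  exact h1

/-- Existence of a good position: a conjugate `R₀` of `R`, fully automized and receptive, such
that the image of `P` is in good Sylow position for `K`. -/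
theorem gl [Finite S] (p : ℕ) [Fact p.Prime] (F : FusionSystem S) (K : KFam F)
    {R P : Subgroup Ω}
    (hex : ∃ Q, F.IsConj R Q ∧ F.IsFullyAutomized p Q ∧ F.IsReceptive Q) (hPR : P ≤ R) :
    ∃ (R₀ : Subgroup Ω) (χ : Ω → Ω), Mor F R χ ∧ img R χ = R₀ ∧ F.IsFullyAutomized p R₀ ∧
      F.IsReceptive R₀ ∧ ∀ (hX : img P χ ≤ R₀) (hR₀ : R₀ ≤ S), SylK F p (K.StabK hX hR₀) := by
  obtain ⟨R₀, hconj, hfa, hrec⟩ := hex
  obtain ⟨χ₀, hχ₀, himg₀⟩ := (Helper88.isConj_iff F).1 hconj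
  have hR₀ : R₀ ≤ S := hfa.1
  have hX₀ : img P χ₀ ≤ R₀ := himg₀ ▸ img_mono_of_mor hχ₀ hPR
  obtain ⟨γ, hγ⟩ := exists_pos p F K hfa hX₀
  have hγmor : Mor F R₀ (autFun (γ : MulAut R₀)) := autFun_mor F hR₀ γ.2
  have hχ : Mor F R (fun x => autFun (γ : MulAut R₀) (χ₀ x)) :=
    hχ₀.comp hγmor (fun x hx => himg₀ ▸ hχ₀.apply_mem_img hx)
  have himg : img R (fun x => autFun (γ : MulAut R₀) (χ₀ x)) = R₀ := by
    have h1 : Mor F (img R χ₀) (autFun (γ : MulAut R₀)) := by rw [himg₀]; exact hγmor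
    rw [DFac.img_comp hχ₀ h1, himg₀]
    exact img_autFun F hR₀ γ
  have himgP : img P (fun x => autFun (γ : MulAut R₀) (χ₀ x)) =
      img (img P χ₀) (autFun (γ : MulAut R₀)) :=
    DFac.img_comp (hχ₀.res hPR) (hγmor.res hX₀)
  refine ⟨R₀, _, hχ, himg, hfa, hrec, ?_⟩
  intro hX hR₀'
  have key : ∀ (Y : Subgroup Ω) (hY : Y = img (img P χ₀) (autFun (γ : MulAut R₀))) (hYR : Y ≤ R₀),
      SylK F p (K.StabK hYR hR₀') := by
    intro Y hY hYR
    subst hY
    exact hγ hYR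
  exact key _ himgP hX

/-! ### Growth of normalizers -/

theorem exists_mem_not_mem_of_normalizes [Finite S] {p : ℕ} [Fact p.Prime] (hS : IsPGroup p S)
    {R Q : Subgroup Ω} (hR : R ≤ S) (hQ : Q ≤ S)
    (hnorm : ∀ r ∈ R, ∀ y ∈ Q, r * y * r⁻¹ ∈ Q) (hQR : ¬ Q ≤ R) :
    ∃ y ∈ Q, y ∈ normalizerIn S R ∧ y ∉ R := by
  have hT : R ⊔ Q ≤ S := sup_le hR hQ
  haveI : Finite (R ⊔ Q : Subgroup Ω) := finite_of_le hT
  have hne : R ≠ R ⊔ Q := by
    intro h
    apply hQR
    rw [h]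
    exact le_sup_right
  obtain ⟨z, hz, hzR⟩ := exists_mem_normalizerIn_not_mem (S := R ⊔ Q) (hS.to_le hT) le_sup_left hne
  obtain ⟨hzT, hzN⟩ := Subgroup.mem_inf.1 hz
  obtain ⟨r, hr, y, hy, rfl⟩ := exists_mul_of_mem_sup_of_normalizes hnorm hzT
  have hrN : r ∈ Subgroup.normalizer (R : Set Ω) := Subgroup.le_normalizer hr
  have hyN : y ∈ Subgroup.normalizer (R : Set Ω) := by
    have h1 := Subgroup.mul_mem _ (Subgroup.inv_mem _ hrN) hzN
    have e : r⁻¹ * (r * y) = y := by group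
    rwa [e] at h1
  refine ⟨y, hy, Subgroup.mem_inf.2 ⟨hQ hy, hyN⟩, fun hyR => hzR (R.mul_mem hr hyR)⟩

theorem card_lt_of_lt' [Finite S] {P R : Subgroup Ω} (hR : R ≤ S) (hPR : P ≤ R) (hne : P ≠ R) :
    Nat.card P < Nat.card R := by
  haveI : Finite R := finite_of_le hR
  by_contra h
  exact hne (Subgroup.eq_of_le_of_card_ge hPR (not_lt.1 h))

/-! ### The context: a class of subgroups all of whose proper overgroups are under control -/

/-- `P₀` is a subgroup all of whose strictly larger subgroups have fully automized receptive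
conjugates, and the system is generated by maps between strictly larger subgroups (in the form of
an induction principle for properties of maps between conjugates of `P₀`). -/
structure Ctx (p : ℕ) (F : FusionSystem S) (P₀ : Subgroup Ω) : Prop where
  hP₀ : P₀ ≤ S
  hne : P₀ ≠ S
  hbig : ∀ R : Subgroup Ω, R ≤ S → Nat.card P₀ < Nat.card R →
    ∃ Q, F.IsConj R Q ∧ F.IsFullyAutomized p Q ∧ F.IsReceptive Q
  hprin : ∀ 𝒬 : Subgroup Ω → (Ω → Ω) → Prop,
    (∀ (P : Subgroup Ω) (f f' : Ω → Ω), (∀ x ∈ P, f' x = f x) → 𝒬 P f → 𝒬 P f') →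
    (∀ (P : Subgroup Ω) (f g : Ω → Ω), F.IsConj P₀ P → Mor F P f → Mor F (img P f) g →
      𝒬 P f → 𝒬 (img P f) g → 𝒬 P (fun x => g (f x))) →
    (∀ (P : Subgroup Ω) (f g : Ω → Ω), F.IsConj P₀ P → Mor F P f → Mor F (img P f) g →
      (∀ x ∈ P, g (f x) = x) → 𝒬 P f → 𝒬 (img P f) g) →
    (∀ (P R : Subgroup Ω) (f : Ω → Ω), F.IsConj P₀ P → P ≤ R → R ≤ normalizerIn S P → P ≠ R →
      Mor F R f → 𝒬 P f) →
    ∀ (P : Subgroup Ω) (f : Ω → Ω), F.IsConj P₀ P → Mor F P f → 𝒬 P f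

namespace Ctx

variable {p : ℕ} {F : FusionSystem S} {P₀ : Subgroup Ω}

theorem conj_le (_ : Ctx p F P₀) {P : Subgroup Ω} (hP : F.IsConj P₀ P) : P ≤ S :=
  isConj_le_right F hP

theorem conj_img (_ : Ctx p F P₀) {P : Subgroup Ω} {f : Ω → Ω} (hP : F.IsConj P₀ P)
    (hf : Mor F P f) : F.IsConj P₀ (img P f) :=
  isConj_trans F hP ((Helper88.isConj_iff F).2 ⟨f, hf, rfl⟩)

theorem conj_card (_ : Ctx p F P₀) {P : Subgroup Ω} (hP : F.IsConj P₀ P) :
    Nat.card P = Nat.card P₀ := by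
  obtain ⟨f, hf, rfl⟩ := (Helper88.isConj_iff F).1 hP
  exact hf.card_img

theorem big [Finite S] (C : Ctx p F P₀) {P R : Subgroup Ω} (hP : F.IsConj P₀ P) (hR : R ≤ S)
    (hPR : P ≤ R) (hne : P ≠ R) :
    ∃ Q, F.IsConj R Q ∧ F.IsFullyAutomized p Q ∧ F.IsReceptive Q :=
  C.hbig R hR (by rw [← C.conj_card hP]; exact card_lt_of_lt' hR hPR hne)

theorem conj_ne_top [Finite S] (C : Ctx p F P₀) {P : Subgroup Ω} (hP : F.IsConj P₀ P) : P ≠ S := by
  intro h
  subst h
  obtain ⟨f, hf, hr⟩ := (Helper88.isConj_iff F).1 (isConj_symm F hP)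
  exact C.hne (by rw [← hr]; exact hf.img_top)

end Ctx

/-! ### The family of all automorphisms (setwise stabilizers) -/

/-- The family `K_X = Aut_F(X)`. -/
def KStab [Finite S] (F : FusionSystem S) : KFam F where
  Kp X f := Mor F X f ∧ ∀ x ∈ X, f x ∈ X
  kcongr := by
    intro X f g hfg h
    exact ⟨h.1.congr hfg, fun x hx => by rw [← hfg x hx]; exact h.2 x hx⟩
  kmor := fun h => h.1
  kmaps := fun h => h.2
  kcomp := by
    intro X f g hf hg
    exact ⟨hf.1.comp hg.1 hf.2, fun x hx => hg.2 _ (hf.2 x hx)⟩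
  kinv := by
    intro X f g hf hgf
    obtain ⟨finv, hfinv, hinv⟩ := hf.1.exists_inv
    have himg : img X f = X := hf.1.img_eq_self hf.2
    rw [himg] at hfinv
    have hsurj := surj_of_maps hf.1 le_rfl hf.2
    have heq : ∀ y ∈ X, finv y = g y := by
      intro y hy
      obtain ⟨x, hx, rfl⟩ := hsurj y hy
      rw [hinv x hx, hgf x hx]
    refine ⟨hfinv.congr heq, fun y hy => ?_⟩
    obtain ⟨x, hx, rfl⟩ := hsurj y hy
    rw [hgf x hx]; exact hx
  kinn := by
    intro X y hX hy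
    exact ⟨mor_conj F hX (hX hy), fun x hx => X.mul_mem (X.mul_mem hy hx) (X.inv_mem hy)⟩
  ktrans := by
    intro X e f g he hf hge
    obtain ⟨einv, heinv, hinv⟩ := he.exists_inv
    have h1 : Mor F (img X e) (fun y => e (f (einv y))) := by
      refine (heinv.comp hf.1 ?_).comp he ?_
      · intro y hy
        obtain ⟨x, hx, rfl⟩ := he.mem_img.1 hy
        rw [hinv x hx]; exact hx
      · intro y hy
        obtain ⟨x, hx, rfl⟩ := he.mem_img.1 hy
        show f (einv (e x)) ∈ X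
        rw [hinv x hx]; exact hf.2 x hx
    refine ⟨h1.congr ?_, ?_⟩
    · intro y hy
      obtain ⟨x, hx, rfl⟩ := he.mem_img.1 hy
      show e (f (einv (e x))) = g (e x)
      rw [hinv x hx, hge x hx]
    · intro y hy
      obtain ⟨x, hx, rfl⟩ := he.mem_img.1 hy
      rw [hge x hx]
      exact he.apply_mem_img (hf.2 x hx)

theorem normalizerIn_le_QX_KStab [Finite S] (F : FusionSystem S) {P : Subgroup Ω} (hP : P ≤ S) :
    normalizerIn S P ≤ (KStab F).QX P := by
  intro g hg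
  have hgS : g ∈ S := (mem_normalizerIn.1 hg).1
  exact ((KStab F).mem_QX hP).2 ⟨hgS, mor_conj F hP hgS,
    fun x hx => conj_mem_of_mem_normalizerIn hg hx⟩

/-! ### Maps between normalizers -/

/-- `Tgt F P P''`: some map of the system defined on `N_S(P)` carries `P` onto `P''`. -/
def Tgt (F : FusionSystem S) (P P'' : Subgroup Ω) : Prop :=
  ∃ t, Mor F (normalizerIn S P) t ∧ img P t = P''

theorem Tgt.refl [Finite S] (F : FusionSystem S) {P : Subgroup Ω} (hP : P ≤ S) : Tgt F P P :=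
  ⟨fun x => x, mor_id F (normalizerIn_le S P),
    ((mor_id F (normalizerIn_le S P)).res (le_normalizerIn hP)).img_eq_self (fun _ hx => hx)⟩

theorem Tgt.trans [Finite S] {F : FusionSystem S} {P A C : Subgroup Ω} (h₁ : Tgt F P A)
    (h₂ : Tgt F A C) (hP : P ≤ S) : Tgt F P C := by
  obtain ⟨a, ha, rfl⟩ := h₁
  obtain ⟨c, hc, rfl⟩ := h₂
  have hPN : P ≤ normalizerIn S P := le_normalizerIn hP
  have haP : Mor F P a := ha.res hPN
  refine ⟨fun x => c (a x), ha.comp hc (fun x hx => mor_normalizer ha hPN hx hx), ?_⟩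
  exact DFac.img_comp haP (hc.res (le_normalizerIn haP.img_le))

/-- a one-step map: defined on a subgroup `R` with `P ≤ R ≤ N_S(P)`; its image normalizes the
image of `P`. -/
theorem img_le_normalizerIn [Finite S] {F : FusionSystem S} {P R : Subgroup Ω} {f : Ω → Ω}
    (hf : Mor F R f) (hPR : P ≤ R) (hRN : R ≤ normalizerIn S P) :
    img R f ≤ normalizerIn S (img P f) := by
  intro y hy
  obtain ⟨x, hx, rfl⟩ := hf.mem_img.1 hy
  exact mor_normalizer hf hPR hx (hRN hx)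

/-! ### Images under composites and inverses -/

theorem img_comp' {F : FusionSystem S} {D P : Subgroup Ω} {f g : Ω → Ω} (hf : Mor F D f)
    (hg : Mor F (img D f) g) (hPD : P ≤ D) : img P (fun x => g (f x)) = img (img P f) g :=
  DFac.img_comp (hf.res hPD) (hg.res (img_mono_of_mor hf hPD))

theorem img_inv [Finite S] {F : FusionSystem S} {D P : Subgroup Ω} {f finv : Ω → Ω}
    (hf : Mor F D f) (hfinv : Mor F (img D f) finv) (hinv : ∀ x ∈ D, finv (f x) = x)
    (hPD : P ≤ D) : img (img P f) finv = P := by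
  rw [← img_comp' hf hfinv hPD]
  exact ((hf.res hPD).comp (hfinv.res (img_mono_of_mor hf hPD))
    (fun x hx => (hf.res hPD).apply_mem_img hx)).img_eq_self
    (fun x hx => by show finv (f x) ∈ P; rw [hinv x (hPD hx)]; exact hx)

theorem mor_comp_inv {F : FusionSystem S} {D : Subgroup Ω} {f finv χ : Ω → Ω}
    (hf : Mor F D f) (hfinv : Mor F (img D f) finv) (hinv : ∀ x ∈ D, finv (f x) = x)
    (hχ : Mor F D χ) : Mor F (img D f) (fun y => χ (finv y)) :=
  hfinv.comp hχ (fun y hy => by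
    obtain ⟨x, hx, rfl⟩ := hf.mem_img.1 hy
    rw [hinv x hx]; exact hx)

theorem img_comp_inv [Finite S] {F : FusionSystem S} {D P : Subgroup Ω} {f finv χ : Ω → Ω}
    (hf : Mor F D f) (hfinv : Mor F (img D f) finv) (hinv : ∀ x ∈ D, finv (f x) = x)
    (hχ : Mor F D χ) (hPD : P ≤ D) : img (img P f) (fun y => χ (finv y)) = img P χ := by
  have h3 : img (img D f) finv = D := img_inv hf hfinv hinv le_rfl
  have h4 : Mor F (img (img D f) finv) χ := by rw [h3]; exact hχ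
  rw [img_comp' hfinv h4 (img_mono_of_mor hf hPD), img_inv hf hfinv hinv hPD]

/-- an element of `Stab(X)` maps `X` onto `X`. -/
theorem img_of_mem_StabK_KStab [Finite S] {F : FusionSystem S} {R₀ X : Subgroup Ω} (hX : X ≤ R₀)
    (hR₀ : R₀ ≤ S) {k : F.autGroup R₀} (hk : k ∈ (KStab F).StabK hX hR₀) :
    img X (autFun (k : MulAut R₀)) = X := by
  have h1 : Mor F X (autFun (k : MulAut R₀)) ∧ ∀ x ∈ X, autFun (k : MulAut R₀) x ∈ X := hk
  exact h1.1.img_eq_self h1.2

/-! ### Confluence and the one-step lemma -/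

/-- confluence of targets, given the one-step lemma for large subgroups. -/
theorem confl [Finite S] {p : ℕ} [Fact p.Prime] (hS : IsPGroup p S) {F : FusionSystem S}
    {P₀ : Subgroup Ω} (C : Ctx p F P₀) (m : ℕ)
    (hstep : ∀ (P R : Subgroup Ω) (f : Ω → Ω), F.IsConj P₀ P → P ≤ R → R ≤ normalizerIn S P →
      P ≠ R → Mor F R f → m ≤ Nat.card R → ∃ P'', Tgt F P P'' ∧ Tgt F (img P f) P'')
    {X A B : Subgroup Ω} (hX : F.IsConj P₀ X) (hm : m ≤ Nat.card (normalizerIn S X))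
    (hA : Tgt F X A) (hB : Tgt F X B) : ∃ C', Tgt F A C' ∧ Tgt F B C' := by
  obtain ⟨a, ha, rfl⟩ := hA
  obtain ⟨b, hb, rfl⟩ := hB
  have hXS := C.conj_le hX
  have hXN : X ≤ normalizerIn S X := le_normalizerIn hXS
  have haX : Mor F X a := ha.res hXN
  obtain ⟨ainv, hainv, hinv⟩ := ha.exists_inv
  have hA : F.IsConj P₀ (img X a) := C.conj_img hX haX
  have hc : Mor F (img (normalizerIn S X) a) (fun y => b (ainv y)) := mor_comp_inv ha hainv hinv hb
  have hle : img X a ≤ img (normalizerIn S X) a := img_mono_of_mor ha hXN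
  have hN : img (normalizerIn S X) a ≤ normalizerIn S (img X a) := img_le_normalizerIn ha hXN le_rfl
  have hne : img X a ≠ img (normalizerIn S X) a := by
    intro h
    have h1 : Nat.card (img X a) = Nat.card (img (normalizerIn S X) a) := by rw [← h]
    rw [haX.card_img, ha.card_img] at h1
    obtain ⟨g, hg, hgX⟩ := exists_mem_normalizerIn_not_mem hS hXS (C.conj_ne_top hX)
    haveI : Finite (normalizerIn S X) := finite_of_le (normalizerIn_le S X)
    have hlt := card_lt_of_le_of_not_mem hXN hg hgX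
    omega
  obtain ⟨C', h1, h2⟩ := hstep _ _ _ hA hle hN hne hc (by rw [ha.card_img]; exact hm)
  rw [img_comp_inv ha hainv hinv hb hXN] at h2
  exact ⟨C', h1, h2⟩

/-- growth: `R < R ⊔ (N_S(R) ∩ Q)` when `R` normalizes `Q` and `Q ≰ R`. -/
theorem card_lt_sup [Finite S] {p : ℕ} [Fact p.Prime] (hS : IsPGroup p S) {R Q Q' : Subgroup Ω}
    (hR : R ≤ S) (hQ : Q ≤ S) (hnorm : ∀ r ∈ R, ∀ y ∈ Q, r * y * r⁻¹ ∈ Q) (hQR : ¬ Q ≤ R)
    (hQQ' : Q ≤ Q') (hQ' : Q' ≤ S) :
    Nat.card R < Nat.card (R ⊔ (normalizerIn S R ⊓ Q') : Subgroup Ω) := by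
  obtain ⟨y, hy, hyN, hyR⟩ := exists_mem_not_mem_of_normalizes hS hR hQ hnorm hQR
  haveI : Finite (R ⊔ (normalizerIn S R ⊓ Q') : Subgroup Ω) :=
    finite_of_le (sup_le hR (inf_le_right.trans hQ'))
  exact card_lt_of_le_of_not_mem le_sup_left
    ((le_sup_right : normalizerIn S R ⊓ Q' ≤ R ⊔ (normalizerIn S R ⊓ Q'))
      (Subgroup.mem_inf.2 ⟨hyN, hQQ' hy⟩)) hyR

/-- The one-step lemma: a map defined on `R` with `P < R ≤ N_S(P)` relates `P` and its image to a
common target. -/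
theorem one_step [Finite S] (p : ℕ) [Fact p.Prime] (hS : IsPGroup p S) {F : FusionSystem S}
    {P₀ : Subgroup Ω} (C : Ctx p F P₀) :
    ∀ n : ℕ, ∀ (P R : Subgroup Ω) (f : Ω → Ω), F.IsConj P₀ P → P ≤ R → R ≤ normalizerIn S P →
      P ≠ R → Mor F R f → Nat.card S - Nat.card R = n →
      ∃ P'', Tgt F P P'' ∧ Tgt F (img P f) P'' := by
  intro n
  induction n using Nat.strong_induction_on with
  | _ n ih =>
    intro P R f hP hPR hRN hne hf hn
    have hPS := C.conj_le hP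
    have hRS : R ≤ S := hf.le
    have hfP : Mor F P f := hf.res hPR
    have hP' : F.IsConj P₀ (img P f) := C.conj_img hP hfP
    have hP'S := C.conj_le hP'
    have hP'R' : img P f ≤ img R f := img_mono_of_mor hf hPR
    have hR'N : img R f ≤ normalizerIn S (img P f) := img_le_normalizerIn hf hPR hRN
    have hR'S : img R f ≤ S := hf.img_le
    obtain ⟨finv, hfinv, hinv⟩ := hf.exists_inv
    by_cases h1 : normalizerIn S P ≤ R
    · have hRe : R = normalizerIn S P := le_antisymm hRN h1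
      subst hRe
      exact ⟨img P f, ⟨f, hf, rfl⟩, Tgt.refl F hP'S⟩
    by_cases h2 : normalizerIn S (img P f) ≤ img R f
    · exact ⟨P, Tgt.refl F hPS, ⟨finv, hfinv.res h2, img_inv hf hfinv hinv hPR⟩⟩
    -- the main case
    obtain ⟨R₀, χ, hχ, himgχ, hfa, hrec, hsyl⟩ := gl p F (KStab F) (C.big hP hRS hPR hne) hPR
    have hX : img P χ ≤ R₀ := himgχ ▸ img_mono_of_mor hχ hPR
    have hsyl' := hsyl hX hrec.1
    have hXc : F.IsConj P₀ (img P χ) := C.conj_img hP (hχ.res hPR)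
    have hXS := C.conj_le hXc
    obtain ⟨k₁, hk₁, ψ₁, hψ₁, hψ₁x⟩ := kext p hS F (KStab F) hrec hX hsyl' hχ himgχ hPR rfl
    obtain ⟨k₂, hk₂, ψ₂, hψ₂, hψ₂x⟩ := kext p hS F (KStab F) hrec hX hsyl'
      (mor_comp_inv hf hfinv hinv hχ)
      (by rw [img_comp_inv hf hfinv hinv hχ le_rfl]; exact himgχ) hP'R'
      (img_comp_inv hf hfinv hinv hχ hPR)
    -- the two larger subgroups
    have hcard₁ : Nat.card R < Nat.card (R ⊔ (normalizerIn S R ⊓ (KStab F).QX P) : Subgroup Ω) :=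
      card_lt_sup hS hRS (normalizerIn_le S P)
        (fun r hr y hy => Subgroup.mul_mem _ (Subgroup.mul_mem _ (hRN hr) hy)
          (Subgroup.inv_mem _ (hRN hr))) h1 (normalizerIn_le_QX_KStab F hPS) ((KStab F).QX_le P)
    have hcard₂ : Nat.card (img R f) <
        Nat.card (img R f ⊔ (normalizerIn S (img R f) ⊓ (KStab F).QX (img P f)) : Subgroup Ω) :=
      card_lt_sup hS hR'S (normalizerIn_le S (img P f))
        (fun r hr y hy => Subgroup.mul_mem _ (Subgroup.mul_mem _ (hR'N hr) hy)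
          (Subgroup.inv_mem _ (hR'N hr))) h2 (normalizerIn_le_QX_KStab F hP'S)
        ((KStab F).QX_le (img P f))
    have hR₁N : R ⊔ (normalizerIn S R ⊓ (KStab F).QX P) ≤ normalizerIn S P :=
      sup_le hRN (inf_le_right.trans ((KStab F).QX_le_normalizerIn hPS))
    have hR₁'N : img R f ⊔ (normalizerIn S (img R f) ⊓ (KStab F).QX (img P f)) ≤
        normalizerIn S (img P f) :=
      sup_le hR'N (inf_le_right.trans ((KStab F).QX_le_normalizerIn hP'S))
    have hPR₁ : P ≤ R ⊔ (normalizerIn S R ⊓ (KStab F).QX P) := hPR.trans le_sup_left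
    have hP'R₁' : img P f ≤ img R f ⊔ (normalizerIn S (img R f) ⊓ (KStab F).QX (img P f)) :=
      hP'R'.trans le_sup_left
    have hcR : Nat.card P ≤ Nat.card R := by
      haveI : Finite R := finite_of_le hRS
      exact Subgroup.card_le_of_le hPR
    have hcR' : Nat.card (img R f) = Nat.card R := hf.card_img
    have hcP' : Nat.card (img P f) = Nat.card P := hfP.card_img
    have hneR₁ : P ≠ R ⊔ (normalizerIn S R ⊓ (KStab F).QX P) := by
      intro h
      rw [← h] at hcard₁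
      omega
    have hneR₁' : img P f ≠ img R f ⊔ (normalizerIn S (img R f) ⊓ (KStab F).QX (img P f)) := by
      intro h
      rw [← h] at hcard₂
      omega
    have hcS₁ : Nat.card (R ⊔ (normalizerIn S R ⊓ (KStab F).QX P) : Subgroup Ω) ≤ Nat.card S :=
      Subgroup.card_le_of_le hψ₁.le
    have hcS₂ : Nat.card (img R f ⊔ (normalizerIn S (img R f) ⊓ (KStab F).QX (img P f)) :
        Subgroup Ω) ≤ Nat.card S := Subgroup.card_le_of_le hψ₂.le
    -- images of `P` and `f(P)` under the extensions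
    have himg₁ : img P ψ₁ = img P χ := by
      rw [Helper88.img_congr (fun x hx => hψ₁x x (hPR hx)),
        img_comp' hχ (by rw [himgχ]; exact autFun_mor F hrec.1 k₁.2) hPR]
      exact img_of_mem_StabK_KStab hX hrec.1 hk₁
    have himg₂ : img (img P f) ψ₂ = img P χ := by
      rw [Helper88.img_congr (fun x hx => hψ₂x x (hP'R' hx)),
        img_comp' (mor_comp_inv hf hfinv hinv hχ)
          (by rw [img_comp_inv hf hfinv hinv hχ le_rfl, himgχ]; exact autFun_mor F hrec.1 k₂.2)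
          hP'R',
        img_comp_inv hf hfinv hinv hχ hPR]
      exact img_of_mem_StabK_KStab hX hrec.1 hk₂
    obtain ⟨A, hPA, hXA⟩ := ih _ (by omega) P _ ψ₁ hP hPR₁ hR₁N hneR₁ hψ₁ rfl
    obtain ⟨B, hP'B, hXB⟩ := ih _ (by omega) (img P f) _ ψ₂ hP' hP'R₁' hR₁'N hneR₁' hψ₂ rfl
    rw [himg₁] at hXA
    rw [himg₂] at hXB
    -- confluence at `X = χ(P)`
    have hNX : Nat.card R + 1 ≤ Nat.card (normalizerIn S (img P χ)) := by
      have h3 : img (R ⊔ (normalizerIn S R ⊓ (KStab F).QX P)) ψ₁ ≤ normalizerIn S (img P ψ₁) :=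
        img_le_normalizerIn hψ₁ hPR₁ hR₁N
      rw [himg₁] at h3
      haveI : Finite (normalizerIn S (img P χ)) := finite_of_le (normalizerIn_le S _)
      have h4 := Subgroup.card_le_of_le h3
      rw [hψ₁.card_img] at h4
      omega
    obtain ⟨C', hAC, hBC⟩ := confl hS C (Nat.card R + 1)
      (fun P₂ R₂ f₂ hP₂ hPR₂ hRN₂ hne₂ hf₂ hm₂ => by
        have hc : Nat.card R₂ ≤ Nat.card S := Subgroup.card_le_of_le hf₂.le
        exact ih (Nat.card S - Nat.card R₂) (by omega) P₂ R₂ f₂ hP₂ hPR₂ hRN₂ hne₂ hf₂ rfl)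
      hXc hNX hXA hXB
    exact ⟨C', hPA.trans hAC hPS, hP'B.trans hBC hP'S⟩

/-- any two conjugates of `P₀` have a common target. -/
theorem common_target [Finite S] (p : ℕ) [Fact p.Prime] (hS : IsPGroup p S) {F : FusionSystem S}
    {P₀ : Subgroup Ω} (C : Ctx p F P₀) {P : Subgroup Ω} {f : Ω → Ω} (hP : F.IsConj P₀ P)
    (hf : Mor F P f) : ∃ P'', Tgt F P P'' ∧ Tgt F (img P f) P'' := by
  have hstep : ∀ (P R : Subgroup Ω) (f : Ω → Ω), F.IsConj P₀ P → P ≤ R → R ≤ normalizerIn S P →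
      P ≠ R → Mor F R f → 0 ≤ Nat.card R → ∃ P'', Tgt F P P'' ∧ Tgt F (img P f) P'' :=
    fun P R f hP hPR hRN hne hf _ => one_step p hS C _ P R f hP hPR hRN hne hf rfl
  refine C.hprin (fun P f => ∃ P'', Tgt F P P'' ∧ Tgt F (img P f) P'') ?_ ?_ ?_ ?_ P f hP hf
  · intro P f f' hff' h
    rw [Helper88.img_congr hff']
    exact h
  · intro P f g hP hf hg ⟨A, hPA, hfA⟩ ⟨B, hfB, hgB⟩
    obtain ⟨C', hAC, hBC⟩ := confl hS C 0 hstep (C.conj_img hP hf) (Nat.zero_le _) hfA hfB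
    refine ⟨C', hPA.trans hAC (C.conj_le hP), ?_⟩
    rw [DFac.img_comp hf hg]
    exact hgB.trans hBC (C.conj_le (C.conj_img (C.conj_img hP hf) hg))
  · intro P f g hP hf hg hgf ⟨A, hPA, hfA⟩
    refine ⟨A, hfA, ?_⟩
    have h1 : img (img P f) g = P := by
      rw [← DFac.img_comp hf hg]
      exact (hf.comp hg (fun x hx => hf.apply_mem_img hx)).img_eq_self
        (fun x hx => by show g (f x) ∈ P; rw [hgf x hx]; exact hx)
    rw [h1]
    exact hPA
  · intro P R f hP hPR hRN hne hf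
    exact one_step p hS C _ P R f hP hPR hRN hne hf rfl

/-- (a): the normalizer of any conjugate maps into the normalizer of a fully normalized one. -/
theorem tgt_of_fn [Finite S] (p : ℕ) [Fact p.Prime] (hS : IsPGroup p S) {F : FusionSystem S}
    {P₀ : Subgroup Ω} (C : Ctx p F P₀) {P Ph : Subgroup Ω} (hP : F.IsConj P₀ P)
    (hPh : F.IsConj P₀ Ph) (hn : F.IsFullyNormalized Ph) : Tgt F P Ph := by
  obtain ⟨f, hf, rfl⟩ := (Helper88.isConj_iff F).1 (isConj_trans F (isConj_symm F hP) hPh)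
  obtain ⟨P'', hPP'', hPhP''⟩ := common_target p hS C hP hf
  refine hPP''.trans ?_ (C.conj_le hP)
  obtain ⟨t, ht, rfl⟩ := hPhP''
  have hPhS := C.conj_le hPh
  have hPhN : img P f ≤ normalizerIn S (img P f) := le_normalizerIn hPhS
  have htP : Mor F (img P f) t := ht.res hPhN
  have hle : img (normalizerIn S (img P f)) t ≤ normalizerIn S (img (img P f) t) :=
    img_le_normalizerIn ht hPhN le_rfl
  haveI : Finite (normalizerIn S (img (img P f) t)) := finite_of_le (normalizerIn_le S _)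
  have heq : img (normalizerIn S (img P f)) t = normalizerIn S (img (img P f) t) := by
    apply Subgroup.eq_of_le_of_card_ge hle
    rw [ht.card_img]
    exact hn.2 _ ((Helper88.isConj_iff F).2 ⟨t, htP, rfl⟩)
  obtain ⟨tinv, htinv, hinv⟩ := ht.exists_inv
  rw [heq] at htinv
  refine ⟨tinv, htinv, ?_⟩
  have h1 := img_inv ht (by rw [heq]; exact htinv) hinv hPhN
  exact h1

end Cfsg.Agent.Lib.Helper84.SatCrit
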