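import Mathlib
import Cfsg.Prelude.Def_FusionSystem
import Cfsg.Agent.Lib.Helper84.SatCrit3

set_option autoImplicit false

namespace Cfsg.Agent.Lib.Helper84.SatCrit

open Cfsg Cfsg.FusionSystem Cfsg.Agent.Lib.Helper84
open Cfsg.Agent.Lib.Helper88 (Mor extFun extFun_mem extFun_apply img mor_of_hom hom_of_mor mor_conj mor_id)

variable {Ω : Type*} [Group Ω] {S : Subgroup Ω}

/-- The correction property of a family `K` on the class of `P₀`: in good Sylow position, the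
elements of `Stab_K(X)` act on `X` like elements of `S`. -/
def KFix (p : ℕ) {F : FusionSystem S} (K : KFam F) (P₀ : Subgroup Ω) : Prop :=
  ∀ (R₀ X : Subgroup Ω) (hX : X ≤ R₀) (hR₀ : R₀ ≤ S), F.IsConj P₀ X → R₀ ≤ normalizerIn S X →
    SylK F p (K.StabK hX hR₀) → ∀ β ∈ K.StabK hX hR₀,
      ∃ s ∈ S, ∀ x ∈ X, autFun ((β : F.autGroup R₀) : MulAut R₀) x = s * x * s⁻¹

/-- exact extension over `N_S^K`-parts, for all pairs conjugate to `(R, P)` simultaneously. -/
theorem glx [Finite S] (p : ℕ) [Fact p.Prime] (hS : IsPGroup p S) {F : FusionSystem S}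
    {P₀ : Subgroup Ω} (C : Ctx p F P₀) (K : KFam F) (hfix : KFix p K P₀) {P R : Subgroup Ω}
    (hP : F.IsConj P₀ P) (hPR : P ≤ R) (hRN : R ≤ normalizerIn S P) (hne : P ≠ R) :
    ∃ χ, Mor F R χ ∧ ∀ (R₁ P₁ : Subgroup Ω) (j : Ω → Ω), Mor F R₁ j → img R₁ j = R → P₁ ≤ R₁ →
      img P₁ j = P →
      ∃ ψ, Mor F (R₁ ⊔ (normalizerIn S R₁ ⊓ K.QX P₁)) ψ ∧ ∀ x ∈ P₁, ψ x = χ (j x) := by
  have hRS : R ≤ S := hRN.trans (normalizerIn_le S P)
  obtain ⟨R₀, χ, hχ, himgχ, hfa, hrec, hsyl⟩ := gl p F K (C.big hP hRS hPR hne) hPR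
  have hX : img P χ ≤ R₀ := by rw [← himgχ]; exact img_mono_of_mor hχ hPR
  have hsyl' := hsyl hX hrec.1
  have hXc := C.conj_img hP (hχ.res hPR)
  have hR₀N : R₀ ≤ normalizerIn S (img P χ) := by
    rw [← himgχ]; exact img_le_normalizerIn hχ hPR hRN
  refine ⟨χ, hχ, fun R₁ P₁ j hj himgj hP₁ himgPj => ?_⟩
  have hjR : ∀ x ∈ R₁, j x ∈ R := fun x hx => by rw [← himgj]; exact hj.apply_mem_img hx
  have hξ : Mor F R₁ (fun x => χ (j x)) := hj.comp hχ hjR
  have hχ' : Mor F (img R₁ j) χ := by rw [himgj]; exact hχ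
  have himgξ : img R₁ (fun x => χ (j x)) = R₀ := by
    rw [img_comp' hj hχ' le_rfl, himgj]; exact himgχ
  have himgPξ : img P₁ (fun x => χ (j x)) = img P χ := by
    rw [img_comp' hj hχ' hP₁, himgPj]
  obtain ⟨k, hk, ψ, hψ, hψx⟩ := kext p hS F K hrec hX hsyl' hξ himgξ hP₁ himgPξ
  obtain ⟨s, hs, hsx⟩ := hfix R₀ _ hX hrec.1 hXc hR₀N hsyl' k hk
  have hc : Mor F S (fun y => s⁻¹ * y * s⁻¹⁻¹) := mor_conj F le_rfl (S.inv_mem hs)
  refine ⟨fun x => s⁻¹ * ψ x * s⁻¹⁻¹, hψ.comp hc (fun x hx => hψ.mem_S hx), fun x hx => ?_⟩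
  have hx1 : x ∈ R₁ := hP₁ hx
  have hξx : χ (j x) ∈ img P χ := by
    rw [← himgPξ]; exact (hξ.res hP₁).apply_mem_img hx
  show s⁻¹ * ψ x * s⁻¹⁻¹ = χ (j x)
  rw [hψx x hx1, hsx _ hξx]
  group

/-- The setting of the second stage: a fully normalized conjugate `Ph` of `P₀` and a family `K`
with the correction property for which `N_S^K(Ph)` is strictly larger than `Ph`. -/
structure St2 (p : ℕ) (F : FusionSystem S) (P₀ : Subgroup Ω) (K : KFam F) (Ph : Subgroup Ω) :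
    Prop where
  C : Ctx p F P₀
  hfix : KFix p K P₀
  hPh : F.IsConj P₀ Ph
  hn : F.IsFullyNormalized Ph
  hQ : ¬ K.QX Ph ≤ Ph

namespace St2

variable {p : ℕ} {F : FusionSystem S} {P₀ : Subgroup Ω} {K : KFam F} {Ph : Subgroup Ω}

theorem PhS (h : St2 p F P₀ K Ph) : Ph ≤ S := h.hn.1

theorem maps_Q [Finite S] (h : St2 p F P₀ K Ph) {Y : Subgroup Ω} {f : Ω → Ω} (hf : Mor F Y f)
    (hPY : Ph ≤ Y) (himg : img Ph f = Ph) {g : Ω} (hg : g ∈ Y) (hgQ : g ∈ K.QX Ph) :
    f g ∈ K.QX Ph := by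
  have h1 := K.map_mem_QX hf hPY hg hgQ
  rw [himg] at h1
  exact h1

theorem conj_mem_Q [Finite S] (h : St2 p F P₀ K Ph) {n y : Ω} (hn : n ∈ normalizerIn S Ph)
    (hy : y ∈ K.QX Ph) : n * y * n⁻¹ ∈ K.QX Ph := by
  have hc : Mor F (normalizerIn S Ph) (fun x => n * x * n⁻¹) :=
    mor_conj F (normalizerIn_le S Ph) (mem_normalizerIn.1 hn).1
  have hPN : Ph ≤ normalizerIn S Ph := le_normalizerIn h.PhS
  have himg : img Ph (fun x => n * x * n⁻¹) = Ph :=
    (hc.res hPN).img_eq_self (fun x hx => conj_mem_of_mem_normalizerIn hn hx)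
  exact h.maps_Q hc hPN himg (K.QX_le_normalizerIn h.PhS hy) hy

theorem img_Q [Finite S] (h : St2 p F P₀ K Ph) {g : Ω → Ω} (hg : Mor F (K.QX Ph) g)
    (himg : img Ph g = Ph) : img (K.QX Ph) g = K.QX Ph :=
  hg.img_eq_self (fun _ hx => h.maps_Q hg (K.le_QX h.PhS) himg hx hx)

/-- The main induction: every map defined on a subgroup strictly between `Ph` and `N_S(Ph)` and
normalizing `Ph` agrees on `Ph` with a map defined on `N_S^K(Ph)`. -/
theorem main [Finite S] [Fact p.Prime] (hS : IsPGroup p S) (h : St2 p F P₀ K Ph) :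
    ∀ n : ℕ, ∀ (R : Subgroup Ω) (f : Ω → Ω), Ph ≤ R → R ≤ normalizerIn S Ph → Ph ≠ R →
      Mor F R f → img Ph f = Ph → Nat.card S - Nat.card R = n →
      ∃ g, Mor F (K.QX Ph) g ∧ ∀ x ∈ Ph, g x = f x := by
  intro n
  induction n using Nat.strong_induction_on with
  | _ n ih =>
    intro R f hPR hRN hne hf himgP hn
    have hPS := h.PhS
    have hQS : K.QX Ph ≤ S := K.QX_le Ph
    have hQN : K.QX Ph ≤ normalizerIn S Ph := K.QX_le_normalizerIn hPS
    have hPQ : Ph ≤ K.QX Ph := K.le_QX hPS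
    by_cases h1 : K.QX Ph ≤ R
    · exact ⟨f, hf.res h1, fun x _ => rfl⟩
    have hRS : R ≤ S := hf.le
    have hR'N : img R f ≤ normalizerIn S Ph := by
      have := img_le_normalizerIn hf hPR hRN
      rwa [himgP] at this
    have hPR' : Ph ≤ img R f := by
      have := img_mono_of_mor hf hPR
      rwa [himgP] at this
    have hR'S : img R f ≤ S := hf.img_le
    obtain ⟨finv, hfinv, hinv⟩ := hf.exists_inv
    have himgPinv : img Ph finv = Ph := by
      have := img_inv hf hfinv hinv hPR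
      rwa [himgP] at this
    have himgRinv : img (img R f) finv = R := img_inv hf hfinv hinv le_rfl
    have h2 : ¬ K.QX Ph ≤ img R f := by
      intro hQR'
      apply h1
      have hle : img (K.QX Ph) finv ≤ K.QX Ph := by
        intro y hy
        obtain ⟨x, hx, rfl⟩ := (hfinv.res hQR').mem_img.1 hy
        exact h.maps_Q hfinv hPR' himgPinv (hQR' hx) hx
      haveI : Finite (K.QX Ph) := finite_of_le hQS
      have heq : img (K.QX Ph) finv = K.QX Ph :=
        Subgroup.eq_of_le_of_card_ge hle (by rw [(hfinv.res hQR').card_img])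
      rw [← heq, ← himgRinv]
      exact img_mono_of_mor hfinv hQR'
    obtain ⟨χ, hχ, hext⟩ := glx p hS h.C K h.hfix h.hPh hPR hRN hne
    have hid : Mor F R (fun x => x) := mor_id F hRS
    obtain ⟨ψ₁, hψ₁, hψ₁x⟩ := hext R Ph (fun x => x) hid (hid.img_eq_self (fun _ hx => hx)) hPR
      ((hid.res hPR).img_eq_self (fun _ hx => hx))
    obtain ⟨ψ₂, hψ₂, hψ₂x⟩ := hext (img R f) Ph finv hfinv himgRinv hPR' himgPinv
    -- transport back to `Ph`
    have hPsc : F.IsConj P₀ (img Ph χ) := h.C.conj_img h.hPh (hχ.res hPR)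
    obtain ⟨u, hu, himgu⟩ := tgt_of_fn p hS h.C hPsc h.hPh h.hn
    have hnorm : ∀ (R₂ : Subgroup Ω), R₂ ≤ normalizerIn S Ph → ∀ r ∈ R₂, ∀ y ∈ K.QX Ph,
        r * y * r⁻¹ ∈ K.QX Ph := fun R₂ hR₂ r hr y hy => h.conj_mem_Q (hR₂ hr) hy
    have hcard₁ : Nat.card R < Nat.card (R ⊔ (normalizerIn S R ⊓ K.QX Ph) : Subgroup Ω) :=
      card_lt_sup hS hRS hQS (hnorm R hRN) h1 le_rfl hQS
    have hcard₂ : Nat.card (img R f) <
        Nat.card (img R f ⊔ (normalizerIn S (img R f) ⊓ K.QX Ph) : Subgroup Ω) :=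
      card_lt_sup hS hR'S hQS (hnorm _ hR'N) h2 le_rfl hQS
    have hR₁N : R ⊔ (normalizerIn S R ⊓ K.QX Ph) ≤ normalizerIn S Ph :=
      sup_le hRN (inf_le_right.trans hQN)
    have hR₁'N : img R f ⊔ (normalizerIn S (img R f) ⊓ K.QX Ph) ≤ normalizerIn S Ph :=
      sup_le hR'N (inf_le_right.trans hQN)
    have hPR₁ : Ph ≤ R ⊔ (normalizerIn S R ⊓ K.QX Ph) := hPR.trans le_sup_left
    have hPR₁' : Ph ≤ img R f ⊔ (normalizerIn S (img R f) ⊓ K.QX Ph) := hPR'.trans le_sup_left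
    have hcR : Nat.card Ph ≤ Nat.card R := by
      haveI : Finite R := finite_of_le hRS
      exact Subgroup.card_le_of_le hPR
    have hcR' : Nat.card (img R f) = Nat.card R := hf.card_img
    have hneR₁ : Ph ≠ R ⊔ (normalizerIn S R ⊓ K.QX Ph) := by
      intro e
      rw [← e] at hcard₁
      omega
    have hneR₁' : Ph ≠ img R f ⊔ (normalizerIn S (img R f) ⊓ K.QX Ph) := by
      intro e
      rw [← e] at hcard₂
      omega
    have hcS₁ : Nat.card (R ⊔ (normalizerIn S R ⊓ K.QX Ph) : Subgroup Ω) ≤ Nat.card S :=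
      Subgroup.card_le_of_le hψ₁.le
    have hcS₂ : Nat.card (img R f ⊔ (normalizerIn S (img R f) ⊓ K.QX Ph) : Subgroup Ω) ≤
        Nat.card S := Subgroup.card_le_of_le hψ₂.le
    have himg₁ : img Ph ψ₁ = img Ph χ := Helper88.img_congr (fun x hx => hψ₁x x hx)
    have himg₂ : img Ph ψ₂ = img Ph χ := by
      rw [Helper88.img_congr (fun x hx => hψ₂x x hx)]
      have h3 : Mor F (img (img R f) finv) χ := by rw [himgRinv]; exact hχ
      rw [img_comp' hfinv h3 hPR', himgPinv]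
    -- the two transported maps
    have key : ∀ (R₂ : Subgroup Ω) (ψ : Ω → Ω), Mor F R₂ ψ → Ph ≤ R₂ →
        R₂ ≤ normalizerIn S Ph → img Ph ψ = img Ph χ →
        Mor F R₂ (fun x => u (ψ x)) ∧ img Ph (fun x => u (ψ x)) = Ph := by
      intro R₂ ψ hψ hPR₂ hR₂N himgψ
      have hle : img R₂ ψ ≤ normalizerIn S (img Ph χ) := by
        have := img_le_normalizerIn hψ hPR₂ hR₂N
        rwa [himgψ] at this
      refine ⟨hψ.comp hu (fun x hx => hle (hψ.apply_mem_img hx)), ?_⟩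
      rw [img_comp' hψ (hu.res hle) hPR₂, himgψ]
      exact himgu
    obtain ⟨hh₁, himgh₁⟩ := key _ ψ₁ hψ₁ hPR₁ hR₁N himg₁
    obtain ⟨hh₂, himgh₂⟩ := key _ ψ₂ hψ₂ hPR₁' hR₁'N himg₂
    obtain ⟨g₁, hg₁, hg₁x⟩ := ih _ (by omega) _ _ hPR₁ hR₁N hneR₁ hh₁ himgh₁ rfl
    obtain ⟨g₂, hg₂, hg₂x⟩ := ih _ (by omega) _ _ hPR₁' hR₁'N hneR₁' hh₂ himgh₂ rfl
    have himgg₁ : img Ph g₁ = Ph := by rw [Helper88.img_congr hg₁x]; exact himgh₁
    have himgg₂ : img Ph g₂ = Ph := by rw [Helper88.img_congr hg₂x]; exact himgh₂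
    obtain ⟨g₂inv, hg₂inv, hinv₂⟩ := hg₂.exists_inv
    rw [h.img_Q hg₂ himgg₂] at hg₂inv
    refine ⟨fun x => g₂inv (g₁ x), hg₁.comp hg₂inv
      (fun x hx => h.maps_Q hg₁ hPQ himgg₁ hx hx), fun x hx => ?_⟩
    have hfx : f x ∈ Ph := by rw [← himgP]; exact (hf.res hPR).apply_mem_img hx
    have e1 : g₁ x = g₂ (f x) := by
      rw [hg₁x x hx, hg₂x (f x) hfx, hψ₁x x hx, hψ₂x (f x) hfx, hinv x (hPR hx)]
    show g₂inv (g₁ x) = f x
    rw [e1, hinv₂ (f x) (hPQ hfx)]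

/-- (B1): every automorphism of `Ph` in the system extends to `N_S^K(Ph)`. -/
theorem ext_aut [Finite S] [Fact p.Prime] (hS : IsPGroup p S) (h : St2 p F P₀ K Ph) {α : Ω → Ω}
    (hα : Mor F Ph α) (himg : img Ph α = Ph) :
    ∃ g, Mor F (K.QX Ph) g ∧ ∀ x ∈ Ph, g x = α x := by
  have hPS := h.PhS
  have hPQ : Ph ≤ K.QX Ph := K.le_QX hPS
  have hprop := h.C.hprin (fun P f => ∀ u u', Mor F (normalizerIn S P) u → img P u = Ph →
      Mor F (normalizerIn S (img P f)) u' → img (img P f) u' = Ph →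
      ∃ g, Mor F (K.QX Ph) g ∧ ∀ x ∈ P, g (u x) = u' (f x)) ?_ ?_ ?_ ?_ Ph α h.hPh hα
  · have hid : Mor F (normalizerIn S Ph) (fun x => x) := mor_id F (normalizerIn_le S Ph)
    have hidP : img Ph (fun x : Ω => x) = Ph :=
      (hid.res (le_normalizerIn hPS)).img_eq_self (fun _ hx => hx)
    exact hprop (fun x => x) (fun x => x) hid hidP (by rw [himg]; exact hid) (by rw [himg]; exact hidP)
  · intro P f f' hff' hq u u' hu himgu hu' himgu'
    have e := Helper88.img_congr hff'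
    rw [e] at hu' himgu'
    obtain ⟨g, hg, hgx⟩ := hq u u' hu himgu hu' himgu'
    exact ⟨g, hg, fun x hx => by rw [hgx x hx, hff' x hx]⟩
  · intro P f g' hP hf hg' hq₁ hq₂ u u'' hu himgu hu'' himgu''
    have hPS' := h.C.conj_le hP
    have hPN : P ≤ normalizerIn S P := le_normalizerIn hPS'
    have e := DFac.img_comp hf hg'
    rw [e] at hu'' himgu''
    obtain ⟨u', hu', himgu'⟩ := tgt_of_fn p hS h.C (h.C.conj_img hP hf) h.hPh h.hn
    obtain ⟨g₁, hg₁, hg₁x⟩ := hq₁ u u' hu himgu hu' himgu'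
    obtain ⟨g₂, hg₂, hg₂x⟩ := hq₂ u' u'' hu' himgu' hu'' himgu''
    have hfS := h.C.conj_le (h.C.conj_img hP hf)
    have himgg₁ : img Ph g₁ = Ph := by
      refine (hg₁.res hPQ).img_eq_self (fun y hy => ?_)
      rw [← himgu] at hy
      obtain ⟨x, hx, rfl⟩ := (hu.res hPN).mem_img.1 hy
      rw [hg₁x x hx, ← himgu']
      exact (hu'.res (le_normalizerIn hfS)).apply_mem_img (hf.apply_mem_img hx)
    refine ⟨fun x => g₂ (g₁ x), hg₁.comp hg₂ (fun x hx => h.maps_Q hg₁ hPQ himgg₁ hx hx),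
      fun x hx => ?_⟩
    show g₂ (g₁ (u x)) = u'' (g' (f x))
    rw [hg₁x x hx, hg₂x (f x) (hf.apply_mem_img hx)]
  · intro P f g' hP hf hg' hgf hq u' u'' hu' himgu' hu'' himgu''
    have hPS' := h.C.conj_le hP
    have hPN : P ≤ normalizerIn S P := le_normalizerIn hPS'
    have e : img (img P f) g' = P := by
      rw [← DFac.img_comp hf hg']
      exact (hf.comp hg' (fun x hx => hf.apply_mem_img hx)).img_eq_self
        (fun x hx => by show g' (f x) ∈ P; rw [hgf x hx]; exact hx)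
    rw [e] at hu'' himgu''
    obtain ⟨g₁, hg₁, hg₁x⟩ := hq u'' u' hu'' himgu'' hu' himgu'
    have hfS := h.C.conj_le (h.C.conj_img hP hf)
    have himgg₁ : img Ph g₁ = Ph := by
      refine (hg₁.res hPQ).img_eq_self (fun y hy => ?_)
      rw [← himgu''] at hy
      obtain ⟨x, hx, rfl⟩ := (hu''.res hPN).mem_img.1 hy
      rw [hg₁x x hx, ← himgu']
      exact (hu'.res (le_normalizerIn hfS)).apply_mem_img (hf.apply_mem_img hx)
    obtain ⟨g₁inv, hg₁inv, hinv₁⟩ := hg₁.exists_inv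
    rw [h.img_Q hg₁ himgg₁] at hg₁inv
    refine ⟨g₁inv, hg₁inv, fun y hy => ?_⟩
    obtain ⟨x, hx, rfl⟩ := hf.mem_img.1 hy
    have hux : u'' x ∈ K.QX Ph := by
      apply hPQ
      rw [← himgu'']
      exact (hu''.res hPN).apply_mem_img hx
    rw [← hg₁x x hx, hinv₁ _ hux, hgf x hx]
  · intro P R f hP hPR hRN hne hf u u' hu himgu hu' himgu'
    have hPS' := h.C.conj_le hP
    have hRS : R ≤ S := hf.le
    have huR : Mor F R u := hu.res hRN
    have hfP : Mor F P f := hf.res hPR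
    obtain ⟨uinv, huinv, hinv⟩ := huR.exists_inv
    have hPRt : Ph ≤ img R u := by
      rw [← himgu]; exact img_mono_of_mor huR hPR
    have hRtN : img R u ≤ normalizerIn S Ph := by
      have := img_le_normalizerIn huR hPR hRN
      rwa [himgu] at this
    have hneRt : Ph ≠ img R u := by
      intro e
      have h1 : Nat.card Ph = Nat.card (img R u) := by rw [← e]
      rw [huR.card_img, ← himgu, (huR.res hPR).card_img] at h1
      have := card_lt_of_lt' hRS hPR hne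
      omega
    have hfN : ∀ x ∈ R, f x ∈ normalizerIn S (img P f) := fun x hx =>
      img_le_normalizerIn hf hPR hRN (hf.apply_mem_img hx)
    have hh : Mor F (img R u) (fun y => u' (f (uinv y))) := by
      refine ((mor_comp_inv huR huinv hinv hf)).comp hu' ?_
      intro y hy
      obtain ⟨x, hx, rfl⟩ := huR.mem_img.1 hy
      show f (uinv (u x)) ∈ _
      rw [hinv x hx]
      exact hfN x hx
    have hfS := h.C.conj_le (h.C.conj_img hP hfP)
    have hhx : ∀ x ∈ P, u' (f (uinv (u x))) = u' (f x) := fun x hx => by rw [hinv x (hPR hx)]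
    have himgh : img Ph (fun y => u' (f (uinv y))) = Ph := by
      refine (hh.res hPRt).img_eq_self (fun y hy => ?_)
      rw [← himgu] at hy
      obtain ⟨x, hx, rfl⟩ := (huR.res hPR).mem_img.1 hy
      show u' (f (uinv (u x))) ∈ Ph
      rw [hhx x hx, ← himgu']
      exact (hu'.res (le_normalizerIn hfS)).apply_mem_img (hfP.apply_mem_img hx)
    obtain ⟨g, hg, hgx⟩ := h.main hS _ _ _ hPRt hRtN hneRt hh himgh rfl
    refine ⟨g, hg, fun x hx => ?_⟩
    have hux : u x ∈ Ph := by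
      rw [← himgu]; exact (huR.res hPR).apply_mem_img hx
    rw [hgx (u x) hux]
    exact hhx x hx

end St2

end Cfsg.Agent.Lib.Helper84.SatCrit
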