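import Mathlib
import Cfsg.Prelude.Def_FusionSystem
import Cfsg.Agent.Lib.Helper84.SatCrit4

set_option autoImplicit false

namespace Cfsg.Agent.Lib.Helper84.SatCrit

open Cfsg Cfsg.FusionSystem Cfsg.Agent.Lib.Helper84
open Cfsg.Agent.Lib.Helper88 (Mor extFun extFun_mem extFun_apply img mor_of_hom hom_of_mor mor_conj mor_id)

variable {Ω : Type*} [Group Ω] {S : Subgroup Ω}

/-- receptivity is transported along an isomorphism of normalizers. -/
theorem rec_transport [Finite S] {F : FusionSystem S} {Ph Ps : Subgroup Ω} {ψ₀ : Ω → Ω}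
    (hPh : Ph ≤ S) (hψ₀ : Mor F (normalizerIn S Ph) ψ₀) (himgP : img Ph ψ₀ = Ps)
    (himgN : img (normalizerIn S Ph) ψ₀ = normalizerIn S Ps) (hrec : F.IsReceptive Ps) :
    F.IsReceptive Ph := by
  refine ⟨hPh, fun P φ hφ hr => ?_⟩
  have hf : Mor F P (extFun φ) := mor_of_hom F hφ
  have himgf : img P (extFun φ) = Ph := by
    rw [Helper88.img_eq_range φ (fun x => (extFun_apply φ x).symm)]; exact hr
  have hPS : P ≤ S := hf.le
  have hPhN : Ph ≤ normalizerIn S Ph := le_normalizerIn hPh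
  have hfPh : ∀ x ∈ P, extFun φ x ∈ Ph := fun x hx => by rw [← himgf]; exact hf.apply_mem_img hx
  have hf₂ : Mor F P (fun x => ψ₀ (extFun φ x)) := hf.comp hψ₀ (fun x hx => hPhN (hfPh x hx))
  have himgf₂ : img P (fun x => ψ₀ (extFun φ x)) = Ps := by
    rw [DFac.img_comp hf (by rw [himgf]; exact hψ₀.res hPhN), himgf]; exact himgP
  have hPE : P ≤ extender S P φ := le_extender hPS φ (hom_mem_S F hφ)
  have hEN : extender S P φ ≤ normalizerIn S P := extender_le_normalizerIn S P φ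
  have hE : ∀ g ∈ extender S P φ, g ∈ S ∧ g ∈ Subgroup.normalizer (P : Set Ω) ∧
      ∃ h ∈ S, ∀ x ∈ P, ψ₀ (extFun φ (g * x * g⁻¹)) = h * ψ₀ (extFun φ x) * h⁻¹ := by
    intro g hg
    obtain ⟨hgS, hgN, h, hh, hhx⟩ := (mem_extender_iff φ).1 hg
    have hgN' : g ∈ normalizerIn S P := Subgroup.mem_inf.2 ⟨hgS, hgN⟩
    have hfx : ∀ x ∈ P, extFun φ (g * x * g⁻¹) = h * extFun φ x * h⁻¹ := by
      intro x hx
      have hx' : g * x * g⁻¹ ∈ P := conj_mem_of_mem_normalizerIn hgN' hx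
      rw [extFun_mem φ hx', extFun_mem φ hx]
      exact hhx ⟨x, hx⟩ hx'
    have hhN : h ∈ normalizerIn S Ph := by
      refine mem_normalizerIn_of_conj hPh hh (fun y hy => ?_)
      rw [← himgf] at hy
      obtain ⟨x, hx, rfl⟩ := hf.mem_img.1 hy
      rw [← hfx x hx]
      exact hfPh _ (conj_mem_of_mem_normalizerIn hgN' hx)
    refine ⟨hgS, hgN, ψ₀ h, hψ₀.mem_S hhN, fun x hx => ?_⟩
    rw [hfx x hx]
    exact mor_conj_apply hψ₀ hhN (hPhN (hfPh x hx))
  obtain ⟨f', hf', hf'x⟩ := Helper88.receptive_extend hrec hf₂ himgf₂ hE hPE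
  have himgf' : img P f' = Ps := by rw [Helper88.img_congr hf'x]; exact himgf₂
  have hf'N : ∀ g ∈ extender S P φ, f' g ∈ normalizerIn S Ps := by
    intro g hg
    have := mor_normalizer hf' hPE hg (hEN hg)
    rwa [himgf'] at this
  obtain ⟨ψinv, hψinv, hinv⟩ := hψ₀.exists_inv
  rw [himgN] at hψinv
  obtain ⟨ψh, hψh, hψhx⟩ := hf'.comp hψinv hf'N
  refine ⟨ψh, hψh, fun x hxP hxN => ?_⟩
  rw [hψhx ⟨x, hxN⟩]
  show ψinv (f' x) = φ ⟨x, hxP⟩
  rw [hf'x x hxP, hinv _ (hPhN (hfPh x hxP)), extFun_mem φ hxP]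

namespace St2

variable {p : ℕ} {F : FusionSystem S} {P₀ : Subgroup Ω} {K : KFam F} {Ph : Subgroup Ω}

/-- If `N_S^K(Ph)` is receptive and `Ph` is in good Sylow position inside it, then `Ph` is
receptive. -/
theorem rec_star [Finite S] [Fact p.Prime] (hS : IsPGroup p S) (h : St2 p F P₀ K Ph)
    (hrecQ : F.IsReceptive (K.QX Ph))
    (hsyl : ∀ (hX : Ph ≤ K.QX Ph) (hR₀ : K.QX Ph ≤ S), SylK F p ((KStab F).StabK hX hR₀)) :
    F.IsReceptive Ph := by
  have hPS := h.PhS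
  have hQS : K.QX Ph ≤ S := K.QX_le Ph
  have hPQ : Ph ≤ K.QX Ph := K.le_QX hPS
  refine ⟨hPS, fun P φ hφ hr => ?_⟩
  have hf : Mor F P (extFun φ) := mor_of_hom F hφ
  have himgf : img P (extFun φ) = Ph := by
    rw [Helper88.img_eq_range φ (fun x => (extFun_apply φ x).symm)]; exact hr
  have hPc : F.IsConj P₀ P :=
    isConj_trans F h.hPh (isConj_symm F ((Helper88.isConj_iff F).2 ⟨_, hf, himgf⟩))
  have hPS' : P ≤ S := hf.le
  have hPN : P ≤ normalizerIn S P := le_normalizerIn hPS'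
  have hfPh : ∀ x ∈ P, extFun φ x ∈ Ph := fun x hx => by rw [← himgf]; exact hf.apply_mem_img hx
  obtain ⟨u, hu, himgu⟩ := tgt_of_fn p hS h.C hPc h.hPh h.hn
  have huP : Mor F P u := hu.res hPN
  have hux : ∀ x ∈ P, u x ∈ Ph := fun x hx => by rw [← himgu]; exact huP.apply_mem_img hx
  obtain ⟨uinv, huinv, hinv⟩ := hu.exists_inv
  have hPhle : Ph ≤ img (normalizerIn S P) u := by
    rw [← himgu]; exact img_mono_of_mor hu hPN
  have hα : Mor F Ph (fun y => extFun φ (uinv y)) := by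
    refine (huinv.res hPhle).comp hf (fun y hy => ?_)
    rw [← himgu] at hy
    obtain ⟨x, hx, rfl⟩ := huP.mem_img.1 hy
    rw [hinv x (hPN hx)]; exact hx
  have hαu : ∀ x ∈ P, extFun φ (uinv (u x)) = extFun φ x := fun x hx => by rw [hinv x (hPN hx)]
  have himgα : img Ph (fun y => extFun φ (uinv y)) = Ph := by
    refine hα.img_eq_self (fun y hy => ?_)
    rw [← himgu] at hy
    obtain ⟨x, hx, rfl⟩ := huP.mem_img.1 hy
    show extFun φ (uinv (u x)) ∈ Ph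
    rw [hαu x hx]; exact hfPh x hx
  obtain ⟨θ₀, hθ₀, hθ₀x⟩ := h.ext_aut hS hα himgα
  have himgθP : img Ph θ₀ = Ph := by rw [Helper88.img_congr hθ₀x]; exact himgα
  have himgθ : img (K.QX Ph) θ₀ = K.QX Ph := h.img_Q hθ₀ himgθP
  have hθ₀Q : ∀ x ∈ K.QX Ph, θ₀ x ∈ K.QX Ph := fun x hx => by
    rw [← himgθ]; exact hθ₀.apply_mem_img hx
  have hθu : ∀ x ∈ P, θ₀ (u x) = extFun φ x := fun x hx => by
    rw [hθ₀x (u x) (hux x hx)]; exact hαu x hx
  obtain ⟨θinv, hθinv, hinvθ⟩ := hθ₀.exists_inv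
  rw [himgθ] at hθinv
  have hθinvQ : ∀ y ∈ K.QX Ph, θinv y ∈ K.QX Ph := by
    intro y hy
    rw [← himgθ] at hy
    obtain ⟨x, hx, rfl⟩ := hθ₀.mem_img.1 hy
    rw [hinvθ x hx]; exact hx
  -- the subgroup of automorphisms acting on `Ph` like elements of `N_S(Ph)`
  let ΛA : Subgroup (F.autGroup (K.QX Ph)) :=
    { carrier := {l | ∃ n ∈ normalizerIn S Ph, ∀ x ∈ Ph,
        autFun (l : MulAut (K.QX Ph)) x = n * x * n⁻¹}
      mul_mem' := by
        rintro a b ⟨n₁, hn₁, h₁⟩ ⟨n₂, hn₂, h₂⟩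
        refine ⟨n₁ * n₂, Subgroup.mul_mem _ hn₁ hn₂, fun x hx => ?_⟩
        show autFun ((a : MulAut (K.QX Ph)) * (b : MulAut (K.QX Ph))) x = _
        rw [autFun_mul _ _ (hPQ hx), h₂ x hx, h₁ _ (conj_mem_of_mem_normalizerIn hn₂ hx)]
        group
      one_mem' := by
        refine ⟨1, Subgroup.one_mem _, fun x hx => ?_⟩
        show autFun (1 : MulAut (K.QX Ph)) x = _
        rw [autFun_one (hPQ hx)]
        group
      inv_mem' := by
        rintro a ⟨n, hn, h₁⟩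
        refine ⟨n⁻¹, Subgroup.inv_mem _ hn, fun x hx => ?_⟩
        have hx2 : n⁻¹ * x * n⁻¹⁻¹ ∈ Ph := conj_mem_of_mem_normalizerIn (Subgroup.inv_mem _ hn) hx
        have h3 := h₁ _ hx2
        have e : n * (n⁻¹ * x * n⁻¹⁻¹) * n⁻¹ = x := by group
        rw [e] at h3
        show autFun ((a : MulAut (K.QX Ph))⁻¹) x = _
        have h4 : autFun ((a : MulAut (K.QX Ph))⁻¹) (autFun (a : MulAut (K.QX Ph))
            (n⁻¹ * x * n⁻¹⁻¹)) = n⁻¹ * x * n⁻¹⁻¹ := autFun_inv _ (hPQ hx2)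
        rw [h3] at h4
        exact h4 }
  haveI : Finite (F.autGroup (K.QX Ph)) := finite_autGroup F hQS
  have hsylΛ : SylK F p ΛA := by
    refine sylK_mono _ _ ΛA ?_ ?_ (autInducedBy_isPGroup hS (K.QX Ph)).comap_subtype (hsyl hPQ hQS)
    · rintro l ⟨n, hn, h₁⟩
      refine ⟨(autFun_mor F hQS l.2).res hPQ, fun x hx => ?_⟩
      rw [h₁ x hx]; exact conj_mem_of_mem_normalizerIn hn hx
    · rintro l ⟨hlA, hlK⟩
      have hlA' : l ∈ (autInducedBy S (K.QX Ph)).subgroupOf (F.autGroup (K.QX Ph)) := hlA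
      rw [Subgroup.mem_subgroupOf, Helper88.mem_autInducedBy_iff] at hlA'
      obtain ⟨s, hs, hsx⟩ := hlA'
      have hlK' : Mor F Ph (autFun (l : MulAut (K.QX Ph))) ∧
          ∀ x ∈ Ph, autFun (l : MulAut (K.QX Ph)) x ∈ Ph := hlK
      have hlx : ∀ x ∈ Ph, autFun (l : MulAut (K.QX Ph)) x = s * x * s⁻¹ := fun x hx => by
        rw [autFun_mem _ (hPQ hx)]; exact hsx ⟨x, hPQ hx⟩
      refine ⟨s, mem_normalizerIn_of_conj hPS hs (fun x hx => ?_), hlx⟩
      rw [← hlx x hx]; exact hlK'.2 x hx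
  have hEN : extender S P φ ≤ normalizerIn S P := extender_le_normalizerIn S P φ
  have hPE : P ≤ extender S P φ := le_extender hPS' φ (hom_mem_S F hφ)
  have huE : Mor F (extender S P φ) u := hu.res hEN
  obtain ⟨k, hk, ψ, hψ, hψx⟩ := kext0 p hS F hrecQ ΛA hsylΛ hθ₀ himgθ
    (M := img (extender S P φ) u) (by
      intro g' hg'
      obtain ⟨g, hg, rfl⟩ := huE.mem_img.1 hg'
      obtain ⟨hgS, hgN, h', hh', hhx⟩ := (mem_extender_iff φ).1 hg
      have hgN' : g ∈ normalizerIn S P := Subgroup.mem_inf.2 ⟨hgS, hgN⟩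
      have hugN : u g ∈ normalizerIn S Ph := by
        have := mor_normalizer hu hPN (hEN hg) hgN'
        rwa [himgu] at this
      have hugS : u g ∈ S := (mem_normalizerIn.1 hugN).1
      have hugQ : u g ∈ normalizerIn S (K.QX Ph) :=
        mem_normalizerIn_of_conj hQS hugS (fun y hy => h.conj_mem_Q hugN hy)
      refine ⟨hugQ, ?_⟩
      have hc : Mor F (K.QX Ph) (fun x => u g * x * (u g)⁻¹) := mor_conj F hQS hugS
      have hβ : Mor F (K.QX Ph) (fun y => θ₀ (u g * θinv y * (u g)⁻¹)) :=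
        (hθinv.comp hc hθinvQ).comp hθ₀
          (fun y hy => conj_mem_of_mem_normalizerIn hugQ (hθinvQ y hy))
      obtain ⟨b, hb, hbx⟩ := hβ.exists_aut (fun y hy =>
        hθ₀Q _ (conj_mem_of_mem_normalizerIn hugQ (hθinvQ y hy)))
      have hbθ : ∀ x ∈ K.QX Ph, autFun b (θ₀ x) = θ₀ (u g * x * (u g)⁻¹) := by
        intro x hx
        rw [autFun_mem b (hθ₀Q x hx), hbx ⟨_, hθ₀Q x hx⟩]
        show θ₀ (u g * θinv (θ₀ x) * (u g)⁻¹) = _
        rw [hinvθ x hx]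
      refine ⟨⟨b, hb⟩, ?_, hbθ⟩
      have hfx : ∀ x ∈ P, extFun φ (g * x * g⁻¹) = h' * extFun φ x * h'⁻¹ := by
        intro x hx
        have hx' : g * x * g⁻¹ ∈ P := conj_mem_of_mem_normalizerIn hgN' hx
        rw [extFun_mem φ hx', extFun_mem φ hx]
        exact hhx ⟨x, hx⟩ hx'
      have hh'N : h' ∈ normalizerIn S Ph := by
        refine mem_normalizerIn_of_conj hPS hh' (fun y hy => ?_)
        rw [← himgf] at hy
        obtain ⟨x, hx, rfl⟩ := hf.mem_img.1 hy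
        rw [← hfx x hx]
        exact hfPh _ (conj_mem_of_mem_normalizerIn hgN' hx)
      refine ⟨h', hh'N, fun y hy => ?_⟩
      rw [← himgf] at hy
      obtain ⟨x, hx, rfl⟩ := hf.mem_img.1 hy
      have hx' : g * x * g⁻¹ ∈ P := conj_mem_of_mem_normalizerIn hgN' hx
      show autFun b (extFun φ x) = _
      rw [← hθu x hx, hbθ (u x) (hPQ (hux x hx)), ← mor_conj_apply hu (hEN hg) (hPN hx),
        hθu _ hx', hfx x hx, hθu x hx])
  obtain ⟨n, hn, hnx⟩ := hk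
  have hnS : n ∈ S := (mem_normalizerIn.1 hn).1
  have hc' : Mor F S (fun y => n⁻¹ * y * n⁻¹⁻¹) := mor_conj F le_rfl (S.inv_mem hnS)
  have hψ' : Mor F (K.QX Ph ⊔ img (extender S P φ) u) (fun x => n⁻¹ * ψ x * n⁻¹⁻¹) :=
    hψ.comp hc' (fun x hx => hψ.mem_S hx)
  obtain ⟨ψh, hψh, hψhx⟩ := huE.comp hψ' (fun x hx =>
    (le_sup_right : img (extender S P φ) u ≤ K.QX Ph ⊔ img (extender S P φ) u)
      (huE.apply_mem_img hx))
  refine ⟨ψh, hψh, fun x hxP hxN => ?_⟩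
  rw [hψhx ⟨x, hxN⟩]
  show n⁻¹ * ψ (u x) * n⁻¹⁻¹ = φ ⟨x, hxP⟩
  rw [hψx (u x) (hPQ (hux x hxP)), hθu x hxP, hnx _ (hfPh x hxP), extFun_mem φ hxP]
  group

/-- The core: in the setting of the second stage, `Ph` is receptive. -/
theorem receptive [Finite S] [Fact p.Prime] (hS : IsPGroup p S) (h : St2 p F P₀ K Ph) :
    F.IsReceptive Ph := by
  have hPS := h.PhS
  have hQS : K.QX Ph ≤ S := K.QX_le Ph
  have hPQ : Ph ≤ K.QX Ph := K.le_QX hPS
  have hQN : K.QX Ph ≤ normalizerIn S Ph := K.QX_le_normalizerIn hPS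
  have hPN : Ph ≤ normalizerIn S Ph := le_normalizerIn hPS
  have hneQ : Ph ≠ K.QX Ph := fun e => h.hQ (by rw [← e])
  obtain ⟨R₀, χ, hχ, himgχ, hfa, hrec, hsyl⟩ :=
    gl p F (KStab F) (h.C.big h.hPh hQS hPQ hneQ) hPQ
  have hX : img Ph χ ≤ R₀ := by rw [← himgχ]; exact img_mono_of_mor hχ hPQ
  have hsyl' := hsyl hX hrec.1
  obtain ⟨k, hk, ψ, hψ, hψx⟩ := kext p hS F (KStab F) hrec hX hsyl' hχ himgχ hPQ rfl
  have hNle : normalizerIn S Ph ≤ K.QX Ph ⊔ (normalizerIn S (K.QX Ph) ⊓ (KStab F).QX Ph) := by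
    intro g hg
    refine (le_sup_right : normalizerIn S (K.QX Ph) ⊓ (KStab F).QX Ph ≤ _)
      (Subgroup.mem_inf.2 ⟨?_, normalizerIn_le_QX_KStab F hPS hg⟩)
    exact mem_normalizerIn_of_conj hQS (mem_normalizerIn.1 hg).1 (fun y hy => h.conj_mem_Q hg hy)
  have hψN : Mor F (normalizerIn S Ph) ψ := hψ.res hNle
  have hkmor : Mor F (img (K.QX Ph) χ) (autFun (k : MulAut R₀)) := by
    rw [himgχ]; exact autFun_mor F hrec.1 k.2
  have himgPs : img Ph ψ = img Ph χ := by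
    rw [Helper88.img_congr (fun x hx => hψx x (hPQ hx)), img_comp' hχ hkmor hPQ]
    exact img_of_mem_StabK_KStab hX hrec.1 hk
  have himgQ : img (K.QX Ph) ψ = R₀ := by
    rw [Helper88.img_congr (fun x hx => hψx x hx), img_comp' hχ hkmor le_rfl, himgχ]
    exact img_autFun F hrec.1 k
  have hPsc : F.IsConj P₀ (img Ph ψ) := h.C.conj_img h.hPh (hψN.res hPN)
  have hPsS := h.C.conj_le hPsc
  have hconj : F.IsConj Ph (img Ph ψ) := (Helper88.isConj_iff F).2 ⟨ψ, hψN.res hPN, rfl⟩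
  have hle : img (normalizerIn S Ph) ψ ≤ normalizerIn S (img Ph ψ) :=
    img_le_normalizerIn hψN hPN le_rfl
  haveI : Finite (normalizerIn S (img Ph ψ)) := finite_of_le (normalizerIn_le S _)
  have heq : img (normalizerIn S Ph) ψ = normalizerIn S (img Ph ψ) :=
    Subgroup.eq_of_le_of_card_ge hle (by rw [hψN.card_img]; exact h.hn.2 _ hconj)
  have hnPs : F.IsFullyNormalized (img Ph ψ) := by
    refine ⟨hPsS, fun Q' hQ' => ?_⟩
    rw [← heq, hψN.card_img]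
    exact h.hn.2 Q' (isConj_trans F hconj hQ')
  obtain ⟨ψinv, hψinv, hinv⟩ := hψN.exists_inv
  have hQs : K.QX (img Ph ψ) = R₀ := by
    apply le_antisymm
    · intro y hy
      have hyN : y ∈ normalizerIn S (img Ph ψ) := K.QX_le_normalizerIn hPsS hy
      rw [← heq] at hyN
      obtain ⟨g, hg, rfl⟩ := hψN.mem_img.1 hyN
      have h1 := K.map_mem_QX hψinv (img_mono_of_mor hψN hPN) (hψN.apply_mem_img hg) hy
      rw [hinv g hg, img_inv hψN hψinv hinv hPN] at h1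
      rw [← himgQ]
      exact (hψN.res hQN).apply_mem_img h1
    · rw [← himgQ]
      intro y hy
      obtain ⟨g, hg, rfl⟩ := (hψN.res hQN).mem_img.1 hy
      exact K.map_mem_QX hψN hPN (hQN hg) hg
  have h' : St2 p F P₀ K (img Ph ψ) := by
    refine ⟨h.C, h.hfix, hPsc, hnPs, ?_⟩
    rw [hQs]
    intro hle'
    haveI : Finite (img Ph ψ) := finite_of_le hPsS
    have c1 := Subgroup.card_le_of_le hle'
    have c2 : Nat.card R₀ = Nat.card (K.QX Ph) := by
      rw [← himgQ]; exact (hψN.res hQN).card_img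
    have c3 : Nat.card (img Ph ψ) = Nat.card Ph := (hψN.res hPN).card_img
    have c4 := card_lt_of_lt' hQS hPQ hneQ
    omega
  have key : ∀ (X R : Subgroup Ω) (_ : X = img Ph χ) (_ : R = R₀) (hXR : X ≤ R) (hRS : R ≤ S),
      SylK F p ((KStab F).StabK hXR hRS) := by
    intro X R hXe hRe hXR hRS
    subst hXe
    subst hRe
    exact hsyl'
  have hrecPs : F.IsReceptive (img Ph ψ) :=
    h'.rec_star hS (by rw [hQs]; exact hrec) (fun hX' hR₀' => key _ _ himgPs hQs hX' hR₀')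
  exact rec_transport hPS hψN rfl heq hrecPs

end St2

end Cfsg.Agent.Lib.Helper84.SatCrit
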