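import Mathlib
import Cfsg.Prelude.Def_FusionSystem
import Cfsg.Agent.Lib.Helper84.SatCrit5
import Cfsg.Agent.Lib.Helper84.PCoreBasic

set_option autoImplicit false
set_option linter.style.haveILetI false

namespace Cfsg.Agent.Lib.Helper84.SatCrit

open Cfsg Cfsg.FusionSystem Cfsg.Agent.Lib.Helper84
open Cfsg.Agent.Lib.Helper88 (Mor extFun extFun_mem extFun_apply img mor_of_hom hom_of_mor mor_conj mor_id)

variable {Ω : Type*} [Group Ω] {S : Subgroup Ω}

/-! ### The family of inner automorphisms -/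

/-- The family `K_X = Inn(X)`. -/
def KInn [Finite S] (F : FusionSystem S) : KFam F where
  Kp X f := X ≤ S ∧ ∃ y ∈ X, ∀ x ∈ X, f x = y * x * y⁻¹
  kcongr := by
    rintro X f g hfg ⟨hX, y, hy, h⟩
    exact ⟨hX, y, hy, fun x hx => by rw [← hfg x hx]; exact h x hx⟩
  kmor := by
    rintro X f ⟨hX, y, hy, h⟩
    exact (mor_conj F hX (hX hy)).congr (fun x hx => (h x hx).symm)
  kmaps := by
    rintro X f ⟨hX, y, hy, h⟩ x hx
    rw [h x hx]
    exact X.mul_mem (X.mul_mem hy hx) (X.inv_mem hy)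
  kcomp := by
    rintro X f g ⟨hX, y, hy, h⟩ ⟨-, z, hz, h'⟩
    refine ⟨hX, z * y, X.mul_mem hz hy, fun x hx => ?_⟩
    show g (f x) = _
    rw [h x hx, h' _ (X.mul_mem (X.mul_mem hy hx) (X.inv_mem hy))]
    group
  kinv := by
    rintro X f g ⟨hX, y, hy, h⟩ hgf
    refine ⟨hX, y⁻¹, X.inv_mem hy, fun x hx => ?_⟩
    have hx' : y⁻¹ * x * y⁻¹⁻¹ ∈ X :=
      X.mul_mem (X.mul_mem (X.inv_mem hy) hx) (X.inv_mem (X.inv_mem hy))
    have h1 := hgf _ hx'
    rw [h _ hx'] at h1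
    have e : y * (y⁻¹ * x * y⁻¹⁻¹) * y⁻¹ = x := by group
    rw [e] at h1
    exact h1
  kinn := fun hX hy => ⟨hX, _, hy, fun x _ => rfl⟩
  ktrans := by
    rintro X e f g he ⟨hX, y, hy, h⟩ hge
    refine ⟨he.img_le, e y, he.apply_mem_img hy, fun x' hx' => ?_⟩
    obtain ⟨x, hx, rfl⟩ := he.mem_img.1 hx'
    rw [hge x hx, h x hx]
    exact mor_conj_apply he hy hx

theorem kfix_KInn [Finite S] (p : ℕ) (F : FusionSystem S) (P₀ : Subgroup Ω) :
    KFix p (KInn F) P₀ := by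
  intro R₀ X hX hR₀ _ _ _ β hβ
  obtain ⟨hXS, y, hy, h⟩ := hβ
  exact ⟨y, hXS hy, h⟩

/-! ### The family `O_p(Aut_F(X))` -/

theorem pCore_normal' (p : ℕ) (G : Type*) [Group G] : (pCore p G).Normal :=
  Subgroup.sSup_normal _ (fun _ h => h.1)

theorem inn_le_map_pCore' {p : ℕ} (hS : IsPGroup p S) (F : FusionSystem S) {R : Subgroup Ω}
    (hR : R ≤ S) : Inn R ≤ (pCore p (F.autGroup R)).map (F.autGroup R).subtype := by
  have h1 := inn_le_autGroup F hR
  have hp : IsPGroup p (Inn R) :=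
    (hS.to_le hR).of_surjective (MulAut.conj : R →* MulAut R).rangeRestrict
      (MulAut.conj : R →* MulAut R).rangeRestrict_surjective
  have hp' : IsPGroup p ((Inn R).subgroupOf (F.autGroup R)) :=
    hp.comap_of_injective _ (Subgroup.subtype_injective _)
  have hn : ((Inn R).subgroupOf (F.autGroup R)).Normal := inferInstance
  have h2 : (Inn R).subgroupOf (F.autGroup R) ≤ pCore p (F.autGroup R) := le_sSup ⟨hn, hp'⟩
  calc Inn R = ((Inn R).subgroupOf (F.autGroup R)).map (F.autGroup R).subtype :=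
        (Subgroup.map_subgroupOf_eq_of_le h1).symm
    _ ≤ _ := Subgroup.map_mono h2

/-- the relation "`a'` is the transport of `a` along `e`". -/
def TRel (X : Subgroup Ω) (e : Ω → Ω) (a' : MulAut (img X e)) (a : MulAut X) : Prop :=
  ∀ x ∈ X, autFun a' (e x) = e (autFun a x)

namespace TRel

variable {F : FusionSystem S} {X : Subgroup Ω} {e : Ω → Ω}

theorem mul (he : Mor F X e) {a' b' : MulAut (img X e)} {a b : MulAut X} (h₁ : TRel X e a' a)
    (h₂ : TRel X e b' b) : TRel X e (a' * b') (a * b) := by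
  intro x hx
  rw [autFun_mul _ _ (he.apply_mem_img hx), h₂ x hx, h₁ _ (autFun_mem_R _ hx), autFun_mul _ _ hx]

theorem one (he : Mor F X e) : TRel X e 1 1 := by
  intro x hx
  rw [autFun_one (he.apply_mem_img hx), autFun_one hx]

theorem inv (he : Mor F X e) {a' : MulAut (img X e)} {a : MulAut X} (h : TRel X e a' a) :
    TRel X e a'⁻¹ a⁻¹ := by
  intro x hx
  have hy : autFun a⁻¹ x ∈ X := autFun_mem_R _ hx
  have h1 := h _ hy
  rw [autFun_inv' a hx] at h1
  rw [← h1, autFun_inv a' (he.apply_mem_img hy)]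

theorem pow (he : Mor F X e) {a' : MulAut (img X e)} {a : MulAut X} (h : TRel X e a' a) (n : ℕ) :
    TRel X e (a' ^ n) (a ^ n) := by
  induction n with
  | zero => rw [pow_zero, pow_zero]; exact one he
  | succ n ih => rw [pow_succ, pow_succ]; exact mul he ih h

theorem eq_one (he : Mor F X e) {a' : MulAut (img X e)} (h : TRel X e a' 1) : a' = 1 := by
  apply MulEquiv.ext
  intro y
  apply Subtype.ext
  obtain ⟨x, hx, hxy⟩ := he.mem_img.1 y.2
  have h1 := h x hx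
  rw [autFun_one hx, autFun_mem a' (he.apply_mem_img hx)] at h1
  have h2 : (⟨e x, he.apply_mem_img hx⟩ : img X e) = y := Subtype.ext hxy
  rw [h2] at h1
  exact h1.trans hxy

end TRel

/-- every automorphism of `e(X)` in the system is the transport of one of `X`. -/
theorem exists_trel [Finite S] {F : FusionSystem S} {X : Subgroup Ω} {e : Ω → Ω} (he : Mor F X e)
    (γ' : F.autGroup (img X e)) :
    ∃ γ : F.autGroup X, TRel X e (γ' : MulAut (img X e)) (γ : MulAut X) := by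
  obtain ⟨einv, heinv, hinv⟩ := he.exists_inv
  have hX'S : img X e ≤ S := he.img_le
  have hγ' : Mor F (img X e) (autFun (γ' : MulAut (img X e))) := autFun_mor F hX'S γ'.2
  have h1 : Mor F X (fun x => autFun (γ' : MulAut (img X e)) (e x)) :=
    he.comp hγ' (fun x hx => he.apply_mem_img hx)
  have hback : ∀ y ∈ img X e, einv y ∈ X ∧ e (einv y) = y := by
    intro y hy
    obtain ⟨x, hx, rfl⟩ := he.mem_img.1 hy
    rw [hinv x hx]
    exact ⟨hx, rfl⟩
  have h2 : Mor F X (fun x => einv (autFun (γ' : MulAut (img X e)) (e x))) :=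
    h1.comp heinv (fun x hx => autFun_mem_R _ (he.apply_mem_img hx))
  obtain ⟨γ, hγ, hγx⟩ := h2.exists_aut
    (fun x hx => (hback _ (autFun_mem_R _ (he.apply_mem_img hx))).1)
  refine ⟨⟨γ, hγ⟩, fun x hx => ?_⟩
  show _ = e (autFun γ x)
  rw [autFun_mem γ hx, hγx ⟨x, hx⟩]
  exact ((hback _ (autFun_mem_R _ (he.apply_mem_img hx))).2).symm

/-- transport of `O_p(Aut_F(X))` along an isomorphism of the system. -/
theorem pCore_transport [Finite S] (p : ℕ) [Fact p.Prime] {F : FusionSystem S} {X : Subgroup Ω}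
    {e : Ω → Ω} (he : Mor F X e) {α : F.autGroup X} (hα : α ∈ pCore p (F.autGroup X))
    {α' : F.autGroup (img X e)} (h : TRel X e (α' : MulAut (img X e)) (α : MulAut X)) :
    α' ∈ pCore p (F.autGroup (img X e)) := by
  let N' : Subgroup (F.autGroup (img X e)) :=
    { carrier := {a' | ∃ a ∈ pCore p (F.autGroup X),
        TRel X e (a' : MulAut (img X e)) ((a : F.autGroup X) : MulAut X)}
      mul_mem' := by
        rintro a' b' ⟨a, ha, h₁⟩ ⟨b, hb, h₂⟩
        exact ⟨a * b, Subgroup.mul_mem _ ha hb, TRel.mul he h₁ h₂⟩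
      one_mem' := ⟨1, Subgroup.one_mem _, TRel.one he⟩
      inv_mem' := by
        rintro a' ⟨a, ha, h₁⟩
        exact ⟨a⁻¹, Subgroup.inv_mem _ ha, TRel.inv he h₁⟩ }
  have hnorm : N'.Normal := by
    constructor
    rintro n' ⟨a, ha, h₁⟩ γ'
    obtain ⟨γ, hγ⟩ := exists_trel he γ'
    exact ⟨γ * a * γ⁻¹, (pCore_normal' p _).conj_mem a ha γ,
      TRel.mul he (TRel.mul he hγ h₁) (TRel.inv he hγ)⟩
  have hpg : IsPGroup p N' := by
    rintro ⟨n', a, ha, h₁⟩
    obtain ⟨k, hk⟩ := (pCore_isPGroup p (F.autGroup X)) ⟨a, ha⟩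
    have hk' : ((a : F.autGroup X) : MulAut X) ^ p ^ k = 1 := by
      have := congrArg (fun z : pCore p (F.autGroup X) => (((z : F.autGroup X)) : MulAut X)) hk
      simpa using this
    refine ⟨k, ?_⟩
    have h2 := TRel.pow he h₁ (p ^ k)
    rw [hk'] at h2
    have h3 := TRel.eq_one he h2
    apply Subtype.ext
    apply Subtype.ext
    simpa using h3
  exact le_pCore hnorm hpg ⟨α, hα, h⟩

/-- The family `K_X = O_p(Aut_F(X))`. -/
def KCen [Finite S] (p : ℕ) [Fact p.Prime] (hS : IsPGroup p S) (F : FusionSystem S) : KFam F where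
  Kp X f := X ≤ S ∧ ∃ α : F.autGroup X, α ∈ pCore p (F.autGroup X) ∧
    ∀ x ∈ X, f x = autFun (α : MulAut X) x
  kcongr := by
    rintro X f g hfg ⟨hX, α, hα, h⟩
    exact ⟨hX, α, hα, fun x hx => by rw [← hfg x hx]; exact h x hx⟩
  kmor := by
    rintro X f ⟨hX, α, hα, h⟩
    exact (autFun_mor F hX α.2).congr (fun x hx => (h x hx).symm)
  kmaps := by
    rintro X f ⟨hX, α, hα, h⟩ x hx
    rw [h x hx]; exact autFun_mem_R _ hx
  kcomp := by
    rintro X f g ⟨hX, α, hα, h⟩ ⟨-, β, hβ, h'⟩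
    refine ⟨hX, β * α, Subgroup.mul_mem _ hβ hα, fun x hx => ?_⟩
    show g (f x) = autFun ((β : MulAut X) * (α : MulAut X)) x
    rw [autFun_mul _ _ hx, h x hx, h' _ (autFun_mem_R _ hx)]
  kinv := by
    rintro X f g ⟨hX, α, hα, h⟩ hgf
    refine ⟨hX, α⁻¹, Subgroup.inv_mem _ hα, fun x hx => ?_⟩
    show g x = autFun ((α : MulAut X)⁻¹) x
    have hx' : autFun ((α : MulAut X)⁻¹) x ∈ X := autFun_mem_R _ hx
    have h1 := hgf _ hx'
    rw [h _ hx', autFun_inv' _ hx] at h1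
    exact h1
  kinn := by
    intro X y hX hy
    have h1 : MulAut.conj (⟨y, hy⟩ : X) ∈ (pCore p (F.autGroup X)).map (F.autGroup X).subtype :=
      inn_le_map_pCore' hS F hX ⟨_, rfl⟩
    obtain ⟨α, hα, hαe⟩ := h1
    refine ⟨hX, α, hα, fun x hx => ?_⟩
    rw [autFun_mem _ hx]
    have h2 : (α : MulAut X) = MulAut.conj (⟨y, hy⟩ : X) := hαe
    rw [h2]
    rfl
  ktrans := by
    rintro X e f g he ⟨hX, α, hα, h⟩ hge
    obtain ⟨einv, heinv, hinv⟩ := he.exists_inv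
    have hX'S : img X e ≤ S := he.img_le
    have hα' : Mor F X (autFun (α : MulAut X)) := autFun_mor F hX α.2
    have hback : ∀ y ∈ img X e, einv y ∈ X := by
      intro y hy
      obtain ⟨x, hx, rfl⟩ := he.mem_img.1 hy
      rw [hinv x hx]
      exact hx
    have hg' : Mor F (img X e) (fun y => e (autFun (α : MulAut X) (einv y))) :=
      (heinv.comp hα' hback).comp he (fun y hy => autFun_mem_R _ (hback y hy))
    have hgx : ∀ x ∈ X, g (e x) = e (autFun (α : MulAut X) x) := fun x hx => by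
      rw [hge x hx, h x hx]
    have hg : Mor F (img X e) g := by
      refine hg'.congr (fun y hy => ?_)
      obtain ⟨x, hx, rfl⟩ := he.mem_img.1 hy
      show e (autFun (α : MulAut X) (einv (e x))) = g (e x)
      rw [hinv x hx, hgx x hx]
    obtain ⟨α', hα'm, hα'x⟩ := hg.exists_aut (fun y hy => by
      obtain ⟨x, hx, rfl⟩ := he.mem_img.1 hy
      rw [hgx x hx]
      exact he.apply_mem_img (autFun_mem_R _ hx))
    refine ⟨hX'S, ⟨α', hα'm⟩, ?_, fun y hy => ?_⟩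
    · refine pCore_transport p he hα (α' := ⟨α', hα'm⟩) (fun x hx => ?_)
      show autFun α' (e x) = _
      rw [autFun_mem α' (he.apply_mem_img hx), hα'x ⟨e x, he.apply_mem_img hx⟩]
      exact hgx x hx
    · show g y = autFun α' y
      rw [autFun_mem α' hy]
      exact (hα'x ⟨y, hy⟩).symm

/-! ### The correction property for the family `O_p(Aut_F(X))` on a centric class -/

theorem autFun_pow_eq {R₀ X : Subgroup Ω} (hX : X ≤ R₀) (b : MulAut R₀) (α : MulAut X)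
    (h : ∀ x ∈ X, autFun b x = autFun α x) (n : ℕ) :
    ∀ x ∈ X, autFun (b ^ n) x = autFun (α ^ n) x := by
  induction n with
  | zero => intro x hx; rw [pow_zero, pow_zero, autFun_one (hX hx), autFun_one hx]
  | succ n ih =>
    intro x hx
    rw [pow_succ, pow_succ, autFun_mul _ _ (hX hx), autFun_mul _ _ hx, h x hx]
    exact ih _ (autFun_mem_R α hx)

/-- an automorphism of `R₀` centralizing the self-centralizing normal subgroup `X` has order
dividing `|X|`. -/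
theorem aut_pow_card_eq_one [Finite S] {R₀ X : Subgroup Ω} (hX : X ≤ R₀) (hR₀ : R₀ ≤ S)
    (hRN : R₀ ≤ normalizerIn S X) (hcX : centralizerIn S X ≤ X) (γ : MulAut R₀)
    (hγ : ∀ x ∈ X, autFun γ x = x) : γ ^ Nat.card X = 1 := by
  haveI : Finite X := finite_of_le (hX.trans hR₀)
  have hmul : ∀ a ∈ R₀, ∀ b ∈ R₀, autFun γ (a * b) = autFun γ a * autFun γ b := by
    intro a ha b hb
    rw [autFun_mem γ (R₀.mul_mem ha hb), autFun_mem γ ha, autFun_mem γ hb]
    have e : (⟨a * b, R₀.mul_mem ha hb⟩ : R₀) = ⟨a, ha⟩ * ⟨b, hb⟩ := rfl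
    rw [e, map_mul]
    rfl
  have hinv : ∀ a ∈ R₀, autFun γ a⁻¹ = (autFun γ a)⁻¹ := by
    intro a ha
    rw [autFun_mem γ (R₀.inv_mem ha), autFun_mem γ ha]
    have e : (⟨a⁻¹, R₀.inv_mem ha⟩ : R₀) = (⟨a, ha⟩ : R₀)⁻¹ := rfl
    rw [e, map_inv]
    rfl
  have hz : ∀ g ∈ R₀, g⁻¹ * autFun γ g ∈ X := by
    intro g hg
    apply hcX
    rw [mem_centralizerIn]
    have hg' : autFun γ g ∈ R₀ := autFun_mem_R γ hg
    refine ⟨S.mul_mem (S.inv_mem (hR₀ hg)) (hR₀ hg'), fun x hx => ?_⟩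
    have hx1 : g * x * g⁻¹ ∈ X := conj_mem_of_mem_normalizerIn (hRN hg) hx
    have h1 := hγ _ hx1
    rw [hmul _ (R₀.mul_mem hg (hX hx)) _ (R₀.inv_mem hg), hmul _ hg _ (hX hx), hinv _ hg,
      hγ x hx] at h1
    calc x * (g⁻¹ * autFun γ g) = g⁻¹ * (g * x * g⁻¹) * autFun γ g := by group
      _ = g⁻¹ * (autFun γ g * x * (autFun γ g)⁻¹) * autFun γ g := by rw [h1]
      _ = g⁻¹ * autFun γ g * x := by group
  have hpow : ∀ n : ℕ, ∀ g ∈ R₀, autFun (γ ^ n) g = g * (g⁻¹ * autFun γ g) ^ n := by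
    intro n
    induction n with
    | zero => intro g hg; rw [pow_zero, pow_zero, autFun_one hg, mul_one]
    | succ n ih =>
      intro g hg
      have hzn : (g⁻¹ * autFun γ g) ^ n ∈ X := X.pow_mem (hz g hg) n
      rw [pow_succ', autFun_mul _ _ hg, ih g hg, hmul _ hg _ (hX hzn), hγ _ hzn, pow_succ']
      simp only [← mul_assoc, mul_inv_cancel, one_mul]
  apply MulEquiv.ext
  intro g
  apply Subtype.ext
  have h1 := hpow (Nat.card X) g g.2
  rw [autFun_mem _ g.2] at h1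
  have h2 : ((g : Ω)⁻¹ * autFun γ g) ^ Nat.card X = 1 := by
    have h3 : (⟨(g : Ω)⁻¹ * autFun γ g, hz g g.2⟩ : X) ^ Nat.card X = 1 := pow_card_eq_one'
    have h4 : (((⟨(g : Ω)⁻¹ * autFun γ g, hz g g.2⟩ : X) ^ Nat.card X : X) : Ω) = ((1 : X) : Ω) :=
      congrArg Subtype.val h3
    rw [Subgroup.coe_pow, Subgroup.coe_one] at h4
    exact h4
  rw [h2, mul_one] at h1
  exact h1

theorem kfix_KCen [Finite S] (p : ℕ) [Fact p.Prime] (hS : IsPGroup p S) (F : FusionSystem S)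
    {P₀ : Subgroup Ω} (hc : F.IsCentric P₀) : KFix p (KCen p hS F) P₀ := by
  intro R₀ X hX hR₀ hconj hRN hsyl β hβ
  have hXS : X ≤ S := hX.trans hR₀
  have hcX : centralizerIn S X ≤ X := hc.2 X hconj
  haveI : Finite (F.autGroup R₀) := finite_autGroup F hR₀
  haveI : Finite X := finite_of_le hXS
  have hp : IsPGroup p ((KCen p hS F).StabK hX hR₀) := by
    rintro ⟨b, hb⟩
    obtain ⟨-, α, hα, hbα⟩ := hb
    obtain ⟨k, hk⟩ := (pCore_isPGroup p (F.autGroup X)) ⟨α, hα⟩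
    have hk' : ((α : F.autGroup X) : MulAut X) ^ p ^ k = 1 := by
      have := congrArg (fun z : pCore p (F.autGroup X) => (((z : F.autGroup X)) : MulAut X)) hk
      simpa using this
    have h1 : ∀ x ∈ X, autFun ((b : MulAut R₀) ^ p ^ k) x = x := by
      intro x hx
      rw [autFun_pow_eq hX (b : MulAut R₀) (α : MulAut X) hbα (p ^ k) x hx, hk', autFun_one hx]
    have h2 := aut_pow_card_eq_one hX hR₀ hRN hcX _ h1
    obtain ⟨m, hm⟩ := (hS.to_le hXS).exists_card_eq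
    rw [hm, ← pow_mul, ← pow_add] at h2
    refine ⟨k + m, ?_⟩
    apply Subtype.ext
    apply Subtype.ext
    simpa using h2
  obtain ⟨k, hk, hkB⟩ := hsyl _ hp le_rfl
  have h1 : k⁻¹ * β * k ∈ (KCen p hS F).StabK hX hR₀ :=
    Subgroup.mul_mem _ (Subgroup.mul_mem _ (Subgroup.inv_mem _ hk) hβ) hk
  have h2 := hkB _ h1
  have e : k * (k⁻¹ * β * k) * k⁻¹ = β := by group
  rw [e, Subgroup.mem_subgroupOf, Helper88.mem_autInducedBy_iff] at h2
  obtain ⟨s, hs, hsx⟩ := h2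
  refine ⟨s, hs, fun x hx => ?_⟩
  rw [autFun_mem _ (hX hx)]
  exact hsx ⟨x, hX hx⟩

/-! ### `N_S^K` at a fully normalized member of the class -/

theorem not_QX_le_of_conj [Finite S] (p : ℕ) [Fact p.Prime] (hS : IsPGroup p S)
    {F : FusionSystem S} {P₀ : Subgroup Ω} (C : Ctx p F P₀) (K : KFam F) {Q' Ph : Subgroup Ω}
    (hQ' : F.IsConj P₀ Q') (hPh : F.IsConj P₀ Ph) (hn : F.IsFullyNormalized Ph)
    (h : ¬ K.QX Q' ≤ Q') : ¬ K.QX Ph ≤ Ph := by
  intro hle
  apply h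
  intro c hc
  obtain ⟨u, hu, himgu⟩ := tgt_of_fn p hS C hQ' hPh hn
  have hQ'S : Q' ≤ S := C.conj_le hQ'
  have hQ'N : Q' ≤ normalizerIn S Q' := le_normalizerIn hQ'S
  have hcN : c ∈ normalizerIn S Q' := K.QX_le_normalizerIn hQ'S hc
  have h1 := K.map_mem_QX hu hQ'N hcN hc
  rw [himgu] at h1
  have h2 : u c ∈ Ph := hle h1
  rw [← himgu] at h2
  obtain ⟨x, hx, hxc⟩ := (hu.res hQ'N).mem_img.1 h2
  have h3 := hu.inj (hQ'N hx) hcN hxc
  rw [← h3]
  exact hx

/-! ### The induction principle from generation -/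

/-- the subsystem of the maps all of whose restrictions to conjugates of `P₀` satisfy `𝒬`. -/
def ESys [Finite S] {p : ℕ} [Fact p.Prime] (hS : IsPGroup p S) (F : FusionSystem S)
    (P₀ : Subgroup Ω) (hne : P₀ ≠ S) (𝒬 : Subgroup Ω → (Ω → Ω) → Prop)
    (hcongr : ∀ (P : Subgroup Ω) (f f' : Ω → Ω), (∀ x ∈ P, f' x = f x) → 𝒬 P f → 𝒬 P f')
    (hcomp : ∀ (P : Subgroup Ω) (f g : Ω → Ω), F.IsConj P₀ P → Mor F P f → Mor F (img P f) g →
      𝒬 P f → 𝒬 (img P f) g → 𝒬 P (fun x => g (f x)))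
    (hinv : ∀ (P : Subgroup Ω) (f g : Ω → Ω), F.IsConj P₀ P → Mor F P f → Mor F (img P f) g →
      (∀ x ∈ P, g (f x) = x) → 𝒬 P f → 𝒬 (img P f) g)
    (hstep : ∀ (P R : Subgroup Ω) (f : Ω → Ω), F.IsConj P₀ P → P ≤ R → R ≤ normalizerIn S P →
      P ≠ R → Mor F R f → 𝒬 P f) : FusionSystem S where
  Hom X := {φ | φ ∈ F.Hom X ∧ ∀ P, P ≤ X → F.IsConj P₀ P → 𝒬 P (extFun φ)}
  le_of_mem := fun h => F.le_of_mem h.1
  injective_of_mem := fun h => F.injective_of_mem h.1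
  conj_mem := by
    intro X g hX hg
    refine ⟨F.conj_mem hX hg, fun P hPX hP => ?_⟩
    have hPS : P ≤ S := hPX.trans hX
    have hPne : P ≠ S := by
      intro h
      rw [h] at hP
      exact hne (Helper88.isConj_top_eq F (isConj_symm F hP))
    obtain ⟨z, hz, hzP⟩ := exists_mem_normalizerIn_not_mem hS hPS hPne
    have hneN : P ≠ normalizerIn S P := by
      intro h
      rw [← h] at hz
      exact hzP hz
    refine hcongr P (fun x => g * x * g⁻¹) _ (fun x hx => ?_)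
      (hstep P (normalizerIn S P) _ hP (le_normalizerIn hPS) le_rfl hneN
        (mor_conj F (normalizerIn_le S P) hg))
    rw [extFun_mem _ (hPX hx)]
    rfl
  comp_mem := by
    intro X Y φ ψ hφ hψ h
    refine ⟨F.comp_mem hφ.1 hψ.1 h, fun P hPX hP => ?_⟩
    have hf : Mor F P (extFun φ) := (mor_of_hom F hφ.1).res hPX
    have hle : img P (extFun φ) ≤ Y := by
      intro y hy
      obtain ⟨x, hx, rfl⟩ := hf.mem_img.1 hy
      rw [extFun_mem φ (hPX hx)]
      exact h ⟨x, hPX hx⟩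
    have hg : Mor F (img P (extFun φ)) (extFun ψ) := (mor_of_hom F hψ.1).res hle
    have hP' : F.IsConj P₀ (img P (extFun φ)) :=
      isConj_trans F hP ((Helper88.isConj_iff F).2 ⟨_, hf, rfl⟩)
    refine hcongr P _ _ (fun x hx => ?_) (hcomp P _ _ hP hf hg (hφ.2 P hPX hP) (hψ.2 _ hle hP'))
    show extFun (ψ.comp (φ.codRestrict Y h)) x = extFun ψ (extFun φ x)
    rw [extFun_mem _ (hPX hx), extFun_mem φ (hPX hx), extFun_mem ψ (h ⟨x, hPX hx⟩)]
    rfl
  inv_mem := by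
    intro X φ hφ
    obtain ⟨ψ, hψ, hψx⟩ := F.inv_mem hφ.1
    refine ⟨ψ, ⟨hψ, fun P' hP'R hP' => ?_⟩, hψx⟩
    have hφm : Mor F X (extFun φ) := mor_of_hom F hφ.1
    have hψm : Mor F φ.range (extFun ψ) := mor_of_hom F hψ
    have hback : ∀ x : X, extFun ψ (φ x) = x := by
      intro x
      rw [extFun_mem ψ ⟨x, rfl⟩]
      exact hψx x
    have hψP' : Mor F P' (extFun ψ) := hψm.res hP'R
    have hPX : img P' (extFun ψ) ≤ X := by
      intro w hw
      obtain ⟨y, hy, rfl⟩ := hψP'.mem_img.1 hw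
      obtain ⟨x, rfl⟩ := hP'R hy
      rw [hback x]
      exact x.2
    have hP : F.IsConj P₀ (img P' (extFun ψ)) :=
      isConj_trans F hP' ((Helper88.isConj_iff F).2 ⟨_, hψP', rfl⟩)
    have hf : Mor F (img P' (extFun ψ)) (extFun φ) := hφm.res hPX
    have himg : img (img P' (extFun ψ)) (extFun φ) = P' := by
      apply le_antisymm
      · intro z hz
        obtain ⟨w, hw, rfl⟩ := hf.mem_img.1 hz
        obtain ⟨y, hy, rfl⟩ := hψP'.mem_img.1 hw
        obtain ⟨x, rfl⟩ := hP'R hy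
        rw [hback x, extFun_apply]
        exact hy
      · intro y hy
        obtain ⟨x, rfl⟩ := hP'R hy
        refine hf.mem_img.2 ⟨(x : Ω), ?_, extFun_apply φ x⟩
        have h1 := hψP'.apply_mem_img hy
        rw [hback x] at h1
        exact h1
    have h1 := hinv _ (extFun φ) (extFun ψ) hP hf (by rw [himg]; exact hψP')
      (fun x hx => by
        have h2 := hback ⟨x, hPX hx⟩
        rw [← extFun_apply φ ⟨x, hPX hx⟩] at h2
        exact h2)
      (hφ.2 _ hPX hP)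
    rw [himg] at h1
    exact h1

theorem hprin_of_gen [Finite S] {p : ℕ} [Fact p.Prime] (hS : IsPGroup p S) (F : FusionSystem S)
    (ℋ : Set (Subgroup Ω)) (hℋS : ∀ P ∈ ℋ, P ≤ S) (hℋconj : ∀ P ∈ ℋ, ∀ Q, F.IsConj P Q → Q ∈ ℋ)
    (hgen : ∀ E : FusionSystem S, (∀ P ∈ ℋ, F.Hom P ⊆ E.Hom P) → F ≤ E)
    {P₀ : Subgroup Ω} (hP₀ : P₀ ∉ ℋ) (hne : P₀ ≠ S) (𝒬 : Subgroup Ω → (Ω → Ω) → Prop)
    (hcongr : ∀ (P : Subgroup Ω) (f f' : Ω → Ω), (∀ x ∈ P, f' x = f x) → 𝒬 P f → 𝒬 P f')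
    (hcomp : ∀ (P : Subgroup Ω) (f g : Ω → Ω), F.IsConj P₀ P → Mor F P f → Mor F (img P f) g →
      𝒬 P f → 𝒬 (img P f) g → 𝒬 P (fun x => g (f x)))
    (hinv : ∀ (P : Subgroup Ω) (f g : Ω → Ω), F.IsConj P₀ P → Mor F P f → Mor F (img P f) g →
      (∀ x ∈ P, g (f x) = x) → 𝒬 P f → 𝒬 (img P f) g)
    (hstep : ∀ (P R : Subgroup Ω) (f : Ω → Ω), F.IsConj P₀ P → P ≤ R → R ≤ normalizerIn S P →
      P ≠ R → Mor F R f → 𝒬 P f) :
    ∀ (P : Subgroup Ω) (f : Ω → Ω), F.IsConj P₀ P → Mor F P f → 𝒬 P f := by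
  intro P f hP hf
  have hE : ∀ R ∈ ℋ, F.Hom R ⊆ (ESys hS F P₀ hne 𝒬 hcongr hcomp hinv hstep).Hom R := by
    intro R hR φ hφ
    refine ⟨hφ, fun P' hP'R hP' => ?_⟩
    have hRS := hℋS R hR
    have hP'S := hP'R.trans hRS
    have hP'ne : P' ≠ R := by
      intro h
      rw [h] at hP'
      exact hP₀ (hℋconj _ hR _ (isConj_symm F hP'))
    haveI : Finite R := finite_of_le hRS
    obtain ⟨z, hz, hzP⟩ := exists_mem_normalizerIn_not_mem (S := R) (hS.to_le hRS) hP'R hP'ne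
    obtain ⟨hzR, hzN⟩ := Subgroup.mem_inf.1 hz
    refine hstep P' (R ⊓ normalizerIn S P') _ hP' (le_inf hP'R (le_normalizerIn hP'S))
      inf_le_right ?_ ((mor_of_hom F hφ).res inf_le_left)
    intro h
    apply hzP
    rw [h]
    exact Subgroup.mem_inf.2 ⟨hzR, Subgroup.mem_inf.2 ⟨hRS hzR, hzN⟩⟩
  have hFE := hgen _ hE
  obtain ⟨φ, hφ, hφf⟩ := hf
  have h1 := (hFE P hφ).2 P le_rfl hP
  exact hcongr P _ _ (fun x hx => by rw [extFun_mem φ hx]; exact (hφf ⟨x, hx⟩).symm) h1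

/-! ### The criterion -/

theorem top_mem [Finite S] (p : ℕ) (F : FusionSystem S) (ℋ : Set (Subgroup Ω))
    (hstar : ∀ P : Subgroup Ω, F.IsCentric P → P ∉ ℋ → ∃ Q, F.IsConj P Q ∧
      ¬ (autInducedBy S Q ⊓ (pCore p ↥(F.autGroup Q)).map (F.autGroup Q).subtype ≤ Inn Q)) :
    S ∈ ℋ := by
  by_contra hSℋ
  have hcen : F.IsCentric S := by
    refine ⟨le_rfl, fun Q hQ => ?_⟩
    have h1 := Helper88.isConj_top_eq F hQ
    rw [h1]
    exact centralizerIn_le S S
  obtain ⟨Q, hQ, hnot⟩ := hstar S hcen hSℋ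
  have hQe := Helper88.isConj_top_eq F hQ
  apply hnot
  intro a ha
  obtain ⟨g, hg, hgx⟩ := (Helper88.mem_autInducedBy_iff S Q a).1 (Subgroup.mem_inf.1 ha).1
  have hgQ : g ∈ Q := by rw [hQe]; exact hg
  refine ⟨⟨g, hgQ⟩, ?_⟩
  apply MulEquiv.ext
  intro x
  apply Subtype.ext
  rw [hgx x]
  rfl

theorem fn_good [Finite S] (p : ℕ) [Fact p.Prime] (hS : IsPGroup p S) (F : FusionSystem S)
    (ℋ : Set (Subgroup Ω)) (hℋS : ∀ P ∈ ℋ, P ≤ S) (hℋconj : ∀ P ∈ ℋ, ∀ Q, F.IsConj P Q → Q ∈ ℋ)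
    (hsat : ∀ P ∈ ℋ, ∃ Q, F.IsConj P Q ∧ F.IsFullyAutomized p Q ∧ F.IsReceptive Q)
    (hgen : ∀ E : FusionSystem S, (∀ P ∈ ℋ, F.Hom P ⊆ E.Hom P) → F ≤ E)
    (hstar : ∀ P : Subgroup Ω, F.IsCentric P → P ∉ ℋ → ∃ Q, F.IsConj P Q ∧
      ¬ (autInducedBy S Q ⊓ (pCore p ↥(F.autGroup Q)).map (F.autGroup Q).subtype ≤ Inn Q)) :
    ∀ n : ℕ, ∀ Q : Subgroup Ω, F.IsFullyNormalized Q → Nat.card S - Nat.card Q = n →
      F.IsFullyAutomized p Q ∧ F.IsReceptive Q := by
  intro n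
  induction n using Nat.strong_induction_on with
  | _ n ih =>
    intro Q hQn hn
    have hQS : Q ≤ S := hQn.1
    by_cases hQℋ : Q ∈ ℋ
    · have hex := hsat Q hQℋ
      exact ⟨fa_of_fn_local p hS F hex hQn,
        rec_of_fc_local p hS F hex (fc_of_fn_local p hS F hex hQn)⟩
    have hQne : Q ≠ S := by
      intro h
      rw [h] at hQℋ
      exact hQℋ (top_mem p F ℋ hstar)
    have hcardlt : Nat.card Q < Nat.card S := card_lt_of_lt' le_rfl hQS hQne
    have hbigfn : ∀ R : Subgroup Ω, F.IsFullyNormalized R → Nat.card Q < Nat.card R →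
        F.IsFullyAutomized p R ∧ F.IsReceptive R := by
      intro R hRn hlt
      have hRc : Nat.card R ≤ Nat.card S := Subgroup.card_le_of_le hRn.1
      exact ih (Nat.card S - Nat.card R) (by omega) R hRn rfl
    have C : Ctx p F Q := by
      refine ⟨hQS, hQne, fun R hR hlt => ?_, fun 𝒬 h1 h2 h3 h4 =>
        hprin_of_gen hS F ℋ hℋS hℋconj hgen hQℋ hQne 𝒬 h1 h2 h3 h4⟩
      obtain ⟨R', hRR', hR'n⟩ := exists_fullyNormalized_conj F hR
      obtain ⟨f, hf, hfR'⟩ := (Helper88.isConj_iff F).1 hRR'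
      have h5 := hbigfn _ hR'n (by rw [← hfR', hf.card_img]; exact hlt)
      exact ⟨_, hRR', h5.1, h5.2⟩
    have hrec : F.IsReceptive Q := by
      by_cases hc : F.IsCentric Q
      · obtain ⟨Q', hQ', hnot⟩ := hstar Q hc hQℋ
        have hQ'S : Q' ≤ S := isConj_le_right F hQ'
        have hnle : ¬ (KCen p hS F).QX Q' ≤ Q' := by
          intro hle
          apply hnot
          intro a ha
          obtain ⟨ha1, ha2⟩ := Subgroup.mem_inf.1 ha
          obtain ⟨g, hg, hgx⟩ := (Helper88.mem_autInducedBy_iff S Q' a).1 ha1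
          obtain ⟨α, hα, hαa⟩ := ha2
          have hgQ : g ∈ (KCen p hS F).QX Q' := by
            refine ((KCen p hS F).mem_QX hQ'S).2 ⟨hg, hQ'S, α, hα, fun x hx => ?_⟩
            rw [autFun_mem _ hx]
            have h6 : (α : MulAut Q') = a := hαa
            rw [h6]
            exact (hgx ⟨x, hx⟩).symm
          have hgQ' : g ∈ Q' := hle hgQ
          refine ⟨⟨g, hgQ'⟩, ?_⟩
          apply MulEquiv.ext
          intro x
          apply Subtype.ext
          rw [hgx x]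
          rfl
        have hQX := not_QX_le_of_conj p hS C (KCen p hS F) hQ' (isConj_refl F hQS) hQn hnle
        exact St2.receptive hS
          (⟨C, kfix_KCen p hS F hc, isConj_refl F hQS, hQn, hQX⟩ : St2 p F Q (KCen p hS F) Q)
      · have hex : ∃ Q', F.IsConj Q Q' ∧ ¬ centralizerIn S Q' ≤ Q' := by
          by_contra hcon
          apply hc
          refine ⟨hQS, fun Q' hQ' => ?_⟩
          by_contra h7
          exact hcon ⟨Q', hQ', h7⟩
        obtain ⟨Q', hQ', hnot⟩ := hex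
        have hQ'S : Q' ≤ S := isConj_le_right F hQ'
        obtain ⟨c, hc1, hc2⟩ := SetLike.not_le_iff_exists.1 hnot
        have hnle : ¬ (KInn F).QX Q' ≤ Q' := by
          intro hle
          apply hc2
          apply hle
          obtain ⟨hcS, hcc⟩ := mem_centralizerIn.1 hc1
          refine ((KInn F).mem_QX hQ'S).2 ⟨hcS, hQ'S, 1, Q'.one_mem, fun x hx => ?_⟩
          show c * x * c⁻¹ = 1 * x * 1⁻¹
          rw [← hcc x hx]
          group
        have hQX := not_QX_le_of_conj p hS C (KInn F) hQ' (isConj_refl F hQS) hQn hnle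
        exact St2.receptive hS
          (⟨C, kfix_KInn p F Q, isConj_refl F hQS, hQn, hQX⟩ : St2 p F Q (KInn F) Q)
    exact ⟨fa_of_fn_rec_local p hS F hQn hrec hQne (fun R hRn hlt => (hbigfn R hRn hlt).1), hrec⟩

/-- The saturation criterion of Broto--Castellana--Grodal--Levi--Oliver. -/
theorem main [Finite S] (p : ℕ) [Fact p.Prime] (hS : IsPGroup p S) (F : FusionSystem S)
    (ℋ : Set (Subgroup Ω)) (hℋS : ∀ P ∈ ℋ, P ≤ S) (hℋconj : ∀ P ∈ ℋ, ∀ Q, F.IsConj P Q → Q ∈ ℋ)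
    (hsat : ∀ P ∈ ℋ, ∃ Q, F.IsConj P Q ∧ F.IsFullyAutomized p Q ∧ F.IsReceptive Q)
    (hgen : ∀ E : FusionSystem S, (∀ P ∈ ℋ, F.Hom P ⊆ E.Hom P) → F ≤ E)
    (hstar : ∀ P : Subgroup Ω, F.IsCentric P → P ∉ ℋ → ∃ Q, F.IsConj P Q ∧
      ¬ (autInducedBy S Q ⊓ (pCore p ↥(F.autGroup Q)).map (F.autGroup Q).subtype ≤ Inn Q)) :
    F.IsSaturated p := by
  intro P hP
  obtain ⟨Q, hPQ, hQn⟩ := exists_fullyNormalized_conj F hP
  have h1 := fn_good p hS F ℋ hℋS hℋconj hsat hgen hstar _ Q hQn rfl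
  exact ⟨Q, hPQ, h1.1, h1.2⟩

end Cfsg.Agent.Lib.Helper84.SatCrit
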