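import Mathlib
import Cfsg.Prelude.Def_FusionSystem
import Cfsg.Agent.Lib.Helper84.SatCrit6
import Cfsg.Agent.Lib.Helper88.FusCentric

set_option autoImplicit false
set_option linter.style.haveILetI false

/-!
# The `p'`-residual subsystem: the generating maps

`G0 F p P f`: the map `f` on `P` is a composite of restrictions of automorphisms of `p`-power order
of `F`-centric subgroups.  `FrSys F p A`: the fusion system of the maps `a ∘ f₀` with `a` in a
subgroup `A` of `Aut_F(S)` containing the inner automorphisms and `f₀` a `G0`-map.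
-/

namespace Cfsg.Agent.Lib.Helper84.PPrimeRes

open Cfsg Cfsg.FusionSystem Cfsg.Agent.Lib.Helper84 Cfsg.Agent.Lib.Helper84.SatCrit
open Cfsg.Agent.Lib.Helper88 (Mor extFun extFun_mem extFun_apply img mor_of_hom hom_of_mor mor_conj mor_id)

variable {Ω : Type*} [Group Ω] {S : Subgroup Ω}

theorem centric_top [Finite S] (F : FusionSystem S) : F.IsCentric S := by
  refine ⟨le_rfl, fun Q hQ => ?_⟩
  rw [Helper88.isConj_top_eq F hQ]
  exact centralizerIn_le S S

theorem iterate_mem {R : Subgroup Ω} {f : Ω → Ω} (hmaps : ∀ x ∈ R, f x ∈ R) (n : ℕ) :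
    ∀ x ∈ R, f^[n] x ∈ R := by
  induction n with
  | zero => intro x hx; exact hx
  | succ n ih => intro x hx; rw [Function.iterate_succ_apply']; exact hmaps _ (ih x hx)

theorem autFun_pow_iterate {R : Subgroup Ω} (α : MulAut R) (n : ℕ) :
    ∀ x ∈ R, autFun (α ^ n) x = (autFun α)^[n] x := by
  induction n with
  | zero => intro x hx; rw [pow_zero, autFun_one hx]; rfl
  | succ n ih =>
    intro x hx
    rw [pow_succ', autFun_mul _ _ hx, ih x hx, Function.iterate_succ_apply']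

/-- composites of restrictions of automorphisms of `p`-power order of centric subgroups. -/
inductive G0 (F : FusionSystem S) (p : ℕ) : Subgroup Ω → (Ω → Ω) → Prop
  | base (R P : Subgroup Ω) (f₁ f : Ω → Ω) : F.IsCentric R → P ≤ R → Mor F R f₁ →
      (∀ x ∈ R, f₁ x ∈ R) → (∃ k : ℕ, ∀ x ∈ R, f₁^[p ^ k] x = x) → (∀ x ∈ P, f x = f₁ x) →
      G0 F p P f
  | comp (P : Subgroup Ω) (f g h : Ω → Ω) : G0 F p P f → G0 F p (img P f) g →
      (∀ x ∈ P, h x = g (f x)) → G0 F p P h

namespace G0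

variable {F : FusionSystem S} {p : ℕ}

theorem mor {P : Subgroup Ω} {f : Ω → Ω} (h : G0 F p P f) : Mor F P f := by
  induction h with
  | base R P f₁ f hc hPR hf₁ hmaps hk hff =>
    exact (hf₁.res hPR).congr (fun x hx => (hff x hx).symm)
  | comp P f g h hf hg hh ihf ihg =>
    exact (ihf.comp ihg (fun x hx => ihf.apply_mem_img hx)).congr (fun x hx => (hh x hx).symm)

/-- transfer to another system containing the generators. -/
theorem mor_of {P : Subgroup Ω} {f : Ω → Ω} (h : G0 F p P f) (E' : FusionSystem S)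
    (hbase : ∀ (R : Subgroup Ω) (f₁ : Ω → Ω), F.IsCentric R → Mor F R f₁ → (∀ x ∈ R, f₁ x ∈ R) →
      (∃ k : ℕ, ∀ x ∈ R, f₁^[p ^ k] x = x) → Mor E' R f₁) : Mor E' P f := by
  induction h with
  | base R P f₁ f hc hPR hf₁ hmaps hk hff =>
    exact ((hbase R f₁ hc hf₁ hmaps hk).res hPR).congr (fun x hx => (hff x hx).symm)
  | comp P f g h hf hg hh ihf ihg =>
    exact (ihf.comp ihg (fun x hx => ihf.apply_mem_img hx)).congr (fun x hx => (hh x hx).symm)

theorem congr {P : Subgroup Ω} {f f' : Ω → Ω} (h : G0 F p P f) (hff : ∀ x ∈ P, f' x = f x) :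
    G0 F p P f' := by
  cases h with
  | base R _ f₁ _ hc hPR hf₁ hmaps hk hf =>
    exact base R P f₁ f' hc hPR hf₁ hmaps hk (fun x hx => (hff x hx).trans (hf x hx))
  | comp _ f₂ g _ hf hg hh =>
    exact comp P f₂ g f' hf hg (fun x hx => (hff x hx).trans (hh x hx))

theorem res {P : Subgroup Ω} {f : Ω → Ω} (h : G0 F p P f) :
    ∀ Q : Subgroup Ω, Q ≤ P → G0 F p Q f := by
  induction h with
  | base R P f₁ f hc hPR hf₁ hmaps hk hff =>
    intro Q hQ
    exact base R Q f₁ f hc (hQ.trans hPR) hf₁ hmaps hk (fun x hx => hff x (hQ hx))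
  | comp P f g h hf hg hh ihf ihg =>
    intro Q hQ
    exact comp Q f g h (ihf Q hQ) (ihg _ (img_mono_of_mor hf.mor hQ)) (fun x hx => hh x (hQ hx))

theorem id [Finite S] {P : Subgroup Ω} (hP : P ≤ S) : G0 F p P (fun x => x) :=
  base S P (fun x => x) (fun x => x) (centric_top F) hP (mor_id F le_rfl) (fun _ hx => hx)
    ⟨0, fun _ _ => rfl⟩ (fun _ _ => rfl)

theorem inv [Finite S] {P : Subgroup Ω} {f : Ω → Ω} (h : G0 F p P f) :
    ∃ g, G0 F p (img P f) g ∧ ∀ x ∈ P, g (f x) = x := by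
  induction h with
  | base R P f₁ f hc hPR hf₁ hmaps hk hff =>
    obtain ⟨k, hk⟩ := hk
    obtain ⟨g, hg, hgf⟩ := hf₁.exists_inv
    have himgR : img R f₁ = R := hf₁.img_eq_self hmaps
    rw [himgR] at hg
    have hgR : ∀ y ∈ R, g y ∈ R := by
      intro y hy
      have hy' : y ∈ img R f₁ := by rw [himgR]; exact hy
      obtain ⟨x, hx, rfl⟩ := hf₁.mem_img.1 hy'
      rw [hgf x hx]; exact hx
    have hiter : ∀ n : ℕ, ∀ x ∈ R, g^[n] (f₁^[n] x) = x := by
      intro n
      induction n with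
      | zero => intro x hx; rfl
      | succ n ih =>
        intro x hx
        rw [Function.iterate_succ_apply' f₁ n x]
        show g^[n] (g (f₁ (f₁^[n] x))) = x
        rw [hgf _ (iterate_mem hmaps n x hx)]
        exact ih x hx
    have hgk : ∀ x ∈ R, g^[p ^ k] x = x := by
      intro x hx
      have h1 := hiter (p ^ k) x hx
      rw [hk x hx] at h1
      exact h1
    have himgP : img P f = img P f₁ := Helper88.img_congr hff
    refine ⟨g, base R (img P f) g g hc ?_ hg hgR ⟨k, hgk⟩ (fun _ _ => rfl), ?_⟩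
    · rw [himgP]
      have h2 := img_mono_of_mor hf₁ hPR
      rwa [himgR] at h2
    · intro x hx
      rw [hff x hx]; exact hgf x (hPR hx)
  | comp P f g h hf hg hh ihf ihg =>
    obtain ⟨f', hf', hf'f⟩ := ihf
    obtain ⟨g', hg', hg'g⟩ := ihg
    have himg : img P h = img (img P f) g := by
      rw [Helper88.img_congr hh]; exact DFac.img_comp hf.mor hg.mor
    have himg2 : img (img (img P f) g) g' = img P f := img_inv hg.mor hg'.mor hg'g le_rfl
    refine ⟨fun y => f' (g' y), comp (img P h) g' f' _ (by rw [himg]; exact hg')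
      (by rw [himg, himg2]; exact hf') (fun _ _ => rfl), ?_⟩
    intro x hx
    show f' (g' (h x)) = x
    rw [hh x hx, hg'g _ (hf.mor.apply_mem_img hx), hf'f x hx]

/-- invariance under conjugation by an automorphism of `S` in the system. -/
theorem conj [Finite S] {P : Subgroup Ω} {f : Ω → Ω} (h : G0 F p P f) {a b : MulAut S}
    (ha : a ∈ F.autGroup S) (hb : b ∈ F.autGroup S) (h1 : ∀ x ∈ S, autFun b (autFun a x) = x)
    (h2 : ∀ x ∈ S, autFun a (autFun b x) = x) :
    G0 F p (img P (autFun a)) (fun y => autFun a (f (autFun b y))) := by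
  have he : Mor F S (autFun a) := autFun_mor F le_rfl ha
  have hei : Mor F S (autFun b) := autFun_mor F le_rfl hb
  induction h with
  | base R P f₁ f hc hPR hf₁ hmaps hk hff =>
    have hRS : R ≤ S := hc.1
    have heR : Mor F R (autFun a) := he.res hRS
    have hR'S : img R (autFun a) ≤ S := heR.img_le
    have hback : ∀ y ∈ img R (autFun a), autFun b y ∈ R := by
      intro y hy
      obtain ⟨x, hx, rfl⟩ := heR.mem_img.1 hy
      rw [h1 x (hRS hx)]; exact hx
    have hf' : Mor F (img R (autFun a)) (fun y => autFun a (f₁ (autFun b y))) :=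
      ((hei.res hR'S).comp hf₁ hback).comp heR (fun y hy => hmaps _ (hback y hy))
    have hmaps' : ∀ y ∈ img R (autFun a), autFun a (f₁ (autFun b y)) ∈ img R (autFun a) :=
      fun y hy => heR.apply_mem_img (hmaps _ (hback y hy))
    obtain ⟨k, hk⟩ := hk
    have hiter : ∀ n : ℕ, ∀ y ∈ img R (autFun a),
        (fun y => autFun a (f₁ (autFun b y)))^[n] y = autFun a (f₁^[n] (autFun b y)) := by
      intro n
      induction n with
      | zero => intro y hy; exact (h2 y (hR'S hy)).symm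
      | succ n ih =>
        intro y hy
        rw [Function.iterate_succ_apply', ih y hy]
        show autFun a (f₁ (autFun b (autFun a (f₁^[n] (autFun b y))))) =
          autFun a (f₁^[n + 1] (autFun b y))
        rw [h1 _ (hRS (iterate_mem hmaps n _ (hback y hy))), Function.iterate_succ_apply']
    refine base (img R (autFun a)) (img P (autFun a)) _ _ (Helper88.centric_conj hc heR)
      (img_mono_of_mor heR hPR) hf' hmaps' ⟨k, ?_⟩ ?_
    · intro y hy
      rw [hiter (p ^ k) y hy, hk _ (hback y hy), h2 y (hR'S hy)]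
    · intro y hy
      obtain ⟨x, hx, rfl⟩ := (heR.res hPR).mem_img.1 hy
      show autFun a (f (autFun b (autFun a x))) = autFun a (f₁ (autFun b (autFun a x)))
      rw [h1 x (hRS (hPR hx)), hff x hx]
  | comp P f g h hf hg hh ihf ihg =>
    have hfm := hf.mor
    have hPS : P ≤ S := hfm.le
    have hePm : Mor F P (autFun a) := he.res hPS
    have hQS : img P f ≤ S := hfm.img_le
    have heQ : Mor F (img P f) (autFun a) := he.res hQS
    have himg : img (img P (autFun a)) (fun y => autFun a (f (autFun b y))) =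
        img (img P f) (autFun a) := by
      ext z
      rw [ihf.mor.mem_img, heQ.mem_img]
      constructor
      · rintro ⟨y, hy, rfl⟩
        obtain ⟨x, hx, rfl⟩ := hePm.mem_img.1 hy
        refine ⟨f x, hfm.apply_mem_img hx, ?_⟩
        show autFun a (f x) = autFun a (f (autFun b (autFun a x)))
        rw [h1 x (hPS hx)]
      · rintro ⟨w, hw, rfl⟩
        obtain ⟨x, hx, rfl⟩ := hfm.mem_img.1 hw
        refine ⟨autFun a x, hePm.apply_mem_img hx, ?_⟩
        show autFun a (f (autFun b (autFun a x))) = autFun a (f x)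
        rw [h1 x (hPS hx)]
    refine comp _ _ _ _ ihf (by rw [himg]; exact ihg) ?_
    intro y hy
    obtain ⟨x, hx, rfl⟩ := hePm.mem_img.1 hy
    show autFun a (h (autFun b (autFun a x))) =
      autFun a (g (autFun b (autFun a (f (autFun b (autFun a x))))))
    rw [h1 x (hPS hx), h1 _ (hfm.mem_S hx), hh x hx]

end G0

/-- the subgroup `O^{p'}(Aut_F(P))` generated by the elements of `p`-power order. -/
def OpP (F : FusionSystem S) (p : ℕ) (P : Subgroup Ω) : Subgroup (F.autGroup P) :=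
  Subgroup.closure {α : F.autGroup P | ∃ k : ℕ, orderOf α = p ^ k}

theorem G0_of_mem_OpP [Finite S] {p : ℕ} {F : FusionSystem S} {R : Subgroup Ω}
    (hc : F.IsCentric R) {β : F.autGroup R} (hβ : β ∈ OpP F p R) :
    G0 F p R (autFun (β : MulAut R)) := by
  have hRS := hc.1
  unfold OpP at hβ
  induction hβ using Subgroup.closure_induction with
  | mem β hβ =>
    obtain ⟨k, hk⟩ := hβ
    refine G0.base R R (autFun (β : MulAut R)) _ hc le_rfl (autFun_mor F hRS β.2)
      (fun x hx => autFun_mem_R _ hx) ⟨k, fun x hx => ?_⟩ (fun _ _ => rfl)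
    rw [← autFun_pow_iterate _ _ x hx]
    have h1 : (β : MulAut R) ^ p ^ k = 1 := by
      have h2 : β ^ p ^ k = 1 := by rw [← hk]; exact pow_orderOf_eq_one β
      have h3 := congrArg (fun z : F.autGroup R => (z : MulAut R)) h2
      simpa using h3
    rw [h1, autFun_one hx]
  | one =>
    refine G0.base R R (fun x => x) _ hc le_rfl (mor_id F hRS) (fun x hx => hx)
      ⟨0, fun x hx => rfl⟩ (fun x hx => ?_)
    show autFun (1 : MulAut R) x = x
    exact autFun_one hx
  | mul a b _ _ iha ihb =>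
    refine G0.comp R (autFun (b : MulAut R)) (autFun (a : MulAut R)) _ ihb ?_ (fun x hx => ?_)
    · rw [img_autFun F hRS b]; exact iha
    · show autFun ((a : MulAut R) * (b : MulAut R)) x = _
      exact autFun_mul _ _ hx
  | inv a _ iha =>
    obtain ⟨g, hg, hgf⟩ := iha.inv
    rw [img_autFun F hRS a] at hg
    refine hg.congr (fun x hx => ?_)
    show autFun ((a : MulAut R)⁻¹) x = g x
    have h1 := hgf _ (autFun_mem_R ((a : MulAut R)⁻¹) hx)
    rw [autFun_inv' _ hx] at h1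
    exact h1.symm

/-- the maps `a ∘ f₀` with `a ∈ A` and `f₀` a `G0`-map. -/
def FrMor (F : FusionSystem S) (p : ℕ) (A : Subgroup (F.autGroup S)) (P : Subgroup Ω)
    (f : Ω → Ω) : Prop :=
  ∃ a ∈ A, ∃ f₀, G0 F p P f₀ ∧ ∀ x ∈ P, f x = autFun ((a : F.autGroup S) : MulAut S) (f₀ x)

namespace FrMor

variable {F : FusionSystem S} {p : ℕ} {A : Subgroup (F.autGroup S)} {P Q : Subgroup Ω}
  {f g : Ω → Ω}

theorem mor (h : FrMor F p A P f) : Mor F P f := by
  obtain ⟨a, -, f₀, hf₀, hf⟩ := h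
  exact (hf₀.mor.comp (autFun_mor F le_rfl a.2) (fun x hx => hf₀.mor.mem_S hx)).congr
    (fun x hx => (hf x hx).symm)

theorem congr {f' : Ω → Ω} (h : FrMor F p A P f) (hff : ∀ x ∈ P, f' x = f x) :
    FrMor F p A P f' := by
  obtain ⟨a, ha, f₀, hf₀, hf⟩ := h
  exact ⟨a, ha, f₀, hf₀, fun x hx => (hff x hx).trans (hf x hx)⟩

theorem of_G0 (h : G0 F p P f) : FrMor F p A P f :=
  ⟨1, A.one_mem, f, h, fun x hx => (autFun_one (h.mor.mem_S hx)).symm⟩

theorem of_mem [Finite S] {a : F.autGroup S} (ha : a ∈ A) (hP : P ≤ S) :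
    FrMor F p A P (autFun (a : MulAut S)) :=
  ⟨a, ha, fun x => x, G0.id hP, fun _ _ => rfl⟩

theorem comp [Finite S] (hf : FrMor F p A P f) (hg : FrMor F p A Q g)
    (hPQ : ∀ x ∈ P, f x ∈ Q) : FrMor F p A P (fun x => g (f x)) := by
  obtain ⟨a, ha, f₀, hf₀, hfa⟩ := hf
  obtain ⟨b, hb, g₀, hg₀, hgb⟩ := hg
  have hf₀m := hf₀.mor
  have he : Mor F S (autFun (a : MulAut S)) := autFun_mor F le_rfl a.2
  have hei : Mor F S (autFun ((a : MulAut S)⁻¹)) := autFun_mor F le_rfl (a⁻¹).2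
  have hX : img (img P f₀) (autFun (a : MulAut S)) ≤ Q := by
    intro y hy
    obtain ⟨w, hw, rfl⟩ := (he.res hf₀m.img_le).mem_img.1 hy
    obtain ⟨x, hx, rfl⟩ := hf₀m.mem_img.1 hw
    rw [← hfa x hx]; exact hPQ x hx
  have h3 := (hg₀.res _ hX).conj (a := (a : MulAut S)⁻¹) (b := (a : MulAut S)) (a⁻¹).2 a.2
    (fun x hx => autFun_inv' _ hx) (fun x hx => autFun_inv _ hx)
  have himg : img (img (img P f₀) (autFun (a : MulAut S))) (autFun ((a : MulAut S)⁻¹)) =
      img P f₀ := by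
    have hS' : img S (autFun (a : MulAut S)) = S := img_autFun F le_rfl a
    exact img_inv he (by rw [hS']; exact hei) (fun x hx => autFun_inv _ hx) hf₀m.img_le
  rw [himg] at h3
  refine ⟨b * a, A.mul_mem hb ha,
    fun x => autFun ((a : MulAut S)⁻¹) (g₀ (autFun (a : MulAut S) (f₀ x))),
    G0.comp P f₀ _ _ hf₀ h3 (fun _ _ => rfl), fun x hx => ?_⟩
  show g (f x) = autFun ((b : MulAut S) * (a : MulAut S))
    (autFun ((a : MulAut S)⁻¹) (g₀ (autFun (a : MulAut S) (f₀ x))))
  have hfx : f x = autFun (a : MulAut S) (f₀ x) := hfa x hx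
  have hfxQ : autFun (a : MulAut S) (f₀ x) ∈ Q := by rw [← hfx]; exact hPQ x hx
  have hg₀S : g₀ (autFun (a : MulAut S) (f₀ x)) ∈ S := hg₀.mor.mem_S hfxQ
  rw [autFun_mul _ _ (autFun_mem_R _ hg₀S), autFun_inv' _ hg₀S, hfx, hgb _ hfxQ]

theorem inv [Finite S] (hf : FrMor F p A P f) (hgf : ∀ x ∈ P, g (f x) = x) :
    FrMor F p A (img P f) g := by
  obtain ⟨a, ha, f₀, hf₀, hfa⟩ := hf
  obtain ⟨g₀, hg₀, hg₀f⟩ := hf₀.inv
  have hf₀m := hf₀.mor
  have he : Mor F S (autFun (a : MulAut S)) := autFun_mor F le_rfl a.2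
  have heQ : Mor F (img P f₀) (autFun (a : MulAut S)) := he.res hf₀m.img_le
  have himg : img P f = img (img P f₀) (autFun (a : MulAut S)) := by
    rw [Helper88.img_congr hfa]; exact DFac.img_comp hf₀m heQ
  have h3 := hg₀.conj (a := (a : MulAut S)) (b := (a : MulAut S)⁻¹) a.2 (a⁻¹).2
    (fun x hx => autFun_inv _ hx) (fun x hx => autFun_inv' _ hx)
  rw [← himg] at h3
  refine ⟨a⁻¹, A.inv_mem ha, _, h3, fun y hy => ?_⟩
  rw [himg] at hy
  obtain ⟨w, hw, rfl⟩ := heQ.mem_img.1 hy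
  obtain ⟨x, hx, rfl⟩ := hf₀m.mem_img.1 hw
  show g (autFun (a : MulAut S) (f₀ x)) = autFun ((a : MulAut S)⁻¹) (autFun (a : MulAut S)
    (g₀ (autFun ((a : MulAut S)⁻¹) (autFun (a : MulAut S) (f₀ x)))))
  rw [autFun_inv _ (hf₀m.mem_S hx), hg₀f x hx, autFun_inv _ (hf₀m.le hx), ← hfa x hx, hgf x hx]

end FrMor

/-- the fusion system of the maps `a ∘ f₀`. -/
def FrSys [Finite S] (F : FusionSystem S) (p : ℕ) (A : Subgroup (F.autGroup S))
    (hA : ∀ g ∈ S, ∃ a ∈ A, ∀ x ∈ S, autFun ((a : F.autGroup S) : MulAut S) x = g * x * g⁻¹) :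
    FusionSystem S where
  Hom P := {φ | φ ∈ F.Hom P ∧ FrMor F p A P (extFun φ)}
  le_of_mem := fun h => F.le_of_mem h.1
  injective_of_mem := fun h => F.injective_of_mem h.1
  conj_mem := by
    intro P g hP hg
    refine ⟨F.conj_mem hP hg, ?_⟩
    obtain ⟨a, ha, hax⟩ := hA g hg
    refine ⟨a, ha, fun x => x, G0.id hP, fun x hx => ?_⟩
    rw [extFun_mem _ hx, hax x (hP hx)]
    rfl
  comp_mem := by
    intro P Q φ ψ hφ hψ h
    refine ⟨F.comp_mem hφ.1 hψ.1 h, ?_⟩
    refine (hφ.2.comp hψ.2 (fun x hx => ?_)).congr (fun x hx => ?_)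
    · rw [extFun_mem φ hx]; exact h ⟨x, hx⟩
    · rw [extFun_mem _ hx, extFun_mem φ hx, extFun_mem ψ (h ⟨x, hx⟩)]
      rfl
  inv_mem := by
    intro P φ hφ
    obtain ⟨ψ, hψ, hψx⟩ := F.inv_mem hφ.1
    refine ⟨ψ, ⟨hψ, ?_⟩, hψx⟩
    have himg : img P (extFun φ) = φ.range :=
      Helper88.img_eq_range φ (fun x => (extFun_apply φ x).symm)
    have h1 : FrMor F p A (img P (extFun φ)) (extFun ψ) := hφ.2.inv (fun x hx => by
      rw [extFun_mem φ hx, extFun_mem ψ ⟨⟨x, hx⟩, rfl⟩]
      exact hψx ⟨x, hx⟩)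
    rw [himg] at h1
    exact h1

theorem mor_frSys_iff [Finite S] {F : FusionSystem S} {p : ℕ} {A : Subgroup (F.autGroup S)}
    {hA : ∀ g ∈ S, ∃ a ∈ A, ∀ x ∈ S, autFun ((a : F.autGroup S) : MulAut S) x = g * x * g⁻¹}
    {P : Subgroup Ω} {f : Ω → Ω} : Mor (FrSys F p A hA) P f ↔ FrMor F p A P f := by
  constructor
  · rintro ⟨φ, ⟨-, hφ2⟩, hφf⟩
    exact hφ2.congr (fun x hx => by rw [extFun_mem φ hx]; exact (hφf ⟨x, hx⟩).symm)
  · intro h
    obtain ⟨φ, hφ, hφf⟩ := h.mor
    exact ⟨φ, ⟨hφ, h.congr (fun x hx => by rw [extFun_mem φ hx]; exact hφf ⟨x, hx⟩)⟩, hφf⟩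

end Cfsg.Agent.Lib.Helper84.PPrimeRes
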