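import Mathlib
import Cfsg.Prelude.Def_FusionSystem
import Cfsg.Agent.Lib.Helper84.FusionApps
import Cfsg.Agent.Lib.Helper84.KNormalizer
import Cfsg.Agent.Lib.Helper2.Transfer

set_option autoImplicit false

/-!
# A conjugation lying in `O^p(Aut_F(P))` comes from the focal subgroup

For `P` fully automized and receptive in a saturated fusion system `F` over `S`, and `T ≤ S`
containing the hyperfocal subgroup of `F`, the commutator subgroup of `S` and `C_S(P)`:
if conjugation by `g ∈ S` on `P` lies in `O^p(Aut_F(P))` then `g ∈ T`.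
-/

namespace Cfsg.Agent.Lib.Helper84.PFocal

open Cfsg Cfsg.FusionSystem Cfsg.Agent.Lib.Helper84
open Cfsg.Agent.Lib.Helper88 (Mor extFun extFun_mem extFun_apply img mor_of_hom hom_of_mor mor_conj mor_id)
open scoped commutatorElement

variable {Ω : Type*} [Group Ω] {S : Subgroup Ω}

/-- the focal subgroup lies in every subgroup containing the hyperfocal subgroup and the
commutators of `S`. -/
theorem focal_le [Finite S] (p : ℕ) [Fact p.Prime] (hS : IsPGroup p S) (F : FusionSystem S)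
    (hF : F.IsSaturated p) {T : Subgroup Ω}
    (hab : ∀ a ∈ S, ∀ b ∈ S, a * b * a⁻¹ * b⁻¹ ∈ T) (hT : F.hyperfocalSubgroup p ≤ T) :
    F.focalSubgroup ≤ T := by
  rw [focal_eq_hyperfocal_sup p hS F hF]
  refine sup_le hT ?_
  rw [Subgroup.commutator_le]
  intro a ha b hb
  exact hab a ha b hb

/-- every element of the focal subgroup of the Sylow subgroup `Aut_S(P)` of `Aut_F(P)` is
induced by an element of the focal subgroup of `F`. -/
theorem focal_gen [Finite S] (F : FusionSystem S) {P : Subgroup Ω} (hP : P ≤ S)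
    (hrec : F.IsReceptive P) {T : Subgroup Ω} (hfoc : F.focalSubgroup ≤ T)
    (x u : F.autGroup P) (hx : (x : MulAut P) ∈ autInducedBy S P)
    (hz : ((⁅x, u⁆ : F.autGroup P) : MulAut P) ∈ autInducedBy S P) :
    ((⁅x, u⁆ : F.autGroup P) : MulAut P) ∈ autInducedBy T P := by
  obtain ⟨a, ha, hxa⟩ := (Helper88.mem_autInducedBy_iff S P _).1 hx
  obtain ⟨b, hb, hzb⟩ := (Helper88.mem_autInducedBy_iff S P _).1 hz
  -- the inverse of `x` is conjugation by `a⁻¹`
  have hxinv : ∀ y : P, (((x : MulAut P)⁻¹ y : P) : Ω) = a⁻¹ * y * a := by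
    intro y
    have h1 := hxa ((x : MulAut P)⁻¹ y)
    rw [MulAut.apply_inv_self] at h1
    rw [h1]; group
  have hanorm : ∀ y : P, a⁻¹ * (y : Ω) * a ∈ P := fun y => by rw [← hxinv y]; exact Subtype.property _
  set φ : P →* Ω := P.subtype.comp (u : MulAut P).toMonoidHom with hφ
  have hφF : φ ∈ F.Hom P := Helper88.subtype_comp_mem F hP u.2
  have hφr : φ.range = P := by
    ext y
    constructor
    · rintro ⟨w, rfl⟩
      exact Subtype.property _
    · intro hy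
      exact ⟨(u : MulAut P)⁻¹ ⟨y, hy⟩, by show (((u : MulAut P) ((u : MulAut P)⁻¹ ⟨y, hy⟩) : P) : Ω) = y; simp⟩
  obtain ⟨ψ, hψ, hψφ⟩ := hrec.2 P φ hφF hφr
  -- the commutator, evaluated
  have hcomm : ∀ y : P, ((((⁅x, u⁆ : F.autGroup P) : MulAut P) y : P) : Ω) =
      a * (((u : MulAut P) ((x : MulAut P)⁻¹ ((u : MulAut P)⁻¹ y)) : P) : Ω) * a⁻¹ := by
    intro y
    have e : ((⁅x, u⁆ : F.autGroup P) : MulAut P) =
        (x : MulAut P) * (u : MulAut P) * (x : MulAut P)⁻¹ * (u : MulAut P)⁻¹ := by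
      rw [commutatorElement_def]; rfl
    rw [e]
    show (((x : MulAut P) ((u : MulAut P) ((x : MulAut P)⁻¹ ((u : MulAut P)⁻¹ y))) : P) : Ω) = _
    rw [hxa]
  -- `a⁻¹` lies in the extender
  have haN : a⁻¹ ∈ extender S P φ := by
    apply Subgroup.subset_closure
    refine ⟨S.inv_mem ha, ?_, a⁻¹ * b, S.mul_mem (S.inv_mem ha) hb, ?_⟩
    · rw [Subgroup.mem_normalizer_iff]
      intro y
      constructor
      · intro hy
        have := hanorm ⟨y, hy⟩
        simpa using this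
      · intro hy
        have h1 := hxa ⟨a⁻¹ * y * a⁻¹⁻¹, hy⟩
        have h2 : a * (a⁻¹ * y * a⁻¹⁻¹) * a⁻¹ = y := by group
        have h3 : y = (((x : MulAut P) ⟨a⁻¹ * y * a⁻¹⁻¹, hy⟩ : P) : Ω) := by rw [h1]; exact h2.symm
        rw [h3]
        exact Subtype.property _
    · intro y hy
      -- `u (x⁻¹ y) = (a⁻¹ b) (u y) (a⁻¹ b)⁻¹`
      have h1 := hcomm ((u : MulAut P) y)
      rw [hzb, MulAut.inv_apply_self] at h1
      have h2 : (⟨a⁻¹ * (y : Ω) * a⁻¹⁻¹, hy⟩ : P) = (x : MulAut P)⁻¹ y := by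
        apply Subtype.ext
        rw [hxinv y]
        show a⁻¹ * (y : Ω) * a⁻¹⁻¹ = a⁻¹ * y * a
        group
      show (((u : MulAut P) ⟨a⁻¹ * (y : Ω) * a⁻¹⁻¹, hy⟩ : P) : Ω) =
        a⁻¹ * b * (((u : MulAut P) y : P) : Ω) * (a⁻¹ * b)⁻¹
      rw [h2]
      have h3 : (((u : MulAut P) ((x : MulAut P)⁻¹ y) : P) : Ω) =
          a⁻¹ * (b * (((u : MulAut P) y : P) : Ω) * b⁻¹) * a := by
        rw [h1]; group
      rw [h3]; group
  set w : Ω := ψ ⟨a⁻¹, haN⟩ with hw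
  have hPN : P ≤ extender S P φ := by
    intro y hy
    apply Subgroup.subset_closure
    refine ⟨hP hy, ?_, ((u : MulAut P) ⟨y, hy⟩ : P), hP (Subtype.property _), ?_⟩
    · rw [Subgroup.mem_normalizer_iff]
      intro z
      constructor
      · intro hz'
        exact P.mul_mem (P.mul_mem hy hz') (P.inv_mem hy)
      · intro hz'
        have : z = y⁻¹ * (y * z * y⁻¹) * y := by group
        rw [this]
        exact P.mul_mem (P.mul_mem (P.inv_mem hy) hz') hy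
    · intro z hz'
      show (((u : MulAut P) ⟨y * (z : Ω) * y⁻¹, hz'⟩ : P) : Ω) =
        (((u : MulAut P) ⟨y, hy⟩ : P) : Ω) * (((u : MulAut P) z : P) : Ω) *
          ((((u : MulAut P) ⟨y, hy⟩ : P) : Ω))⁻¹
      have e : (⟨y * (z : Ω) * y⁻¹, hz'⟩ : P) = ⟨y, hy⟩ * z * (⟨y, hy⟩ : P)⁻¹ := rfl
      rw [e, map_mul, map_mul, map_inv]
      rfl
  -- the commutator is conjugation by `a * w`
  have hfinal : ∀ y : P, ((((⁅x, u⁆ : F.autGroup P) : MulAut P) y : P) : Ω) =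
      (a * w) * y * (a * w)⁻¹ := by
    intro y
    rw [hcomm y]
    set y' : P := (u : MulAut P)⁻¹ y with hy'
    have h1 : (((x : MulAut P)⁻¹ y' : P) : Ω) = a⁻¹ * y' * a := hxinv y'
    have hmem : a⁻¹ * (y' : Ω) * a ∈ P := hanorm y'
    have h2 : (x : MulAut P)⁻¹ y' = ⟨a⁻¹ * (y' : Ω) * a, hmem⟩ := Subtype.ext h1
    rw [h2]
    have h3 : (((u : MulAut P) ⟨a⁻¹ * (y' : Ω) * a, hmem⟩ : P) : Ω) =
        ψ ⟨a⁻¹ * (y' : Ω) * a, hPN hmem⟩ := (hψφ _ hmem (hPN hmem)).symm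
    rw [h3]
    have h4 : (⟨a⁻¹ * (y' : Ω) * a, hPN hmem⟩ : extender S P φ) =
        ⟨a⁻¹, haN⟩ * ⟨(y' : Ω), hPN y'.2⟩ * (⟨a⁻¹, haN⟩ : extender S P φ)⁻¹ := by
      apply Subtype.ext
      show a⁻¹ * (y' : Ω) * a = a⁻¹ * (y' : Ω) * a⁻¹⁻¹
      group
    rw [h4, map_mul, map_mul, map_inv]
    have h5 : ψ ⟨(y' : Ω), hPN y'.2⟩ = (y : Ω) := by
      rw [hψφ _ y'.2 (hPN y'.2)]
      show (((u : MulAut P) ((u : MulAut P)⁻¹ y) : P) : Ω) = y
      simp
    rw [h5, ← hw]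
    group
  rw [Helper88.mem_autInducedBy_iff]
  refine ⟨a * w, hfoc ?_, hfinal⟩
  apply Subgroup.subset_closure
  refine ⟨extender S P φ, ψ, ⟨a⁻¹, haN⟩, hψ, ?_⟩
  show a * w = (a⁻¹)⁻¹ * ψ ⟨a⁻¹, haN⟩
  rw [inv_inv]

/-- if conjugation by `g ∈ S` on `P` lies in `O^p(Aut_F(P))` then `g ∈ T`. -/
theorem mem_of_conj_mem_residual [Finite S] (p : ℕ) [Fact p.Prime] (hS : IsPGroup p S)
    (F : FusionSystem S) (hF : F.IsSaturated p) {T : Subgroup Ω} (hTS : T ≤ S)
    (hab : ∀ a ∈ S, ∀ b ∈ S, a * b * a⁻¹ * b⁻¹ ∈ T) (hT : F.hyperfocalSubgroup p ≤ T)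
    {P : Subgroup Ω} (hfa : F.IsFullyAutomized p P) (hrec : F.IsReceptive P)
    (hc : centralizerIn S P ≤ T) {g : Ω} (hg : g ∈ S) (α : F.autGroup P)
    (hα : α ∈ pResidual p (F.autGroup P))
    (h : ∀ x : P, (((α : MulAut P) x : P) : Ω) = g * x * g⁻¹) : g ∈ T := by
  have hP : P ≤ S := hfa.1
  have hfoc := focal_le p hS F hF hab hT
  have hfin : Finite (F.autGroup P) := finite_autGroup F hP
  obtain ⟨-, R, hR⟩ := hfa
  have hαR : α ∈ (R : Subgroup (F.autGroup P)) := by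
    rw [hR, Subgroup.mem_subgroupOf, Helper88.mem_autInducedBy_iff]
    exact ⟨g, hg, h⟩
  have h1 : pResidual p (F.autGroup P) ≤ (R : Subgroup (F.autGroup P)).transferFocal.ker :=
    Helper2.pResidual_le_ker p _ (R.2.to_quotient _)
  have h2 : α ∈ (R : Subgroup (F.autGroup P)).focalSubgroup := by
    rw [← Subgroup.ker_transferFocal_inf_eq_focalSubgroup R]
    exact ⟨h1 hα, hαR⟩
  have key : ∀ z ∈ (R : Subgroup (F.autGroup P)).focalSubgroup,
      (z : MulAut P) ∈ autInducedBy T P := by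
    intro z hz
    rw [Subgroup.focalSubgroup_def] at hz
    induction hz using Subgroup.closure_induction with
    | mem z hz =>
      obtain ⟨hzR, x, hxR, u, rfl⟩ := hz
      rw [hR, Subgroup.mem_subgroupOf] at hzR hxR
      exact focal_gen F hP hrec hfoc x u hxR hzR
    | one => exact Subgroup.one_mem _
    | mul a b _ _ ha hb => exact Subgroup.mul_mem _ ha hb
    | inv a _ ha => exact Subgroup.inv_mem _ ha
  obtain ⟨t, ht, hαt⟩ := (Helper88.mem_autInducedBy_iff T P _).1 (key α h2)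
  have hcen : t⁻¹ * g ∈ centralizerIn S P := by
    refine ⟨S.mul_mem (S.inv_mem (hTS ht)) hg, ?_⟩
    show t⁻¹ * g ∈ Subgroup.centralizer (P : Set Ω)
    rw [Subgroup.mem_centralizer_iff]
    intro y hy
    have e1 := h ⟨y, hy⟩
    have e2 := hαt ⟨y, hy⟩
    rw [e1] at e2
    have e3 : g * y * g⁻¹ = t * y * t⁻¹ := e2
    calc y * (t⁻¹ * g) = t⁻¹ * (t * y * t⁻¹) * g := by group
      _ = t⁻¹ * (g * y * g⁻¹) * g := by rw [e3]
      _ = t⁻¹ * g * y := by group
  have := T.mul_mem ht (hc hcen)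
  have e : t * (t⁻¹ * g) = g := by group
  rwa [e] at this

end Cfsg.Agent.Lib.Helper84.PFocal
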