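import Mathlib
import Cfsg.Prelude.Def_FusionSystem
import Cfsg.Agent.Lib.Helper84.FusionApps
import Cfsg.Agent.Lib.Helper84.FusionRS

set_option autoImplicit false

/-!
# Finite `p`-groups with an abelian subgroup of index `p`

Pure group theory used for fusion systems over a nonabelian `p`-group `S` with an abelian subgroup
`A` of index `p`.  Everything is phrased for subgroups of an ambient group `Ω`.
-/

namespace Cfsg.Agent.Lib.Helper84
namespace IdxP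

open Cfsg Cfsg.FusionSystem
open scoped commutatorElement

variable {Ω : Type*} [Group Ω]

/-- the centre of `S`, as a subgroup of the ambient group -/
abbrev ZS (S : Subgroup Ω) : Subgroup Ω := S ⊓ Subgroup.centralizer (S : Set Ω)

theorem mem_ZS {S : Subgroup Ω} {z : Ω} : z ∈ ZS S ↔ z ∈ S ∧ ∀ s ∈ S, s * z = z * s := by
  rw [ZS, Subgroup.mem_inf, Subgroup.mem_centralizer_iff]
  rfl

/-- the second centre of `S`, as a subgroup of the ambient group -/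
abbrev Z2 (S : Subgroup Ω) : Subgroup Ω := (upperCentralSeries ↥S 2).map S.subtype

theorem mem_Z2 {S : Subgroup Ω} {y : Ω} :
    y ∈ Z2 S ↔ y ∈ S ∧ ∀ s ∈ S, y * s * y⁻¹ * s⁻¹ ∈ ZS S := by
  rw [Z2, Subgroup.mem_map]
  constructor
  · rintro ⟨w, hw, rfl⟩
    refine ⟨w.2, fun s hs => ?_⟩
    have h1 := (mem_upperCentralSeries_succ_iff (n := 1)).1 hw ⟨s, hs⟩
    rw [upperCentralSeries_one, Subgroup.mem_center_iff] at h1
    rw [mem_ZS]
    refine ⟨S.mul_mem (S.mul_mem (S.mul_mem w.2 hs) (S.inv_mem w.2)) (S.inv_mem hs), fun t ht => ?_⟩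
    exact congrArg Subtype.val (h1 ⟨t, ht⟩)
  · rintro ⟨hy, h⟩
    refine ⟨⟨y, hy⟩, (mem_upperCentralSeries_succ_iff (n := 1)).2 ?_, rfl⟩
    intro s
    rw [upperCentralSeries_one, Subgroup.mem_center_iff]
    intro t
    apply Subtype.ext
    exact (mem_ZS.1 (h s s.2)).2 t t.2

/-- standing hypotheses: `S` is a nonabelian finite `p`-group and `A` an abelian subgroup of
index `p`. -/
structure Data (p : ℕ) (S A : Subgroup Ω) : Prop where
  pgrp : IsPGroup p S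
  le : A ≤ S
  comm : ∀ a ∈ A, ∀ b ∈ A, a * b = b * a
  idx : A.relIndex S = p
  na : ∃ s ∈ S, ∃ t ∈ S, s * t ≠ t * s

section

variable {p : ℕ} [Fact p.Prime] {S A : Subgroup Ω} [Finite S]

theorem Data.normal (d : Data p S A) : (A.subgroupOf S).Normal := by
  have hp : p.Prime := Fact.out
  apply Subgroup.normal_of_index_eq_minFac_card
  obtain ⟨n, hn⟩ := IsPGroup.iff_card.1 d.pgrp
  have hidx : (A.subgroupOf S).index = p := d.idx
  rw [hidx, hn]
  have hn0 : n ≠ 0 := by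
    rintro rfl
    have h1 : (A.subgroupOf S).index ∣ Nat.card S := Subgroup.index_dvd_card _
    rw [hidx, hn, pow_zero] at h1
    exact hp.one_lt.ne' (Nat.dvd_one.1 h1)
  exact (hp.pow_minFac hn0).symm

theorem Data.conj_mem (d : Data p S A) {s a : Ω} (hs : s ∈ S) (ha : a ∈ A) : s * a * s⁻¹ ∈ A := by
  have h := d.normal.conj_mem ⟨a, d.le ha⟩ (Subgroup.mem_subgroupOf.2 ha) ⟨s, hs⟩
  exact Subgroup.mem_subgroupOf.1 h

theorem Data.conj_mem' (d : Data p S A) {s a : Ω} (hs : s ∈ S) (ha : a ∈ A) : s⁻¹ * a * s ∈ A := by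
  have h := d.conj_mem (S.inv_mem hs) ha
  rwa [inv_inv] at h

theorem Data.pow_p_mem (d : Data p S A) {x : Ω} (hx : x ∈ S) : x ^ p ∈ A := by
  have hnorm := d.normal
  have hcard : Nat.card (↥S ⧸ A.subgroupOf S) = p := d.idx
  have h1 : (QuotientGroup.mk (⟨x, hx⟩ : ↥S) : ↥S ⧸ A.subgroupOf S) ^ p = 1 := by
    rw [← hcard]
    exact pow_card_eq_one'
  rw [← QuotientGroup.mk_pow, QuotientGroup.eq_one_iff] at h1
  exact Subgroup.mem_subgroupOf.1 h1

theorem Data.exists_mul_pow (d : Data p S A) {x : Ω} (hx : x ∈ S) (hxA : x ∉ A) {s : Ω}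
    (hs : s ∈ S) : ∃ a ∈ A, ∃ i : ℕ, s = a * x ^ i := by
  have hnorm := d.normal
  have hcard : Nat.card (↥S ⧸ A.subgroupOf S) = p := d.idx
  have hxb : (QuotientGroup.mk (⟨x, hx⟩ : ↥S) : ↥S ⧸ A.subgroupOf S) ≠ 1 := by
    intro h
    rw [QuotientGroup.eq_one_iff] at h
    exact hxA (Subgroup.mem_subgroupOf.1 h)
  have htop := zpowers_eq_top_of_prime_card hcard hxb
  have hmem : (QuotientGroup.mk (⟨s, hs⟩ : ↥S) : ↥S ⧸ A.subgroupOf S) ∈
      Subgroup.zpowers (QuotientGroup.mk (⟨x, hx⟩ : ↥S) : ↥S ⧸ A.subgroupOf S) := by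
    rw [htop]
    exact Subgroup.mem_top _
  rw [← mem_powers_iff_mem_zpowers] at hmem
  obtain ⟨i, hi⟩ := hmem
  refine ⟨s * (x ^ i)⁻¹, ?_, i, by group⟩
  have h2 : (QuotientGroup.mk ((⟨s, hs⟩ : ↥S) * (⟨x, hx⟩ ^ i)⁻¹) : ↥S ⧸ A.subgroupOf S) = 1 := by
    rw [QuotientGroup.mk_mul, QuotientGroup.mk_inv, QuotientGroup.mk_pow]
    rw [← hi]
    exact mul_inv_cancel _
  rw [QuotientGroup.eq_one_iff] at h2
  exact Subgroup.mem_subgroupOf.1 h2

/-- the centre of `S` lies in `A`. -/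
theorem Data.Z_le (d : Data p S A) : ZS S ≤ A := by
  intro z hz
  by_contra hzA
  obtain ⟨hzS, hzc⟩ := mem_ZS.1 hz
  obtain ⟨s, hs, t, ht, hst⟩ := d.na
  obtain ⟨a, ha, i, rfl⟩ := d.exists_mul_pow hzS hzA hs
  obtain ⟨b, hb, j, rfl⟩ := d.exists_mul_pow hzS hzA ht
  apply hst
  have h1 : ∀ k : ℕ, ∀ g ∈ S, g * z ^ k = z ^ k * g := by
    intro k g hg
    exact ((Commute.pow_right (hzc g hg) k : Commute g (z ^ k))).eq
  have hab := d.comm a ha b hb
  calc a * z ^ i * (b * z ^ j) = a * (z ^ i * b) * z ^ j := by group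
    _ = a * (b * z ^ i) * z ^ j := by rw [h1 i b (d.le hb)]
    _ = (a * b) * (z ^ i * z ^ j) := by group
    _ = (b * a) * (z ^ j * z ^ i) := by rw [hab, ← pow_add, ← pow_add, add_comm]
    _ = b * (a * z ^ j) * z ^ i := by group
    _ = b * (z ^ j * a) * z ^ i := by rw [h1 j a (d.le ha)]
    _ = b * z ^ j * (a * z ^ i) := by group

/-- an element of `A` commuting with some `x ∈ S ∖ A` is central. -/
theorem Data.mem_Z_of_comm (d : Data p S A) {x : Ω} (hx : x ∈ S) (hxA : x ∉ A) {a : Ω}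
    (ha : a ∈ A) (h : a * x = x * a) : a ∈ ZS S := by
  rw [mem_ZS]
  refine ⟨d.le ha, fun s hs => ?_⟩
  obtain ⟨b, hb, i, rfl⟩ := d.exists_mul_pow hx hxA hs
  have h1 : a * x ^ i = x ^ i * a := (Commute.pow_right (show Commute a x from h) i).eq
  calc b * x ^ i * a = b * (x ^ i * a) := by group
    _ = b * (a * x ^ i) := by rw [h1]
    _ = (b * a) * x ^ i := by group
    _ = (a * b) * x ^ i := by rw [d.comm a ha b hb]
    _ = a * (b * x ^ i) := by group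

theorem Data.mem_Z_iff (d : Data p S A) {x : Ω} (hx : x ∈ S) (hxA : x ∉ A) {a : Ω}
    (ha : a ∈ A) : a ∈ ZS S ↔ a * x = x * a :=
  ⟨fun h => ((mem_ZS.1 h).2 x hx).symm, d.mem_Z_of_comm hx hxA ha⟩

theorem Data.pow_p_mem_Z (d : Data p S A) {x : Ω} (hx : x ∈ S) (hxA : x ∉ A) : x ^ p ∈ ZS S :=
  d.mem_Z_of_comm hx hxA (d.pow_p_mem hx) ((Commute.pow_left (Commute.refl x) p).eq)


/-! ### The commutator map `a ↦ y⁻¹ a y a⁻¹` -/

/-- `κ(y, a) = y⁻¹ a y a⁻¹`, i.e. `y⁻¹ · c_a(y)`. -/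
def kap (y a : Ω) : Ω := y⁻¹ * a * y * a⁻¹

theorem kap_eq_one_iff {y a : Ω} : kap y a = 1 ↔ a * y = y * a := by
  unfold kap
  constructor
  · intro h
    calc a * y = y * (y⁻¹ * a * y * a⁻¹) * a := by group
      _ = y * a := by rw [h, mul_one]
  · intro h
    calc y⁻¹ * a * y * a⁻¹ = y⁻¹ * (a * y) * a⁻¹ := by group
      _ = 1 := by rw [h]; group

theorem kap_mul_left (y y' a : Ω) : kap (y * y') a = y'⁻¹ * kap y a * y' * kap y' a := by
  unfold kap
  group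

theorem kap_one_left (a : Ω) : kap 1 a = 1 := by
  unfold kap
  group

theorem Data.kap_mem (d : Data p S A) {y a : Ω} (hy : y ∈ S) (ha : a ∈ A) : kap y a ∈ A :=
  A.mul_mem (d.conj_mem' hy ha) (A.inv_mem ha)

theorem Data.kap_mul (d : Data p S A) {y a b : Ω} (hy : y ∈ S) (ha : a ∈ A) (hb : b ∈ A) :
    kap y (a * b) = kap y a * kap y b := by
  have hc := d.comm _ (d.kap_mem hy hb) _ (A.inv_mem ha)
  calc kap y (a * b) = (y⁻¹ * a * y) * (kap y b * a⁻¹) := by unfold kap; group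
    _ = (y⁻¹ * a * y) * (a⁻¹ * kap y b) := by rw [hc]
    _ = kap y a * kap y b := by unfold kap; group

/-- `a ↦ x⁻¹ a x a⁻¹` as an endomorphism of `A`. -/
def Data.theta (d : Data p S A) {x : Ω} (hx : x ∈ S) : ↥A →* ↥A where
  toFun a := ⟨kap x a, d.kap_mem hx a.2⟩
  map_one' := by
    apply Subtype.ext
    show kap x 1 = 1
    unfold kap
    group
  map_mul' a b := Subtype.ext (d.kap_mul hx a.2 b.2)

theorem Data.theta_apply (d : Data p S A) {x : Ω} (hx : x ∈ S) (a : ↥A) :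
    ((d.theta hx a : ↥A) : Ω) = kap x a := rfl

theorem Data.theta_ker (d : Data p S A) {x : Ω} (hx : x ∈ S) (hxA : x ∉ A) :
    (d.theta hx).ker = (ZS S).subgroupOf A := by
  ext a
  rw [MonoidHom.mem_ker, Subgroup.mem_subgroupOf, d.mem_Z_iff hx hxA a.2, ← kap_eq_one_iff]
  constructor
  · intro h
    exact congrArg Subtype.val h
  · intro h
    exact Subtype.ext h

/-- if `κ(x, a)` commutes with `x` then `κ(x^i, a) = κ(x, a)^i`. -/
theorem kap_pow_left {x a : Ω} (h : kap x a * x = x * kap x a) (i : ℕ) :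
    kap (x ^ i) a = kap x a ^ i := by
  induction i with
  | zero => rw [pow_zero, pow_zero, kap_one_left]
  | succ i ih =>
    rw [pow_succ, kap_mul_left, ih, pow_succ]
    have h1 : kap x a ^ i * x = x * kap x a ^ i := (Commute.pow_left (show Commute _ _ from h) i).eq
    calc x⁻¹ * kap x a ^ i * x * kap x a = x⁻¹ * (kap x a ^ i * x) * kap x a := by group
      _ = x⁻¹ * (x * kap x a ^ i) * kap x a := by rw [h1]
      _ = kap x a ^ i * kap x a := by group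

/-- membership of an element of `A` in the second centre, tested on one element outside `A`. -/
theorem Data.mem_Z2_iff (d : Data p S A) {x : Ω} (hx : x ∈ S) (hxA : x ∉ A) {a : Ω}
    (ha : a ∈ A) : a ∈ Z2 S ↔ kap x a ∈ ZS S := by
  constructor
  · intro h
    have h1 := (mem_Z2.1 h).2 x⁻¹ (S.inv_mem hx)
    have h2 : kap x a = (a * x⁻¹ * a⁻¹ * x⁻¹⁻¹)⁻¹ := by unfold kap; group
    rw [h2]
    exact (ZS S).inv_mem h1
  · intro h
    rw [mem_Z2]
    refine ⟨d.le ha, fun s hs => ?_⟩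
    obtain ⟨b, hb, i, rfl⟩ := d.exists_mul_pow hx hxA hs
    obtain ⟨hzS, hzc⟩ := mem_ZS.1 h
    have h1 := kap_pow_left (hzc x hx).symm i
    have hab := d.comm a ha b hb
    have h2 : a * (b * x ^ i) * a⁻¹ * (b * x ^ i)⁻¹ = b * (x ^ i * kap (x ^ i) a * (x ^ i)⁻¹) * b⁻¹ := by
      calc a * (b * x ^ i) * a⁻¹ * (b * x ^ i)⁻¹ = (a * b) * x ^ i * a⁻¹ * (x ^ i)⁻¹ * b⁻¹ := by group
        _ = (b * a) * x ^ i * a⁻¹ * (x ^ i)⁻¹ * b⁻¹ := by rw [hab]
        _ = b * (x ^ i * kap (x ^ i) a * (x ^ i)⁻¹) * b⁻¹ := by unfold kap; group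
    rw [h2, h1]
    have hzi : kap x a ^ i ∈ ZS S := (ZS S).pow_mem h i
    obtain ⟨hziS, hzic⟩ := mem_ZS.1 hzi
    have h3 : x ^ i * kap x a ^ i * (x ^ i)⁻¹ = kap x a ^ i := by
      rw [hzic (x ^ i) (S.pow_mem hx i)]
      group
    rw [h3]
    have h4 : b * kap x a ^ i * b⁻¹ = kap x a ^ i := by
      rw [hzic b (d.le hb)]
      group
    rw [h4]
    exact hzi

/-! ### The derived subgroup -/

/-- the derived subgroup of `S`, as a subgroup of the ambient group -/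
abbrev Sd (S : Subgroup Ω) : Subgroup Ω := (commutator ↥S).map S.subtype

theorem comm_mem_Sd {S : Subgroup Ω} {s t : Ω} (hs : s ∈ S) (ht : t ∈ S) :
    s * t * s⁻¹ * t⁻¹ ∈ Sd S := by
  refine ⟨⁅(⟨s, hs⟩ : ↥S), ⟨t, ht⟩⁆, ?_, rfl⟩
  rw [commutator_def]
  exact Subgroup.commutator_mem_commutator (Subgroup.mem_top _) (Subgroup.mem_top _)

theorem Data.kap_mem_Sd (d : Data p S A) {x a : Ω} (hx : x ∈ S) (ha : a ∈ A) : kap x a ∈ Sd S := by
  have h := comm_mem_Sd (S.inv_mem hx) (d.le ha)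
  rw [inv_inv] at h
  exact h

/-- the image of `θ`, as a subgroup of the ambient group -/
def Data.thetaRange (d : Data p S A) {x : Ω} (hx : x ∈ S) : Subgroup Ω :=
  (d.theta hx).range.map A.subtype

theorem Data.mem_thetaRange (d : Data p S A) {x : Ω} (hx : x ∈ S) {g : Ω} :
    g ∈ d.thetaRange hx ↔ ∃ a ∈ A, kap x a = g := by
  unfold Data.thetaRange
  rw [Subgroup.mem_map]
  constructor
  · rintro ⟨w, ⟨a, rfl⟩, rfl⟩
    exact ⟨a, a.2, rfl⟩
  · rintro ⟨a, ha, rfl⟩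
    exact ⟨d.theta hx ⟨a, ha⟩, ⟨⟨a, ha⟩, rfl⟩, rfl⟩

theorem Data.thetaRange_le (d : Data p S A) {x : Ω} (hx : x ∈ S) : d.thetaRange hx ≤ A :=
  Subgroup.map_subtype_le _

theorem Data.thetaRange_conj (d : Data p S A) {x : Ω} (hx : x ∈ S) (hxA : x ∉ A) {g s : Ω}
    (hg : g ∈ d.thetaRange hx) (hs : s ∈ S) : s * g * s⁻¹ ∈ d.thetaRange hx := by
  obtain ⟨a, ha, rfl⟩ := (d.mem_thetaRange hx).1 hg
  obtain ⟨b, hb, i, rfl⟩ := d.exists_mul_pow hx hxA hs
  have h1 : ∀ i : ℕ, ∃ a' ∈ A, x ^ i * kap x a * (x ^ i)⁻¹ = kap x a' := by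
    intro i
    induction i with
    | zero => exact ⟨a, ha, by group⟩
    | succ i ih =>
      obtain ⟨a', ha', h⟩ := ih
      refine ⟨x * a' * x⁻¹, d.conj_mem hx ha', ?_⟩
      calc x ^ (i + 1) * kap x a * (x ^ (i + 1))⁻¹ = x * (x ^ i * kap x a * (x ^ i)⁻¹) * x⁻¹ := by
            rw [pow_succ']; group
        _ = x * kap x a' * x⁻¹ := by rw [h]
        _ = kap x (x * a' * x⁻¹) := by unfold kap; group
  obtain ⟨a', ha', h⟩ := h1 i
  rw [d.mem_thetaRange hx]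
  refine ⟨a', ha', ?_⟩
  have h2 := d.comm b hb _ (d.kap_mem hx ha')
  calc kap x a' = b * kap x a' * b⁻¹ := by rw [h2]; group
    _ = b * (x ^ i * kap x a * (x ^ i)⁻¹) * b⁻¹ := by rw [h]
    _ = b * x ^ i * kap x a * (b * x ^ i)⁻¹ := by group

theorem Data.kap_pow_mem_thetaRange (d : Data p S A) {x : Ω} (hx : x ∈ S) (hxA : x ∉ A) {a : Ω}
    (ha : a ∈ A) (i : ℕ) : kap (x ^ i) a ∈ d.thetaRange hx := by
  induction i with
  | zero =>
    rw [pow_zero, kap_one_left]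
    exact Subgroup.one_mem _
  | succ i ih =>
    rw [pow_succ, kap_mul_left]
    have h1 := d.thetaRange_conj hx hxA ih (S.inv_mem hx)
    rw [inv_inv] at h1
    exact Subgroup.mul_mem _ h1 ((d.mem_thetaRange hx).2 ⟨a, ha, rfl⟩)

/-- the derived subgroup is the image of `θ`. -/
theorem Data.Sd_eq (d : Data p S A) {x : Ω} (hx : x ∈ S) (hxA : x ∉ A) :
    Sd S = d.thetaRange hx := by
  apply le_antisymm
  · have h1 : commutator ↥S ≤ (d.thetaRange hx).subgroupOf S := by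
      rw [commutator_def, Subgroup.commutator_le]
      intro s _ t _
      rw [Subgroup.mem_subgroupOf]
      show (s : Ω) * t * (s : Ω)⁻¹ * (t : Ω)⁻¹ ∈ _
      obtain ⟨a, ha, i, hs⟩ := d.exists_mul_pow hx hxA s.2
      obtain ⟨b, hb, j, ht⟩ := d.exists_mul_pow hx hxA t.2
      rw [hs, ht]
      have e1 : a * x ^ i * (b * x ^ j) * (a * x ^ i)⁻¹ * (b * x ^ j)⁻¹ =
          a * (x ^ i * b * (x ^ i)⁻¹) * (x ^ j * a⁻¹ * (x ^ j)⁻¹) * b⁻¹ := by
        have hc : x ^ i * x ^ j = x ^ j * x ^ i := by rw [← pow_add, ← pow_add, add_comm]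
        calc a * x ^ i * (b * x ^ j) * (a * x ^ i)⁻¹ * (b * x ^ j)⁻¹
            = a * (x ^ i * b * (x ^ i)⁻¹) * (x ^ i * x ^ j) * (x ^ i)⁻¹ * a⁻¹ * (x ^ j)⁻¹ * b⁻¹ := by
              group
          _ = a * (x ^ i * b * (x ^ i)⁻¹) * (x ^ j * x ^ i) * (x ^ i)⁻¹ * a⁻¹ * (x ^ j)⁻¹ * b⁻¹ := by
              rw [hc]
          _ = a * (x ^ i * b * (x ^ i)⁻¹) * (x ^ j * a⁻¹ * (x ^ j)⁻¹) * b⁻¹ := by group
      have hb1 : x ^ i * b * (x ^ i)⁻¹ ∈ A := d.conj_mem (S.pow_mem hx i) hb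
      have ha1 : x ^ j * a⁻¹ * (x ^ j)⁻¹ ∈ A := d.conj_mem (S.pow_mem hx j) (A.inv_mem ha)
      have hc1 := d.comm _ hb1 _ ha1
      have e2 : a * (x ^ i * b * (x ^ i)⁻¹) * (x ^ j * a⁻¹ * (x ^ j)⁻¹) * b⁻¹ =
          (x ^ j * kap (x ^ j) a * (x ^ j)⁻¹) * (x ^ i * kap (x ^ i) b * (x ^ i)⁻¹)⁻¹ := by
        calc a * (x ^ i * b * (x ^ i)⁻¹) * (x ^ j * a⁻¹ * (x ^ j)⁻¹) * b⁻¹
            = a * ((x ^ i * b * (x ^ i)⁻¹) * (x ^ j * a⁻¹ * (x ^ j)⁻¹)) * b⁻¹ := by group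
          _ = a * ((x ^ j * a⁻¹ * (x ^ j)⁻¹) * (x ^ i * b * (x ^ i)⁻¹)) * b⁻¹ := by rw [hc1]
          _ = (x ^ j * kap (x ^ j) a * (x ^ j)⁻¹) * (x ^ i * kap (x ^ i) b * (x ^ i)⁻¹)⁻¹ := by
              unfold kap; group
      rw [e1, e2]
      exact Subgroup.mul_mem _
        (d.thetaRange_conj hx hxA (d.kap_pow_mem_thetaRange hx hxA ha j) (S.pow_mem hx j))
        (Subgroup.inv_mem _
          (d.thetaRange_conj hx hxA (d.kap_pow_mem_thetaRange hx hxA hb i) (S.pow_mem hx i)))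
    intro g hg
    obtain ⟨w, hw, rfl⟩ := hg
    exact Subgroup.mem_subgroupOf.1 (h1 hw)
  · intro g hg
    obtain ⟨a, ha, rfl⟩ := (d.mem_thetaRange hx).1 hg
    exact d.kap_mem_Sd hx ha


end

/-! ### The kernel chain of an endomorphism -/

/-- `Kc θ i` is the kernel of the `i`-th iterate of `θ`. -/
def Kc {G : Type*} [Group G] (θ : G →* G) : ℕ → Subgroup G
  | 0 => ⊥
  | i + 1 => (Kc θ i).comap θ

theorem Kc_one {G : Type*} [Group G] (θ : G →* G) : Kc θ 1 = θ.ker := MonoidHom.comap_bot θ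

theorem mem_Kc_succ {G : Type*} [Group G] (θ : G →* G) (i : ℕ) (a : G) :
    a ∈ Kc θ (i + 1) ↔ θ a ∈ Kc θ i := Iff.rfl

theorem Kc_mono {G : Type*} [Group G] (θ : G →* G) (i : ℕ) : Kc θ i ≤ Kc θ (i + 1) := by
  induction i with
  | zero => exact bot_le
  | succ i ih => exact Subgroup.comap_mono ih

theorem mem_Kc_iff {G : Type*} [Group G] (θ : G →* G) (i : ℕ) (a : G) :
    a ∈ Kc θ i ↔ θ^[i] a = 1 := by
  induction i generalizing a with
  | zero => rw [Function.iterate_zero, id, Kc, Subgroup.mem_bot]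
  | succ i ih => rw [mem_Kc_succ, ih, Function.iterate_succ_apply]

theorem card_mul_relIndex {G : Type*} [Group G] {H K : Subgroup G} (h : H ≤ K) :
    Nat.card H * H.relIndex K = Nat.card K := by
  have h1 := Subgroup.relIndex_mul_relIndex ⊥ H K bot_le h
  rwa [Subgroup.relIndex_bot_left, Subgroup.relIndex_bot_left] at h1

theorem relIndex_Kc_le {G : Type*} [Group G] [Finite G] (θ : G →* G) (i : ℕ) :
    (Kc θ (i + 1)).relIndex (Kc θ (i + 2)) ≤ (Kc θ i).relIndex (Kc θ (i + 1)) := by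
  have h1 : (Kc θ (i + 1)).relIndex (Kc θ (i + 2)) = (Kc θ i).relIndex ((Kc θ (i + 2)).map θ) :=
    Subgroup.relIndex_comap (Kc θ i) θ (Kc θ (i + 2))
  rw [h1]
  have h2 : (Kc θ (i + 2)).map θ ≤ Kc θ (i + 1) := Subgroup.map_comap_le θ (Kc θ (i + 1))
  refine Subgroup.relIndex_le_of_le_right h2 ?_
  intro h0
  have h3 := card_mul_relIndex (Kc_mono θ i)
  rw [h0, mul_zero] at h3
  exact Nat.card_pos.ne h3

theorem relIndex_Kc_le_of_le {G : Type*} [Group G] [Finite G] (θ : G →* G) {n : ℕ}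
    (h : (Kc θ 1).relIndex (Kc θ 2) ≤ n) (i : ℕ) :
    (Kc θ (i + 1)).relIndex (Kc θ (i + 2)) ≤ n := by
  induction i with
  | zero => exact h
  | succ i ih => exact (relIndex_Kc_le θ (i + 1)).trans ih

theorem card_Kc_le {G : Type*} [Group G] [Finite G] (θ : G →* G) {n : ℕ}
    (h : (Kc θ 1).relIndex (Kc θ 2) ≤ n) (i : ℕ) :
    Nat.card (Kc θ (i + 1)) ≤ n ^ i * Nat.card (Kc θ 1) := by
  induction i with
  | zero => rw [pow_zero, one_mul]
  | succ i ih =>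
    rw [← card_mul_relIndex (Kc_mono θ (i + 1))]
    calc Nat.card (Kc θ (i + 1)) * (Kc θ (i + 1)).relIndex (Kc θ (i + 1 + 1))
        ≤ (n ^ i * Nat.card (Kc θ 1)) * n := Nat.mul_le_mul ih (relIndex_Kc_le_of_le θ h i)
      _ = n ^ (i + 1) * Nat.card (Kc θ 1) := by ring

/-- `[K₂ : K₁] = |im θ ∩ ker θ|`. -/
theorem relIndex_Kc_one_two {G : Type*} [Group G] (θ : G →* G) :
    (Kc θ 1).relIndex (Kc θ 2) = Nat.card ↥(θ.range ⊓ Kc θ 1) := by
  have h1 : (Kc θ 1).relIndex (Kc θ 2) = (⊥ : Subgroup G).relIndex ((Kc θ 2).map θ) :=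
    Subgroup.relIndex_comap ⊥ θ (Kc θ 2)
  rw [h1, Subgroup.relIndex_bot_left]
  have h2 : (Kc θ 2).map θ = θ.range ⊓ Kc θ 1 := Subgroup.map_comap_eq θ (Kc θ 1)
  rw [h2]

section

variable {p : ℕ} [Fact p.Prime] {S A : Subgroup Ω} [Finite S]

theorem Data.Kc_one (d : Data p S A) {x : Ω} (hx : x ∈ S) (hxA : x ∉ A) :
    Kc (d.theta hx) 1 = (ZS S).subgroupOf A := by
  rw [IdxP.Kc_one, d.theta_ker hx hxA]

theorem Data.Kc_two (d : Data p S A) {x : Ω} (hx : x ∈ S) (hxA : x ∉ A) :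
    Kc (d.theta hx) 2 = (Z2 S).subgroupOf A := by
  ext a
  rw [mem_Kc_succ, d.Kc_one hx hxA, Subgroup.mem_subgroupOf, Subgroup.mem_subgroupOf,
    d.mem_Z2_iff hx hxA a.2]
  rfl

theorem Data.range_theta (d : Data p S A) {x : Ω} (hx : x ∈ S) (hxA : x ∉ A) :
    (d.theta hx).range = (Sd S).subgroupOf A := by
  ext a
  rw [Subgroup.mem_subgroupOf, d.Sd_eq hx hxA, d.mem_thetaRange hx]
  constructor
  · rintro ⟨b, rfl⟩
    exact ⟨b, b.2, rfl⟩
  · rintro ⟨b, hb, h⟩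
    exact ⟨⟨b, hb⟩, Subtype.ext h⟩

theorem Data.Sd_le (d : Data p S A) : Sd S ≤ A := by
  obtain ⟨s, hs, t, ht, hst⟩ := d.na
  by_cases hsA : s ∈ A
  · by_cases htA : t ∈ A
    · exact absurd (d.comm s hsA t htA) hst
    · rw [d.Sd_eq ht htA]
      exact d.thetaRange_le ht
  · rw [d.Sd_eq hs hsA]
    exact d.thetaRange_le hs

theorem Data.exists_not_mem (d : Data p S A) : ∃ x ∈ S, x ∉ A := by
  obtain ⟨s, hs, t, ht, hst⟩ := d.na
  by_cases hsA : s ∈ A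
  · by_cases htA : t ∈ A
    · exact absurd (d.comm s hsA t htA) hst
    · exact ⟨t, ht, htA⟩
  · exact ⟨s, hs, hsA⟩

/-- iterates of `θ` land in the lower central series. -/
theorem Data.iterate_mem_lcs (d : Data p S A) {x : Ω} (hx : x ∈ S) (k : ℕ) (a : ↥A) :
    ((((d.theta hx)^[k]) a : ↥A) : Ω) ∈ S.lowerCentralSeries k := by
  induction k with
  | zero => exact d.le a.2
  | succ k ih =>
    rw [Function.iterate_succ_apply', d.theta_apply, Subgroup.lowerCentralSeries_succ]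
    have h1 := Subgroup.commutator_mem_commutator ih (S.inv_mem hx)
    have h2 := Subgroup.inv_mem _ h1
    have h3 : kap x (((d.theta hx)^[k]) a : ↥A) = ⁅((((d.theta hx)^[k]) a : ↥A) : Ω), x⁻¹⁆⁻¹ := by
      rw [commutatorElement_def]
      unfold kap
      group
    rw [h3]
    exact h2

end

end IdxP
end Cfsg.Agent.Lib.Helper84
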