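import Mathlib
import Cfsg.Prelude.Def_FusionSystem
import Cfsg.Agent.Lib.Helper84.IdxP1
import Cfsg.Agent.Lib.Helper84.StronglyEmb
import Cfsg.Agent.Lib.Helper84.FusionSat2

set_option autoImplicit false

/-!
# Chain stabilizers and "far" conjugates in a group with a strongly `p`-embedded subgroup
-/

namespace Cfsg.Agent.Lib.Helper84
namespace IdxP

open Cfsg Cfsg.FusionSystem

/-! ### Stabilizers of a chain `1 ≤ C ≤ E ≤ P` -/

section stab

variable {P : Type*} [Group P]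

/-- automorphisms acting trivially on `C`, on `E / C` and on `P / E`. -/
def stab3 (C E : Subgroup P) (h : C ≤ E) : Subgroup (MulAut P) where
  carrier := {α | (∀ y ∈ C, α y = y) ∧ (∀ y ∈ E, y⁻¹ * α y ∈ C) ∧ ∀ y, y⁻¹ * α y ∈ E}
  one_mem' := by
    refine ⟨fun y _ => rfl, fun y _ => ?_, fun y => ?_⟩
    · rw [MulAut.one_apply, inv_mul_cancel]
      exact C.one_mem
    · rw [MulAut.one_apply, inv_mul_cancel]
      exact E.one_mem
  mul_mem' := by
    rintro a b ⟨a1, a2, a3⟩ ⟨b1, b2, b3⟩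
    have e : ∀ y, y⁻¹ * (a * b) y = y⁻¹ * b y * ((b y)⁻¹ * a (b y)) := by
      intro y
      rw [MulAut.mul_apply]
      group
    refine ⟨fun y hy => ?_, fun y hy => ?_, fun y => ?_⟩
    · rw [MulAut.mul_apply, b1 y hy, a1 y hy]
    · rw [e]
      have hby : b y ∈ E := by
        have h1 := E.mul_mem hy (h (b2 y hy))
        rwa [mul_inv_cancel_left] at h1
      exact C.mul_mem (b2 y hy) (a2 _ hby)
    · rw [e]
      exact E.mul_mem (b3 y) (a3 _)
  inv_mem' := by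
    rintro a ⟨a1, a2, a3⟩
    have e : ∀ y, y⁻¹ * a⁻¹ y = ((a⁻¹ y)⁻¹ * a (a⁻¹ y))⁻¹ := by
      intro y
      rw [MulAut.apply_inv_self]
      group
    refine ⟨fun y hy => ?_, fun y hy => ?_, fun y => ?_⟩
    · have h1 := a1 y hy
      calc a⁻¹ y = a⁻¹ (a y) := by rw [h1]
        _ = y := MulAut.inv_apply_self _ _ _
    · have hw : a⁻¹ y ∈ E := by
        have h1 := a3 (a⁻¹ y)
        rw [MulAut.apply_inv_self] at h1
        have h2 := E.mul_mem hy (E.inv_mem h1)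
        have h3 : y * ((a⁻¹ y)⁻¹ * y)⁻¹ = a⁻¹ y := by group
        rwa [h3] at h2
      rw [e]
      exact C.inv_mem (a2 _ hw)
    · rw [e]
      exact E.inv_mem (a3 _)

theorem mem_stab3 {C E : Subgroup P} (h : C ≤ E) (α : MulAut P) :
    α ∈ stab3 C E h ↔ (∀ y ∈ C, α y = y) ∧ (∀ y ∈ E, y⁻¹ * α y ∈ C) ∧ ∀ y, y⁻¹ * α y ∈ E :=
  Iff.rfl

theorem pow_apply_of_fixed {β : MulAut P} {y : P} (h : β (y⁻¹ * β y) = y⁻¹ * β y) (n : ℕ) :
    (β ^ n) y = y * (y⁻¹ * β y) ^ n := by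
  induction n with
  | zero => simp
  | succ n ih =>
    calc (β ^ (n + 1)) y = β ((β ^ n) y) := by rw [pow_succ', MulAut.mul_apply]
      _ = β y * (y⁻¹ * β y) ^ n := by rw [ih, map_mul, map_pow, h]
      _ = y * (y⁻¹ * β y) ^ (n + 1) := by rw [pow_succ', ← mul_assoc, mul_inv_cancel_left]

theorem stab3_pow_card [Finite P] {C E : Subgroup P} (h : C ≤ E) {α : MulAut P}
    (hα : α ∈ stab3 C E h) : α ^ (Nat.card P * Nat.card P) = 1 := by
  obtain ⟨a1, a2, a3⟩ := hα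
  have hA : ∀ y ∈ E, (α ^ Nat.card P) y = y := by
    intro y hy
    rw [pow_apply_of_fixed (a1 _ (a2 y hy)), pow_card_eq_one', mul_one]
  have hα' : α ∈ stab3 C E h := ⟨a1, a2, a3⟩
  have hβ : α ^ Nat.card P ∈ stab3 C E h := Subgroup.pow_mem _ hα' _
  rw [pow_mul]
  ext y
  rw [pow_apply_of_fixed (hA _ (hβ.2.2 y)), pow_card_eq_one', mul_one]
  rfl

theorem isPGroup_stab3 [Finite P] {p : ℕ} [Fact p.Prime] (hP : IsPGroup p P) {C E : Subgroup P}
    (h : C ≤ E) : IsPGroup p (stab3 C E h) := by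
  obtain ⟨n, hn⟩ := IsPGroup.iff_card.1 hP
  intro β
  refine ⟨n + n, ?_⟩
  apply Subtype.ext
  have h1 := stab3_pow_card h β.2
  rw [hn, ← pow_add] at h1
  simpa using h1

theorem stab3_conj {C E C' E' : Subgroup P} (h : C ≤ E) (h' : C' ≤ E') {φ β : MulAut P}
    (hC : ∀ y, y ∈ C' ↔ φ⁻¹ y ∈ C) (hE : ∀ y, y ∈ E' ↔ φ⁻¹ y ∈ E) (hβ : β ∈ stab3 C E h) :
    φ * β * φ⁻¹ ∈ stab3 C' E' h' := by
  obtain ⟨b1, b2, b3⟩ := hβ
  have e : ∀ y, φ⁻¹ (y⁻¹ * (φ * β * φ⁻¹) y) = (φ⁻¹ y)⁻¹ * β (φ⁻¹ y) := by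
    intro y
    rw [MulAut.mul_apply, MulAut.mul_apply, map_mul, map_inv, MulAut.inv_apply_self]
  refine ⟨fun y hy => ?_, fun y hy => ?_, fun y => ?_⟩
  · rw [MulAut.mul_apply, MulAut.mul_apply, b1 _ ((hC y).1 hy), MulAut.apply_inv_self]
  · rw [hC, e]
    exact b2 _ ((hE y).1 hy)
  · rw [hE, e]
    exact b3 _

end stab

/-! ### Far conjugates -/

theorem exists_far {X : Type*} [Group X] [Finite X] {p : ℕ} [Fact p.Prime] (I : Subgroup X)
    [I.Normal] (R : Sylow p X) (E : Subgroup (X ⧸ I)) (hE : IsStronglyPEmbedded p E) :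
    (∃ τ ∈ (R : Subgroup X), τ ∉ I) ∧ ∃ Γ : Subgroup X, Γ ≠ ⊤ ∧ ∀ φ : X, φ ∉ Γ →
      ∀ τ ∈ (R : Subgroup X), τ ∉ I → ∀ τ' ∈ (R : Subgroup X), τ' ∉ I →
      ∀ B : Subgroup X, IsPGroup p B → τ ∈ B → φ * τ' * φ⁻¹ ∈ B → False := by
  have hsurj : Function.Surjective (QuotientGroup.mk' I) := QuotientGroup.mk'_surjective I
  let T : Sylow p (X ⧸ I) := R.mapSurjective hsurj
  have hT : (T : Subgroup (X ⧸ I)) = (R : Subgroup X).map (QuotientGroup.mk' I) := rfl
  have hmemT : ∀ τ ∈ (R : Subgroup X), (QuotientGroup.mk' I τ) ∈ (T : Subgroup (X ⧸ I)) := by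
    intro τ hτ
    rw [hT]
    exact Subgroup.mem_map_of_mem _ hτ
  have hne1 : ∀ τ : X, τ ∉ I → QuotientGroup.mk' I τ ≠ 1 := by
    intro τ hτ h
    rw [QuotientGroup.mk'_apply, QuotientGroup.eq_one_iff] at h
    exact hτ h
  refine ⟨?_, (kGeneratedCore p 1 (T : Subgroup (X ⧸ I))).comap (QuotientGroup.mk' I), ?_, ?_⟩
  · by_contra hcon
    push_neg at hcon
    have hTbot : (T : Subgroup (X ⧸ I)) = ⊥ := by
      rw [hT, eq_bot_iff]
      rintro _ ⟨τ, hτ, rfl⟩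
      rw [Subgroup.mem_bot, QuotientGroup.mk'_apply, QuotientGroup.eq_one_iff]
      exact hcon τ hτ
    exact T.ne_bot_of_dvd_card hE.1 hTbot
  · intro h
    apply kGeneratedCore_ne_top_of_stronglyPEmbedded T hE
    rw [eq_top_iff]
    intro y _
    obtain ⟨x, rfl⟩ := hsurj y
    have : x ∈ (kGeneratedCore p 1 (T : Subgroup (X ⧸ I))).comap (QuotientGroup.mk' I) := by
      rw [h]; exact Subgroup.mem_top _
    exact this
  · intro φ hφ τ hτ hτI τ' hτ' hτ'I B hB hτB hφB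
    apply hφ
    have hBp : IsPGroup p (B.map (QuotientGroup.mk' I)) := hB.map _
    obtain ⟨g, hg⟩ := exists_conj_le_sylow T hBp
    have h1 := hg _ (Subgroup.mem_map_of_mem (QuotientGroup.mk' I) hτB)
    have h2 := hg _ (Subgroup.mem_map_of_mem (QuotientGroup.mk' I) hφB)
    have hg1 : g ∈ kGeneratedCore p 1 (T : Subgroup (X ⧸ I)) :=
      mem_kGeneratedCore_of_conj_mem T (hmemT τ hτ) (hne1 τ hτI) h1
    have h3 : (g * QuotientGroup.mk' I φ) * QuotientGroup.mk' I τ' * (g * QuotientGroup.mk' I φ)⁻¹ ∈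
        (T : Subgroup (X ⧸ I)) := by
      have e : (g * QuotientGroup.mk' I φ) * QuotientGroup.mk' I τ' * (g * QuotientGroup.mk' I φ)⁻¹ =
          g * QuotientGroup.mk' I (φ * τ' * φ⁻¹) * g⁻¹ := by
        rw [map_mul, map_mul, map_inv]
        group
      rw [e]
      exact h2
    have hg2 : g * QuotientGroup.mk' I φ ∈ kGeneratedCore p 1 (T : Subgroup (X ⧸ I)) :=
      mem_kGeneratedCore_of_conj_mem T (hmemT τ' hτ') (hne1 τ' hτ'I) h3
    have h4 := Subgroup.mul_mem _ (Subgroup.inv_mem _ hg1) hg2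
    rw [inv_mul_cancel_left] at h4
    exact h4

variable {Ω : Type*} [Group Ω] {S : Subgroup Ω}

/-- for an essential subgroup `P` there is a proper subgroup `Γ` of `Aut_F(P)` such that for
`φ ∉ Γ` no `p`-subgroup of `Aut(P)` contains both `c_g` and `φ c_{g'} φ⁻¹`
(`g, g' ∈ N_S(P) ∖ P`). -/
theorem essential_far [Finite S] (p : ℕ) [Fact p.Prime] (hS : IsPGroup p S) (F : FusionSystem S)
    (hF : F.IsSaturated p) {P : Subgroup Ω} (hP : F.IsEssential p P) :
    (∃ g ∈ normalizerIn S P, g ∉ P) ∧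
    ∃ Γ : Subgroup (MulAut P), (∃ φ ∈ F.autGroup P, φ ∉ Γ) ∧
      ∀ φ ∈ F.autGroup P, φ ∉ Γ → ∀ (g : Ω) (hg : g ∈ normalizerIn S P), g ∉ P →
        ∀ (g' : Ω) (hg' : g' ∈ normalizerIn S P), g' ∉ P →
        ∀ B : Subgroup (MulAut P), IsPGroup p B → conjN S P ⟨g, hg⟩ ∈ B →
          φ * conjN S P ⟨g', hg'⟩ * φ⁻¹ ∈ B → False := by
  obtain ⟨hPc, hPn, hnorm, E, hE⟩ := hP
  have hPS : P ≤ S := hPc.1
  have hC : centralizerIn S P ≤ P := hPc.2 P (isConj_refl F hPS)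
  haveI : Finite (F.autGroup P) := finite_autGroup F hPS
  obtain ⟨-, R, hR⟩ := fullyAutomized_of_fullyNormalized p hS F hF hPn
  have hnorm' := hnorm
  obtain ⟨⟨τ₀, hτ₀R, hτ₀I⟩, Γ₀, hΓ₀, hfar⟩ :=
    exists_far ((Inn P).subgroupOf (F.autGroup P)) R E hE
  have hmemA : ∀ (g : Ω) (hg : g ∈ normalizerIn S P), conjN S P ⟨g, hg⟩ ∈ F.autGroup P := by
    intro g hg
    apply autInducedBy_le_autGroup F hPS
    rw [autInducedBy_eq_range]
    exact ⟨_, rfl⟩
  have hmemR : ∀ (g : Ω) (hg : g ∈ normalizerIn S P),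
      (⟨conjN S P ⟨g, hg⟩, hmemA g hg⟩ : F.autGroup P) ∈ (R : Subgroup (F.autGroup P)) := by
    intro g hg
    rw [hR, Subgroup.mem_subgroupOf, autInducedBy_eq_range]
    exact ⟨_, rfl⟩
  have hnotI : ∀ (g : Ω) (hg : g ∈ normalizerIn S P), g ∉ P →
      (⟨conjN S P ⟨g, hg⟩, hmemA g hg⟩ : F.autGroup P) ∉ (Inn P).subgroupOf (F.autGroup P) := by
    intro g hg hgP h
    rw [Subgroup.mem_subgroupOf] at h
    obtain ⟨y, hy⟩ := h
    apply hgP
    refine mem_of_conj_eq_conj hPS hC (mem_normalizerIn.1 hg).1 y.2 (fun z hz => ?_)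
    have h1 := congrArg (fun α : MulAut P => ((α ⟨z, hz⟩ : P) : Ω)) hy
    simp only [MulAut.conj_apply, Subgroup.coe_mul, Subgroup.coe_inv] at h1
    rw [h1, conjN_apply]
  refine ⟨?_, Γ₀.map (F.autGroup P).subtype, ?_, ?_⟩
  · rw [hR, Subgroup.mem_subgroupOf, autInducedBy_eq_range] at hτ₀R
    obtain ⟨g, hg⟩ := hτ₀R
    refine ⟨g, g.2, fun hgP => hτ₀I ?_⟩
    rw [Subgroup.mem_subgroupOf, ← hg]
    refine ⟨⟨g, hgP⟩, ?_⟩
    ext z
    rw [MulAut.conj_apply, conjN_apply]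
    rfl
  · have : ∃ φ₀ : F.autGroup P, φ₀ ∉ Γ₀ := by
      by_contra hcon
      push_neg at hcon
      exact hΓ₀ (eq_top_iff.2 fun x _ => hcon x)
    obtain ⟨φ₀, hφ₀⟩ := this
    refine ⟨φ₀.1, φ₀.2, ?_⟩
    rintro ⟨w, hw, hwφ⟩
    have : w = φ₀ := Subtype.ext hwφ
    exact hφ₀ (this ▸ hw)
  · intro φ hφ hφΓ g hg hgP g' hg' hg'P B hB hgB hφB
    have hφ₀ : (⟨φ, hφ⟩ : F.autGroup P) ∉ Γ₀ := fun h => hφΓ ⟨_, h, rfl⟩
    refine hfar ⟨φ, hφ⟩ hφ₀ _ (hmemR g hg) (hnotI g hg hgP) _ (hmemR g' hg') (hnotI g' hg' hg'P)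
      (B.comap (F.autGroup P).subtype) (hB.comap_of_injective _ Subtype.val_injective) ?_ ?_
    · exact hgB
    · exact hφB


/-! ### Essential subgroups other than `A` -/

section

variable [Finite S] {p : ℕ} [Fact p.Prime] {A : Subgroup Ω}

theorem Data.P_induction (d : Data p S A) {P : Subgroup Ω} (hPS : P ≤ S) {x : Ω} (hx : x ∈ P)
    (hxA : x ∉ A) {C : ↥P → Prop} (hA : ∀ y : P, (y : Ω) ∈ A → C y) (hxC : C ⟨x, hx⟩)
    (hmul : ∀ y y' : P, C y → C y' → C (y * y')) : ∀ y : P, C y := by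
  intro y
  obtain ⟨b, hb, i, hy⟩ := d.exists_mul_pow (hPS hx) hxA (hPS y.2)
  have hbP : b ∈ P := by
    have h1 : b = y * (x ^ i)⁻¹ := by rw [hy]; group
    rw [h1]
    exact P.mul_mem y.2 (P.inv_mem (P.pow_mem hx i))
  have hpow : ∀ i : ℕ, C ((⟨x, hx⟩ : P) ^ i) := by
    intro i
    induction i with
    | zero =>
      rw [pow_zero]
      exact hA 1 A.one_mem
    | succ i ih =>
      rw [pow_succ]
      exact hmul _ _ ih hxC
  have h2 : y = ⟨b, hbP⟩ * (⟨x, hx⟩ : P) ^ i := Subtype.ext (by simpa using hy)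
  rw [h2]
  exact hmul _ _ (hA _ hb) (hpow i)

theorem Data.P_eq_sup (d : Data p S A) {P : Subgroup Ω} (hPS : P ≤ S) {x : Ω} (hx : x ∈ P)
    (hxA : x ∉ A) : P = (P ⊓ A) ⊔ Subgroup.zpowers x := by
  apply le_antisymm
  · intro y hy
    obtain ⟨b, hb, i, rfl⟩ := d.exists_mul_pow (hPS hx) hxA (hPS hy)
    have hbP : b ∈ P := by
      have h1 : b = b * x ^ i * (x ^ i)⁻¹ := by group
      rw [h1]
      exact P.mul_mem hy (P.inv_mem (P.pow_mem hx i))
    exact Subgroup.mul_mem_sup ⟨hbP, hb⟩ (Subgroup.pow_mem _ (Subgroup.mem_zpowers x) i)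
  · exact sup_le inf_le_left ((Subgroup.zpowers_le).2 hx)

theorem Data.relIndex_P (d : Data p S A) {P : Subgroup Ω} (hPS : P ≤ S) {x : Ω} (hx : x ∈ P)
    (hxA : x ∉ A) : A.relIndex P = p := by
  haveI := d.normal
  have h1 : (A.subgroupOf S).relIndex (P.subgroupOf S ⊔ A.subgroupOf S) =
      (A.subgroupOf S).relIndex (P.subgroupOf S) := Subgroup.relIndex_sup_right _ _
  have htop : P.subgroupOf S ⊔ A.subgroupOf S = ⊤ := by
    rw [eq_top_iff]
    intro s _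
    obtain ⟨a, ha, i, hs⟩ := d.exists_mul_pow (hPS hx) hxA s.2
    have h2 : s = ⟨a, d.le ha⟩ * (⟨x, hPS hx⟩ : ↥S) ^ i := Subtype.ext (by simpa using hs)
    rw [h2, sup_comm]
    refine Subgroup.mul_mem_sup (Subgroup.mem_subgroupOf.2 ha) (Subgroup.pow_mem _ ?_ i)
    exact Subgroup.mem_subgroupOf.2 hx
  rw [htop, Subgroup.relIndex_top_right, Subgroup.relIndex_subgroupOf hPS] at h1
  rw [← h1]
  exact d.idx

theorem Data.exists_transv (d : Data p S A) {P : Subgroup Ω} (hPS : P ≤ S) {x : Ω} (hx : x ∈ P)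
    (hxA : x ∉ A) (M : Subgroup ↥P) (hM : M.Normal) (hMi : M.index = p)
    (hbig : p ^ 2 ∣ (P ⊓ A).relIndex (normalizerIn S P ⊓ A)) :
    ∃ (a : Ω) (ha : a ∈ normalizerIn S P), a ∈ A ∧ a ∉ P ∧
      ∀ y : P, y⁻¹ * conjN S P ⟨a, ha⟩ y ∈ M := by
  have hp : p.Prime := Fact.out
  haveI : Finite P := finite_of_le hPS
  haveI : Finite ↥(normalizerIn S P ⊓ A) :=
    finite_of_le (inf_le_left.trans (normalizerIn_le S P))
  have hkP : ∀ a : ↥(normalizerIn S P ⊓ A), kap x (a : Ω) ∈ P := by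
    intro a
    have h1 : kap x (a : Ω) = x⁻¹ * ((a : Ω) * x * (a : Ω)⁻¹) := by unfold kap; group
    rw [h1]
    exact P.mul_mem (P.inv_mem hx) (((mem_normalizerIn.1 a.2.1).2 x).1 hx)
  let f : ↥(normalizerIn S P ⊓ A) →* ↥P :=
    { toFun := fun a => ⟨kap x (a : Ω), hkP a⟩
      map_one' := by
        apply Subtype.ext
        show kap x 1 = 1
        unfold kap
        group
      map_mul' := fun a b => Subtype.ext (d.kap_mul (hPS hx) a.2.2 b.2.2) }
  have hidx : (M.comap f).index ≤ p := by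
    rw [Subgroup.index_comap]
    have h1 : M.relIndex f.range ≤ M.relIndex ⊤ := by
      apply Subgroup.relIndex_le_of_le_right le_top
      rw [Subgroup.relIndex_top_right, hMi]
      exact hp.ne_zero
    rwa [Subgroup.relIndex_top_right, hMi] at h1
  have hex : ∃ a : ↥(normalizerIn S P ⊓ A), a ∈ M.comap f ∧ (a : Ω) ∉ P := by
    by_contra hcon
    push_neg at hcon
    have hle : M.comap f ≤ (P ⊓ A).subgroupOf (normalizerIn S P ⊓ A) := by
      intro a ha
      exact Subgroup.mem_subgroupOf.2 ⟨hcon a ha, a.2.2⟩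
    have h1 := Subgroup.index_dvd_of_le hle
    have h2 : ((P ⊓ A).subgroupOf (normalizerIn S P ⊓ A)).index =
        (P ⊓ A).relIndex (normalizerIn S P ⊓ A) := rfl
    rw [h2] at h1
    have h3 : p ^ 2 ∣ (M.comap f).index := hbig.trans h1
    have h4 : (M.comap f).index ≠ 0 := Subgroup.index_ne_zero_of_finite
    have h5 := Nat.le_of_dvd (Nat.pos_of_ne_zero h4) h3
    have h6 : p ^ 2 ≤ p := h5.trans hidx
    have h7 : 2 ≤ p := hp.two_le
    nlinarith
  obtain ⟨a, haM, haP⟩ := hex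
  refine ⟨a, a.2.1, a.2.2, haP, ?_⟩
  refine d.P_induction hPS hx hxA (C := fun y => y⁻¹ * conjN S P ⟨a, a.2.1⟩ y ∈ M) ?_ ?_ ?_
  · intro y hy
    have h1 : conjN S P ⟨a, a.2.1⟩ y = y := by
      apply Subtype.ext
      rw [conjN_apply]
      show (a : Ω) * y * (a : Ω)⁻¹ = y
      rw [d.comm a a.2.2 y hy]
      group
    show y⁻¹ * conjN S P ⟨a, a.2.1⟩ y ∈ M
    rw [h1, inv_mul_cancel]
    exact M.one_mem
  · have h1 : (⟨x, hx⟩ : P)⁻¹ * conjN S P ⟨a, a.2.1⟩ ⟨x, hx⟩ = f a := by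
      apply Subtype.ext
      rw [Subgroup.coe_mul, Subgroup.coe_inv, conjN_apply]
      show x⁻¹ * ((a : Ω) * x * (a : Ω)⁻¹) = kap x (a : Ω)
      unfold kap
      group
    show (⟨x, hx⟩ : P)⁻¹ * conjN S P ⟨a, a.2.1⟩ ⟨x, hx⟩ ∈ M
    rw [h1]
    exact haM
  · intro y y' hy hy'
    show (y * y')⁻¹ * conjN S P ⟨a, a.2.1⟩ (y * y') ∈ M
    have h1 : (y * y')⁻¹ * conjN S P ⟨a, a.2.1⟩ (y * y') =
        y'⁻¹ * (y⁻¹ * conjN S P ⟨a, a.2.1⟩ y) * y'⁻¹⁻¹ * (y'⁻¹ * conjN S P ⟨a, a.2.1⟩ y') := by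
      rw [map_mul]
      group
    rw [h1]
    exact M.mul_mem (hM.conj_mem _ hy _) hy'


theorem prime_sq_factor {p m n : ℕ} (hp : p.Prime) (h : m * n = p * p) (hm : m ≠ 1) (hn : n ≠ 1) :
    m = p ∧ n = p := by
  have h1 : m ∣ p ^ 2 := ⟨n, by rw [pow_two, h]⟩
  obtain ⟨k, hk, rfl⟩ := (Nat.dvd_prime_pow hp).1 h1
  have hk1 : k = 1 := by
    rcases Nat.lt_or_ge k 1 with h0 | h0
    · have : k = 0 := by omega
      rw [this, pow_zero] at hm
      exact absurd rfl hm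
    · rcases Nat.lt_or_ge k 2 with h2 | h2
      · omega
      · have hk2 : k = 2 := by omega
        rw [hk2, pow_two] at h
        have : n = 1 := by
          have hpos : 0 < p * p := Nat.mul_pos hp.pos hp.pos
          exact Nat.eq_of_mul_eq_mul_left hpos (by rw [h, mul_one])
        exact absurd this hn
  subst hk1
  rw [pow_one] at h ⊢
  exact ⟨rfl, Nat.eq_of_mul_eq_mul_left hp.pos h⟩

/-- the structure of an essential subgroup `P ≠ A`. -/
theorem essential_structure (d : Data p S A)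
    (huniq : ∀ B : Subgroup Ω, B ≤ S → (∀ a ∈ B, ∀ b ∈ B, a * b = b * a) → B.relIndex S = p →
      B = A)
    (F : FusionSystem S) (hF : F.IsSaturated p) {P : Subgroup Ω} (hP : F.IsEssential p P)
    (hPA : P ≠ A) :
    P.relIndex (normalizerIn S P) = p ∧ Z2 S ≤ A ∧ (ZS S).relIndex (Z2 S) = p ∧
      ∃ x ∈ P, x ∉ A ∧
        ((P ⊓ A = ZS S ∧ ∀ y ∈ P, ∀ y' ∈ P, y * y' = y' * y) ∨
         (P ⊓ A = Z2 S ∧ ∀ y ∈ P, (∀ y' ∈ P, y' * y = y * y') → y ∈ ZS S)) := by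
  have hp : p.Prime := Fact.out
  obtain ⟨⟨g₀, hg₀N, hg₀P⟩, Γ, ⟨φ, hφ, hφΓ⟩, hfar⟩ := essential_far p d.pgrp F hF hP
  have hfarφ := hfar φ hφ hφΓ
  obtain ⟨hPc, hPn, -⟩ := hP
  have hPS : P ≤ S := hPc.1
  have hC : centralizerIn S P ≤ P := hPc.2 P (isConj_refl F hPS)
  haveI : Finite P := finite_of_le hPS
  have hPp : IsPGroup p P := d.pgrp.to_le hPS
  have hZP : ZS S ≤ P := fun z hz =>
    hC (mem_centralizerIn.2 ⟨(mem_ZS.1 hz).1, fun y hy => (mem_ZS.1 hz).2 y (hPS hy)⟩)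
  have hZA : ZS S ≤ A := d.Z_le
  obtain ⟨x, hx, hxA⟩ : ∃ x ∈ P, x ∉ A := by
    by_contra hcon
    push_neg at hcon
    apply hPA
    apply le_antisymm hcon
    intro a ha
    exact hC (mem_centralizerIn.2 ⟨d.le ha, fun y hy => d.comm y (hcon y hy) a ha⟩)
  have hxS : x ∈ S := hPS hx
  have hPN : P ≤ normalizerIn S P := le_normalizerIn hPS
  have hNS : normalizerIn S P ≤ S := normalizerIn_le S P
  haveI : Finite ↥(normalizerIn S P) := finite_of_le hNS
  haveI : Finite ↥(normalizerIn S P ⊓ A) := finite_of_le (inf_le_left.trans hNS)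
  have hNconj : ∀ g ∈ normalizerIn S P, ∀ y ∈ P, g * y * g⁻¹ ∈ P :=
    fun g hg y hy => ((mem_normalizerIn.1 hg).2 y).1 hy
  have hU1 : ∀ (a : Ω) (ha : a ∈ normalizerIn S P), a ∈ A → ∀ y : P, (y : Ω) ∈ A →
      conjN S P ⟨a, ha⟩ y = y := by
    intro a ha haA y hy
    apply Subtype.ext
    rw [conjN_apply]
    show a * (y : Ω) * a⁻¹ = y
    rw [d.comm a haA y hy]
    group
  have hU2 : ∀ (a : Ω) (ha : a ∈ normalizerIn S P) (y : P),
      ((y⁻¹ * conjN S P ⟨a, ha⟩ y : P) : Ω) = kap (y : Ω) a := by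
    intro a ha y
    rw [Subgroup.coe_mul, Subgroup.coe_inv, conjN_apply]
    show (y : Ω)⁻¹ * (a * (y : Ω) * a⁻¹) = kap (y : Ω) a
    unfold kap
    group
  -- subgroups of `P`
  have hP0n : (A.subgroupOf P).Normal := by
    refine ⟨fun n hn g => ?_⟩
    rw [Subgroup.mem_subgroupOf] at hn ⊢
    exact d.conj_mem (hPS g.2) hn
  have hP0i : (A.subgroupOf P).index = p := d.relIndex_P hPS hx hxA
  have hMn : ((A.subgroupOf P).map φ.toMonoidHom).Normal := hP0n.map _ φ.surjective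
  have hMi : ((A.subgroupOf P).map φ.toMonoidHom).index = p := by
    rw [← hP0i]
    exact Subgroup.index_map_equiv (A.subgroupOf P) φ
  have hMin : ((A.subgroupOf P).comap φ.toMonoidHom).Normal := hP0n.comap _
  have hMii : ((A.subgroupOf P).comap φ.toMonoidHom).index = p := by
    rw [← hP0i]
    exact Subgroup.index_comap_of_surjective _ φ.surjective
  have hMmem : ∀ y : P, y ∈ (A.subgroupOf P).map φ.toMonoidHom ↔ φ⁻¹ y ∈ A.subgroupOf P := by
    intro y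
    constructor
    · rintro ⟨w, hw, rfl⟩
      have h1 : φ⁻¹ (φ.toMonoidHom w) = w := MulAut.inv_apply_self _ _ _
      rw [h1]
      exact hw
    · intro h
      exact ⟨φ⁻¹ y, h, MulAut.apply_inv_self _ _ _⟩
  -- step 1: the index of `P ∩ A` in `N_A(P)` is `p`
  have hT1 : ¬ p ^ 2 ∣ (P ⊓ A).relIndex (normalizerIn S P ⊓ A) := by
    intro hbig
    obtain ⟨a, haN, haA, haP, hau⟩ := d.exists_transv hPS hx hxA _ hMn hMi hbig
    obtain ⟨b, hbN, hbA, hbP, hbu⟩ := d.exists_transv hPS hx hxA _ hMin hMii hbig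
    have hu : conjN S P ⟨a, haN⟩ ∈
        stab3 (A.subgroupOf P ⊓ (A.subgroupOf P).map φ.toMonoidHom)
          (A.subgroupOf P ⊓ (A.subgroupOf P).map φ.toMonoidHom) le_rfl := by
      refine ⟨fun y hy => hU1 a haN haA y (Subgroup.mem_subgroupOf.1 hy.1), fun y hy => ?_,
        fun y => ⟨?_, hau y⟩⟩
      · rw [hU1 a haN haA y (Subgroup.mem_subgroupOf.1 hy.1), inv_mul_cancel]
        exact Subgroup.one_mem _
      · exact Subgroup.mem_subgroupOf.2 (by rw [hU2]; exact d.kap_mem (hPS y.2) haA)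
    have hv : φ * conjN S P ⟨b, hbN⟩ * φ⁻¹ ∈
        stab3 (A.subgroupOf P ⊓ (A.subgroupOf P).map φ.toMonoidHom)
          (A.subgroupOf P ⊓ (A.subgroupOf P).map φ.toMonoidHom) le_rfl := by
      have hD : ∀ y : P, y ∈ A.subgroupOf P ⊓ (A.subgroupOf P).map φ.toMonoidHom ↔
          φ⁻¹ y ∈ (A.subgroupOf P).comap φ.toMonoidHom ⊓ A.subgroupOf P := by
        intro y
        rw [Subgroup.mem_inf, Subgroup.mem_inf, hMmem, Subgroup.mem_comap]
        have h1 : φ.toMonoidHom (φ⁻¹ y) = y := MulAut.apply_inv_self _ _ _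
        rw [h1]
      refine stab3_conj (C := (A.subgroupOf P).comap φ.toMonoidHom ⊓ A.subgroupOf P)
        (E := (A.subgroupOf P).comap φ.toMonoidHom ⊓ A.subgroupOf P) le_rfl le_rfl hD hD ?_
      refine ⟨fun y hy => hU1 b hbN hbA y (Subgroup.mem_subgroupOf.1 hy.2), fun y hy => ?_,
        fun y => ⟨hbu y, ?_⟩⟩
      · rw [hU1 b hbN hbA y (Subgroup.mem_subgroupOf.1 hy.2), inv_mul_cancel]
        exact Subgroup.one_mem _
      · exact Subgroup.mem_subgroupOf.2 (by rw [hU2]; exact d.kap_mem (hPS y.2) hbA)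
    exact hfarφ a haN haP b hbN hbP _ (isPGroup_stab3 hPp le_rfl) hu hv
  -- an element of `N_A(P)` outside `P`
  obtain ⟨a₀, ha₀N, ha₀A, ha₀P⟩ : ∃ a₀ ∈ normalizerIn S P, a₀ ∈ A ∧ a₀ ∉ P := by
    obtain ⟨a, ha, i, hg⟩ := d.exists_mul_pow hxS hxA (hNS hg₀N)
    have h1 : a = g₀ * (x ^ i)⁻¹ := by rw [hg]; group
    have haN : a ∈ normalizerIn S P := by
      rw [h1]
      exact Subgroup.mul_mem _ hg₀N (Subgroup.inv_mem _ (Subgroup.pow_mem _ (hPN hx) i))
    refine ⟨a, haN, ha, fun haP => hg₀P ?_⟩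
    rw [hg]
    exact P.mul_mem haP (P.pow_mem hx i)
  have hNA : (P ⊓ A).relIndex (normalizerIn S P ⊓ A) = p := by
    have hpg : IsPGroup p ↥(normalizerIn S P ⊓ A) := d.pgrp.to_le (inf_le_left.trans hNS)
    obtain ⟨n, hn⟩ := hpg.index ((P ⊓ A).subgroupOf (normalizerIn S P ⊓ A))
    have hn' : (P ⊓ A).relIndex (normalizerIn S P ⊓ A) = p ^ n := hn
    have hne1 : (P ⊓ A).relIndex (normalizerIn S P ⊓ A) ≠ 1 := by
      intro h
      rw [Subgroup.relIndex_eq_one] at h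
      exact ha₀P (h ⟨ha₀N, ha₀A⟩).1
    rw [hn'] at hT1 hne1 ⊢
    have h1 : n ≠ 0 := by
      rintro rfl
      exact hne1 (pow_zero p)
    have h2 : ¬ 2 ≤ n := fun h => hT1 (pow_dvd_pow p h)
    have h3 : n = 1 := by omega
    rw [h3, pow_one]
  -- the index of `P` in its normalizer
  have hidxN : P.relIndex (normalizerIn S P) = p := by
    haveI hPnorm : (P.subgroupOf (normalizerIn S P)).Normal := by
      refine ⟨fun n hn g => ?_⟩
      rw [Subgroup.mem_subgroupOf] at hn ⊢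
      exact hNconj g g.2 n hn
    have h1 : (P.subgroupOf (normalizerIn S P)).relIndex
        ((normalizerIn S P ⊓ A).subgroupOf (normalizerIn S P) ⊔ P.subgroupOf (normalizerIn S P)) =
        (P.subgroupOf (normalizerIn S P)).relIndex
          ((normalizerIn S P ⊓ A).subgroupOf (normalizerIn S P)) :=
      Subgroup.relIndex_sup_right _ _
    have htop : (normalizerIn S P ⊓ A).subgroupOf (normalizerIn S P) ⊔
        P.subgroupOf (normalizerIn S P) = ⊤ := by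
      rw [eq_top_iff]
      intro g _
      obtain ⟨a, ha, i, hg⟩ := d.exists_mul_pow hxS hxA (hNS g.2)
      have h2 : a = g * (x ^ i)⁻¹ := by rw [hg]; group
      have haN : a ∈ normalizerIn S P := by
        rw [h2]
        exact Subgroup.mul_mem _ g.2 (Subgroup.inv_mem _ (Subgroup.pow_mem _ (hPN hx) i))
      have h3 : g = ⟨a, haN⟩ * (⟨x, hPN hx⟩ : ↥(normalizerIn S P)) ^ i :=
        Subtype.ext (by simpa using hg)
      rw [h3]
      refine Subgroup.mul_mem_sup (Subgroup.mem_subgroupOf.2 ⟨haN, ha⟩) (Subgroup.pow_mem _ ?_ i)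
      exact Subgroup.mem_subgroupOf.2 hx
    rw [htop, Subgroup.relIndex_top_right,
      Subgroup.relIndex_subgroupOf (inf_le_left : normalizerIn S P ⊓ A ≤ normalizerIn S P)] at h1
    have h4 : P.relIndex (normalizerIn S P) = (P.subgroupOf (normalizerIn S P)).index := rfl
    rw [h4, h1, ← Subgroup.inf_relIndex_right]
    have h5 : P ⊓ (normalizerIn S P ⊓ A) = P ⊓ A := by
      rw [← inf_assoc, inf_eq_left.2 hPN]
    rw [h5]
    exact hNA
  -- elements of `A ∩ Z₂` normalize `P`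
  have hZ2N : A ⊓ Z2 S ≤ normalizerIn S P ⊓ A := by
    intro a ha
    refine Subgroup.mem_inf.2 ⟨Subgroup.mem_inf.2
      ⟨d.le ha.1, mem_normalizer_of_finite_of_conj_mem (fun y hy => ?_)⟩, ha.1⟩
    have h1 := (mem_Z2.1 ha.2).2 y (hPS hy)
    have h2 : a * y * a⁻¹ = (a * y * a⁻¹ * y⁻¹) * y := by group
    rw [h2]
    exact P.mul_mem (hZP h1) hy
  have hkapZ2 : ∀ a ∈ Z2 S, ∀ y ∈ S, kap y a ∈ ZS S := by
    intro a ha y hy
    have h1 := (mem_Z2.1 ha).2 y⁻¹ (S.inv_mem hy)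
    have h2 : kap y a = (a * y⁻¹ * a⁻¹ * y⁻¹⁻¹)⁻¹ := by unfold kap; group
    rw [h2]
    exact (ZS S).inv_mem h1
  -- step 2: `[A ∩ Z₂ : Z] = p`, and the shape of `P ∩ A`
  have hmain : (ZS S).relIndex (A ⊓ Z2 S) = p ∧
      ((P ⊓ A = ZS S ∧ ∀ y ∈ P, ∀ y' ∈ P, y * y' = y' * y) ∨
       (P ⊓ A = A ⊓ Z2 S ∧ ∀ y ∈ P, (∀ y' ∈ P, y' * y = y * y') → y ∈ ZS S)) := by
    by_cases hab : ∀ y ∈ P, ∀ y' ∈ P, y * y' = y' * y
    · have hP0 : P ⊓ A = ZS S := by
        apply le_antisymm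
        · intro y hy
          exact d.mem_Z_of_comm hxS hxA hy.2 (hab y hy.1 x hx)
        · exact le_inf hZP hZA
      have hNA2 : normalizerIn S P ⊓ A = A ⊓ Z2 S := by
        apply le_antisymm
        · intro a ha
          refine ⟨ha.2, (d.mem_Z2_iff hxS hxA ha.2).2 ?_⟩
          have h1 : kap x a ∈ P ⊓ A := by
            refine ⟨?_, d.kap_mem hxS ha.2⟩
            have h2 : kap x a = x⁻¹ * (a * x * a⁻¹) := by unfold kap; group
            rw [h2]
            exact P.mul_mem (P.inv_mem hx) (hNconj a ha.1 x hx)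
          rwa [hP0] at h1
        · exact hZ2N
      refine ⟨?_, Or.inl ⟨hP0, hab⟩⟩
      rw [← hNA2, ← hP0]
      exact hNA
    · push_neg at hab
      obtain ⟨y₁, hy₁, y₂, hy₂, hy12⟩ := hab
      have hZne : ¬ P ⊓ A ≤ ZS S := by
        intro hle
        apply hy12
        obtain ⟨b₁, hb₁, i, rfl⟩ := d.exists_mul_pow hxS hxA (hPS hy₁)
        obtain ⟨b₂, hb₂, j, rfl⟩ := d.exists_mul_pow hxS hxA (hPS hy₂)
        have hb₁P : b₁ ∈ P := by
          have h1 : b₁ = b₁ * x ^ i * (x ^ i)⁻¹ := by group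
          rw [h1]
          exact P.mul_mem hy₁ (P.inv_mem (P.pow_mem hx i))
        have hb₂P : b₂ ∈ P := by
          have h1 : b₂ = b₂ * x ^ j * (x ^ j)⁻¹ := by group
          rw [h1]
          exact P.mul_mem hy₂ (P.inv_mem (P.pow_mem hx j))
        have hz₁ := (mem_ZS.1 (hle ⟨hb₁P, hb₁⟩)).2
        have hz₂ := (mem_ZS.1 (hle ⟨hb₂P, hb₂⟩)).2
        have hc : x ^ i * x ^ j = x ^ j * x ^ i := by rw [← pow_add, ← pow_add, add_comm]
        calc b₁ * x ^ i * (b₂ * x ^ j) = b₁ * (x ^ i * b₂) * x ^ j := by group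
          _ = b₁ * (b₂ * x ^ i) * x ^ j := by rw [hz₂ _ (S.pow_mem hxS i)]
          _ = (b₁ * b₂) * (x ^ i * x ^ j) := by group
          _ = (b₂ * b₁) * (x ^ j * x ^ i) := by rw [d.comm b₁ hb₁ b₂ hb₂, hc]
          _ = b₂ * (b₁ * x ^ j) * x ^ i := by group
          _ = b₂ * (x ^ j * b₁) * x ^ i := by rw [hz₁ _ (S.pow_mem hxS j)]
          _ = b₂ * x ^ j * (b₁ * x ^ i) := by group
      have hcenter : ∀ y ∈ P, (∀ y' ∈ P, y' * y = y * y') → y ∈ ZS S := by
        intro y hy hyc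
        by_cases hyA : y ∈ A
        · exact d.mem_Z_of_comm hxS hxA hyA (hyc x hx).symm
        · exfalso
          apply hZne
          intro b hb
          exact d.mem_Z_of_comm (hPS hy) hyA hb.2 (hyc b hb.1)
      have hφZ : ∀ (ψ : MulAut P) (y : P), (y : Ω) ∈ ZS S → ((ψ y : P) : Ω) ∈ ZS S := by
        intro ψ y hy
        apply hcenter _ (ψ y).2
        intro y' hy'
        have h1 : ψ⁻¹ ⟨y', hy'⟩ * y = y * ψ⁻¹ ⟨y', hy'⟩ :=
          Subtype.ext ((mem_ZS.1 hy).2 _ (hPS (ψ⁻¹ ⟨y', hy'⟩).2))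
        have h2 := congrArg (fun w : P => ((ψ w : P) : Ω)) h1
        simp only [map_mul, MulAut.apply_inv_self, Subgroup.coe_mul] at h2
        exact h2
      -- `φ(P ∩ A) ≠ P ∩ A`
      obtain ⟨w₁, hw₁M, hw₁A⟩ : ∃ w₁ : P, w₁ ∈ (A.subgroupOf P).map φ.toMonoidHom ∧
          (w₁ : Ω) ∉ A := by
        by_contra hcon
        push_neg at hcon
        have hle : (A.subgroupOf P).map φ.toMonoidHom ≤ A.subgroupOf P :=
          fun w hw => Subgroup.mem_subgroupOf.2 (hcon w hw)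
        have hcard : Nat.card (A.subgroupOf P) ≤ Nat.card ((A.subgroupOf P).map φ.toMonoidHom) :=
          (Subgroup.card_map_of_injective φ.injective).ge
        have heq := Subgroup.eq_of_le_of_card_ge hle hcard
        have hD : ∀ y : P, y ∈ A.subgroupOf P ↔ φ⁻¹ y ∈ A.subgroupOf P := by
          intro y
          rw [← hMmem, heq]
        have hu : conjN S P ⟨a₀, ha₀N⟩ ∈ stab3 (A.subgroupOf P) (A.subgroupOf P) le_rfl := by
          refine ⟨fun y hy => hU1 a₀ ha₀N ha₀A y (Subgroup.mem_subgroupOf.1 hy), fun y hy => ?_,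
            fun y => ?_⟩
          · rw [hU1 a₀ ha₀N ha₀A y (Subgroup.mem_subgroupOf.1 hy), inv_mul_cancel]
            exact Subgroup.one_mem _
          · exact Subgroup.mem_subgroupOf.2 (by rw [hU2]; exact d.kap_mem (hPS y.2) ha₀A)
        have hv := stab3_conj (φ := φ) le_rfl le_rfl hD hD hu
        exact hfarφ a₀ ha₀N ha₀P a₀ ha₀N ha₀P _ (isPGroup_stab3 hPp le_rfl) hu hv
      have hw₁S : (w₁ : Ω) ∈ S := hPS w₁.2
      -- `P ∩ A ∩ φ(P ∩ A) = Z`
      have hDZ : ∀ y : P, y ∈ A.subgroupOf P → y ∈ (A.subgroupOf P).map φ.toMonoidHom →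
          (y : Ω) ∈ ZS S := by
        intro y hyA hyM
        apply d.mem_Z_of_comm hw₁S hw₁A (Subgroup.mem_subgroupOf.1 hyA)
        obtain ⟨c, hc, rfl⟩ := hyM
        obtain ⟨c', hc', rfl⟩ := hw₁M
        have h1 : c * c' = c' * c :=
          Subtype.ext (d.comm _ (Subgroup.mem_subgroupOf.1 hc) _ (Subgroup.mem_subgroupOf.1 hc'))
        have h2 := congrArg (fun w : P => ((φ w : P) : Ω)) h1
        simp only [map_mul, Subgroup.coe_mul] at h2
        exact h2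
      have hZM : ∀ y : P, (y : Ω) ∈ ZS S → y ∈ (A.subgroupOf P).map φ.toMonoidHom := by
        intro y hy
        rw [hMmem, Subgroup.mem_subgroupOf]
        exact hZA (hφZ φ⁻¹ y hy)
      have hDeq : (A.subgroupOf P).map φ.toMonoidHom ⊓ A.subgroupOf P = (ZS S).subgroupOf P := by
        ext y
        rw [Subgroup.mem_inf, Subgroup.mem_subgroupOf]
        constructor
        · rintro ⟨h1, h2⟩
          exact hDZ y h2 h1
        · intro h
          exact ⟨hZM y h, Subgroup.mem_subgroupOf.2 (hZA h)⟩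
      -- `[P ∩ A : Z] = p`
      have hPZ : (ZS S).relIndex (P ⊓ A) = p := by
        have h1 : ((A.subgroupOf P).map φ.toMonoidHom).relIndex (A.subgroupOf P) ≤ p := by
          have h2 : ((A.subgroupOf P).map φ.toMonoidHom).relIndex (A.subgroupOf P) ≤
              ((A.subgroupOf P).map φ.toMonoidHom).relIndex ⊤ := by
            apply Subgroup.relIndex_le_of_le_right le_top
            rw [Subgroup.relIndex_top_right, hMi]
            exact hp.ne_zero
          rwa [Subgroup.relIndex_top_right, hMi] at h2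
        rw [← Subgroup.inf_relIndex_right, hDeq] at h1
        have h3 : ((ZS S).subgroupOf P).relIndex (A.subgroupOf P) = (ZS S).relIndex (P ⊓ A) := by
          rw [← Subgroup.inf_subgroupOf_left A P,
            Subgroup.relIndex_subgroupOf (inf_le_left : P ⊓ A ≤ P)]
        rw [h3] at h1
        haveI : Finite ↥(P ⊓ A) := finite_of_le (inf_le_left.trans hPS)
        have hpg : IsPGroup p ↥(P ⊓ A) := d.pgrp.to_le (inf_le_left.trans hPS)
        obtain ⟨n, hn⟩ := hpg.index ((ZS S).subgroupOf (P ⊓ A))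
        have hn' : (ZS S).relIndex (P ⊓ A) = p ^ n := hn
        have hne1 : (ZS S).relIndex (P ⊓ A) ≠ 1 := by
          intro h
          rw [Subgroup.relIndex_eq_one] at h
          exact hZne h
        rw [hn'] at h1 hne1 ⊢
        have h4 : n ≠ 0 := by
          rintro rfl
          exact hne1 (pow_zero p)
        have h5 : n ≤ 1 := by
          by_contra h6
          have h7 : p ^ 2 ≤ p ^ n := Nat.pow_le_pow_right hp.pos (by omega)
          have h8 : 2 ≤ p := hp.two_le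
          nlinarith
        have h6 : n = 1 := by omega
        rw [h6, pow_one]
      -- `P ∩ A ≤ Z₂`
      have hP0Z2 : P ⊓ A ≤ A ⊓ Z2 S := by
        intro y₀ hy₀
        refine ⟨hy₀.2, (d.mem_Z2_iff hxS hxA hy₀.2).2 ?_⟩
        obtain ⟨a, ha, i, hxe⟩ := d.exists_mul_pow hw₁S hw₁A hxS
        have h1 : kap x y₀ = kap ((w₁ : Ω) ^ i) y₀ := by
          rw [hxe, kap_mul_left]
          have h2 : kap a y₀ = 1 := kap_eq_one_iff.2 (d.comm y₀ hy₀.2 a ha)
          rw [h2]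
          group
        rw [h1]
        have h3 : kap ((w₁ : Ω) ^ i) y₀ =
            (((w₁ ^ i)⁻¹ * (⟨y₀, hy₀.1⟩ * w₁ ^ i * (⟨y₀, hy₀.1⟩ : P)⁻¹) : P) : Ω) := by
          simp only [Subgroup.coe_mul, Subgroup.coe_inv, Subgroup.coe_pow]
          unfold kap
          group
        rw [h3]
        apply hDZ
        · rw [Subgroup.mem_subgroupOf, ← h3]
          exact d.kap_mem (S.pow_mem hw₁S i) hy₀.2
        · have h4 : w₁ ^ i ∈ (A.subgroupOf P).map φ.toMonoidHom := Subgroup.pow_mem _ hw₁M i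
          exact Subgroup.mul_mem _ (Subgroup.inv_mem _ h4) (hMn.conj_mem _ h4 _)
      -- `A ∩ Z₂ = P ∩ A`
      have h1 := Subgroup.relIndex_mul_relIndex (P ⊓ A) (A ⊓ Z2 S) (normalizerIn S P ⊓ A)
        hP0Z2 hZ2N
      rw [hNA] at h1
      have hcase : (P ⊓ A).relIndex (A ⊓ Z2 S) = 1 := by
        rcases (Nat.dvd_prime hp).1 (Dvd.intro _ h1) with h2 | h2
        · exact h2
        · exfalso
          rw [h2] at h1
          have h3 : (A ⊓ Z2 S).relIndex (normalizerIn S P ⊓ A) = 1 := by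
            have h4 : p * (A ⊓ Z2 S).relIndex (normalizerIn S P ⊓ A) = p * 1 := by rw [h1, mul_one]
            exact Nat.eq_of_mul_eq_mul_left hp.pos h4
          rw [Subgroup.relIndex_eq_one] at h3
          have ha₀Z2 : a₀ ∈ Z2 S := (h3 ⟨ha₀N, ha₀A⟩).2
          have hD : ∀ y : P, y ∈ (ZS S).subgroupOf P ↔ φ⁻¹ y ∈ (ZS S).subgroupOf P := by
            intro y
            rw [Subgroup.mem_subgroupOf, Subgroup.mem_subgroupOf]
            constructor
            · exact hφZ φ⁻¹ y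
            · intro h
              have h5 := hφZ φ _ h
              rwa [MulAut.apply_inv_self] at h5
          have hu : conjN S P ⟨a₀, ha₀N⟩ ∈
              stab3 ((ZS S).subgroupOf P) ((ZS S).subgroupOf P) le_rfl := by
            refine ⟨fun y hy => hU1 a₀ ha₀N ha₀A y (hZA (Subgroup.mem_subgroupOf.1 hy)),
              fun y hy => ?_, fun y => ?_⟩
            · rw [hU1 a₀ ha₀N ha₀A y (hZA (Subgroup.mem_subgroupOf.1 hy)), inv_mul_cancel]
              exact Subgroup.one_mem _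
            · exact Subgroup.mem_subgroupOf.2 (by rw [hU2]; exact hkapZ2 a₀ ha₀Z2 y (hPS y.2))
          have hv := stab3_conj (φ := φ) le_rfl le_rfl hD hD hu
          exact hfarφ a₀ ha₀N ha₀P a₀ ha₀N ha₀P _ (isPGroup_stab3 hPp le_rfl) hu hv
      rw [Subgroup.relIndex_eq_one] at hcase
      have heq : P ⊓ A = A ⊓ Z2 S := le_antisymm hP0Z2 hcase
      refine ⟨?_, Or.inr ⟨heq, hcenter⟩⟩
      rw [← heq]
      exact hPZ
  obtain ⟨hK, hshape⟩ := hmain
  -- step 3: `Z₂ ≤ A`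
  have hZ2A : Z2 S ≤ A := by
    intro y hy
    by_contra hyA
    have hyS : y ∈ S := (mem_Z2.1 hy).1
    have hAZ2 : A ≤ A ⊓ Z2 S := by
      intro a ha
      refine ⟨ha, (d.mem_Z2_iff hyS hyA ha).2 ?_⟩
      have h1 := (mem_Z2.1 ((Z2 S).inv_mem hy)).2 a (d.le ha)
      rw [inv_inv] at h1
      exact h1
    have hZAp : (ZS S).relIndex A = p := by
      have h1 : A ⊓ Z2 S = A := le_antisymm inf_le_left hAZ2
      rw [h1] at hK
      exact hK
    -- the centralizer of `x` is abelian of index `p`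
    have hBS : S ⊓ Subgroup.centralizer ({x} : Set Ω) ≤ S := inf_le_left
    have hBmem : ∀ s, s ∈ S ⊓ Subgroup.centralizer ({x} : Set Ω) ↔ s ∈ S ∧ x * s = s * x := by
      intro s
      rw [Subgroup.mem_inf, Subgroup.mem_centralizer_iff]
      simp only [Set.mem_singleton_iff, forall_eq]
    have hBdec : ∀ s ∈ S ⊓ Subgroup.centralizer ({x} : Set Ω), ∃ z ∈ ZS S, ∃ i : ℕ,
        s = z * x ^ i := by
      intro s hs
      obtain ⟨hsS, hsx⟩ := (hBmem s).1 hs
      obtain ⟨a, ha, i, rfl⟩ := d.exists_mul_pow hxS hxA hsS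
      refine ⟨a, d.mem_Z_of_comm hxS hxA ha ?_, i, rfl⟩
      have h1 : x * (a * x ^ i) * (x ^ i)⁻¹ = a * x ^ i * x * (x ^ i)⁻¹ := by rw [hsx]
      have h2 : x * (a * x ^ i) * (x ^ i)⁻¹ = x * a := by group
      have h3 : a * x ^ i * x * (x ^ i)⁻¹ = a * x := by
        have : x ^ i * x = x * x ^ i := by rw [← pow_succ, ← pow_succ']
        calc a * x ^ i * x * (x ^ i)⁻¹ = a * (x ^ i * x) * (x ^ i)⁻¹ := by group
          _ = a * (x * x ^ i) * (x ^ i)⁻¹ := by rw [this]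
          _ = a * x := by group
      rw [h2, h3] at h1
      exact h1.symm
    have hBcomm : ∀ s ∈ S ⊓ Subgroup.centralizer ({x} : Set Ω),
        ∀ t ∈ S ⊓ Subgroup.centralizer ({x} : Set Ω), s * t = t * s := by
      intro s hs t ht
      obtain ⟨z₁, hz₁, i, rfl⟩ := hBdec s hs
      obtain ⟨z₂, hz₂, j, rfl⟩ := hBdec t ht
      have hc₁ := (mem_ZS.1 hz₁).2
      have hc₂ := (mem_ZS.1 hz₂).2
      have hc : x ^ i * x ^ j = x ^ j * x ^ i := by rw [← pow_add, ← pow_add, add_comm]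
      calc z₁ * x ^ i * (z₂ * x ^ j) = z₁ * (x ^ i * z₂) * x ^ j := by group
        _ = z₁ * (z₂ * x ^ i) * x ^ j := by rw [hc₂ _ (S.pow_mem hxS i)]
        _ = (z₁ * z₂) * (x ^ i * x ^ j) := by group
        _ = (z₂ * z₁) * (x ^ j * x ^ i) := by rw [hc₂ z₁ (mem_ZS.1 hz₁).1, hc]
        _ = z₂ * (z₁ * x ^ j) * x ^ i := by group
        _ = z₂ * (x ^ j * z₁) * x ^ i := by rw [hc₁ _ (S.pow_mem hxS j)]
        _ = z₂ * x ^ j * (z₁ * x ^ i) := by group
    have hZB : ZS S ≤ S ⊓ Subgroup.centralizer ({x} : Set Ω) := by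
      intro z hz
      exact (hBmem z).2 ⟨(mem_ZS.1 hz).1, (mem_ZS.1 hz).2 x hxS⟩
    have hxB : x ∈ S ⊓ Subgroup.centralizer ({x} : Set Ω) := (hBmem x).2 ⟨hxS, rfl⟩
    have h1 := Subgroup.relIndex_mul_relIndex (ZS S) (S ⊓ Subgroup.centralizer ({x} : Set Ω)) S
      hZB hBS
    have h2 := Subgroup.relIndex_mul_relIndex (ZS S) A S hZA d.le
    rw [hZAp, d.idx] at h2
    rw [← h2] at h1
    have hm : (ZS S).relIndex (S ⊓ Subgroup.centralizer ({x} : Set Ω)) ≠ 1 := by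
      intro h
      rw [Subgroup.relIndex_eq_one] at h
      exact hxA (hZA (h hxB))
    have hn : (S ⊓ Subgroup.centralizer ({x} : Set Ω)).relIndex S ≠ 1 := by
      intro h
      rw [Subgroup.relIndex_eq_one] at h
      obtain ⟨s, hs, t, ht, hst⟩ := d.na
      exact hst (hBcomm s (h hs) t (h ht))
    have h3 := (prime_sq_factor hp h1 hm hn).2
    have h4 := huniq _ hBS hBcomm h3
    exact hxA (h4 ▸ hxB)
  have hZ2eq : A ⊓ Z2 S = Z2 S := inf_eq_right.2 hZ2A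
  rw [hZ2eq] at hK hshape
  exact ⟨hidxN, hZ2A, hK, x, hx, hxA, hshape⟩


/-! ### Bridging to the hypotheses as stated -/

theorem Data.of_hyps (hS : IsPGroup p S) (hna : ¬ IsMulCommutative ↥S)
    (hA : A ≤ S ∧ IsMulCommutative ↥A ∧ (A.subgroupOf S).index = p) : Data p S A := by
  obtain ⟨hAS, hAc, hAi⟩ := hA
  refine ⟨hS, hAS, fun a ha b hb => ?_, hAi, ?_⟩
  · exact congrArg Subtype.val (mul_comm' (⟨a, ha⟩ : A) ⟨b, hb⟩)
  · by_contra hcon
    push_neg at hcon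
    exact hna ⟨⟨fun a b => Subtype.ext (hcon a a.2 b b.2)⟩⟩

theorem huniq_of_hyps
    (huniq : ∀ B : Subgroup Ω, B ≤ S → IsMulCommutative ↥B → (B.subgroupOf S).index = p → B = A) :
    ∀ B : Subgroup Ω, B ≤ S → (∀ a ∈ B, ∀ b ∈ B, a * b = b * a) → B.relIndex S = p → B = A :=
  fun B hBS hBc hBi => huniq B hBS ⟨⟨fun a b => Subtype.ext (hBc a a.2 b b.2)⟩⟩ hBi

theorem Data.normalizer_eq (d : Data p S A) : S ⊓ Subgroup.normalizer (A : Set Ω) = S := by
  haveI : Finite A := finite_of_le d.le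
  exact le_antisymm inf_le_left (fun s hs => Subgroup.mem_inf.2
    ⟨hs, mem_normalizer_of_finite_of_conj_mem (fun a ha => d.conj_mem hs ha)⟩)

end

end IdxP
end Cfsg.Agent.Lib.Helper84
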