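import Mathlib
import Cfsg.Prelude.Def_FusionSystem
import Cfsg.Agent.Lib.Helper84.IdxP2

set_option autoImplicit false

/-!
# Counting consequences of `[Z₂(S) : Z(S)] = p` for a `p`-group with an abelian subgroup of index `p`
-/

namespace Cfsg.Agent.Lib.Helper84
namespace IdxP

open Cfsg Cfsg.FusionSystem

variable {Ω : Type*} [Group Ω] {S : Subgroup Ω} [Finite S] {p : ℕ} [Fact p.Prime] {A : Subgroup Ω}

theorem card_subgroupOf_of_le {H K : Subgroup Ω} (h : H ≤ K) :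
    Nat.card (H.subgroupOf K) = Nat.card H :=
  Nat.card_congr (Subgroup.subgroupOfEquivOfLe h).toEquiv

theorem Data.relIndex_Kc (d : Data p S A) {x : Ω} (hx : x ∈ S) (hxA : x ∉ A) (hZ2A : Z2 S ≤ A) :
    (Kc (d.theta hx) 1).relIndex (Kc (d.theta hx) 2) = (ZS S).relIndex (Z2 S) := by
  rw [d.Kc_one hx hxA, d.Kc_two hx hxA, Subgroup.relIndex_subgroupOf hZ2A]

/-- `|Z(S) ∩ S'| = p`. -/
theorem Data.card_Z_inf_Sd (d : Data p S A) {x : Ω} (hx : x ∈ S) (hxA : x ∉ A) (hZ2A : Z2 S ≤ A)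
    (hK : (ZS S).relIndex (Z2 S) = p) : Nat.card ↥(ZS S ⊓ Sd S) = p := by
  have h1 := relIndex_Kc_one_two (d.theta hx)
  rw [d.relIndex_Kc hx hxA hZ2A, hK, d.Kc_one hx hxA, d.range_theta hx hxA] at h1
  have h2 : (Sd S).subgroupOf A ⊓ (ZS S).subgroupOf A = (ZS S ⊓ Sd S).subgroupOf A := by
    ext a
    simp only [Subgroup.mem_inf, Subgroup.mem_subgroupOf]
    tauto
  rw [h2, card_subgroupOf_of_le (inf_le_left.trans d.Z_le)] at h1
  exact h1.symm

/-- `[A : Z(S) S'] = p`. -/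
theorem Data.index_Z_sup_Sd (d : Data p S A) {x : Ω} (hx : x ∈ S) (hxA : x ∉ A) (hZ2A : Z2 S ≤ A)
    (hK : (ZS S).relIndex (Z2 S) = p) : ((ZS S ⊔ Sd S).subgroupOf A).index = p := by
  have hp : p.Prime := Fact.out
  haveI : Finite A := finite_of_le d.le
  rw [Subgroup.subgroupOf_sup d.Z_le d.Sd_le, ← d.theta_ker hx hxA, ← d.range_theta hx hxA]
  have h1 : (d.theta hx).ker.relIndex ((d.theta hx).ker ⊔ (d.theta hx).range) *
      ((d.theta hx).ker ⊔ (d.theta hx).range).index = (d.theta hx).ker.index :=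
    Subgroup.relIndex_mul_index le_sup_left
  rw [Subgroup.relIndex_sup_left, Subgroup.index_ker] at h1
  have h2 := card_mul_relIndex (inf_le_right : (d.theta hx).ker ⊓ (d.theta hx).range ≤
    (d.theta hx).range)
  rw [Subgroup.inf_relIndex_right] at h2
  have h3 : Nat.card ↥((d.theta hx).ker ⊓ (d.theta hx).range) = p := by
    rw [d.theta_ker hx hxA, d.range_theta hx hxA]
    have h4 : (ZS S).subgroupOf A ⊓ (Sd S).subgroupOf A = (ZS S ⊓ Sd S).subgroupOf A := by
      ext a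
      simp only [Subgroup.mem_inf, Subgroup.mem_subgroupOf]
    rw [h4, card_subgroupOf_of_le (inf_le_left.trans d.Z_le)]
    exact d.card_Z_inf_Sd hx hxA hZ2A hK
  rw [h3] at h2
  rw [← h2] at h1
  have h5 : (d.theta hx).ker.relIndex (d.theta hx).range ≠ 0 := by
    intro h0
    rw [h0, mul_zero] at h2
    exact Nat.card_pos.ne h2
  have h6 : (d.theta hx).ker.relIndex (d.theta hx).range *
      ((d.theta hx).ker ⊔ (d.theta hx).range).index =
      (d.theta hx).ker.relIndex (d.theta hx).range * p := by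
    rw [h1, mul_comm]
  exact Nat.eq_of_mul_eq_mul_left (Nat.pos_of_ne_zero h5) h6

/-- if the `(k+1)`-st iterate of `θ` vanishes then `|A| ≤ pᵏ |Z(S)|`. -/
theorem Data.card_le_of_iterate (d : Data p S A) {x : Ω} (hx : x ∈ S) (hxA : x ∉ A)
    (hZ2A : Z2 S ≤ A) (hK : (ZS S).relIndex (Z2 S) = p) (k : ℕ)
    (h : ∀ a : ↥A, ((d.theta hx)^[k + 1]) a = 1) : Nat.card A ≤ p ^ k * Nat.card (ZS S) := by
  haveI : Finite A := finite_of_le d.le
  have h1 : Kc (d.theta hx) (k + 1) = ⊤ := by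
    rw [eq_top_iff]
    intro a _
    rw [mem_Kc_iff]
    exact h a
  have h2 := card_Kc_le (d.theta hx) (n := p) (by rw [d.relIndex_Kc hx hxA hZ2A, hK]) k
  rw [h1, d.Kc_one hx hxA, card_subgroupOf_of_le d.Z_le] at h2
  have h3 : Nat.card (⊤ : Subgroup ↥A) = Nat.card A := Nat.card_congr Subgroup.topEquiv.toEquiv
  rw [h3] at h2
  exact h2

theorem Data.card_eq (d : Data p S A) : Nat.card A * p = Nat.card S := by
  have h := card_mul_relIndex d.le
  rwa [d.idx] at h

end IdxP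
end Cfsg.Agent.Lib.Helper84
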