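import Mathlib
import Cfsg.Prelude.Def_FusionSystem
import Cfsg.Agent.Lib.Helper84.IdxP3

set_option autoImplicit false

/-!
# Reflections on the centre coming from abelian essential subgroups
-/

namespace Cfsg.Agent.Lib.Helper84
namespace IdxP

open Cfsg Cfsg.FusionSystem

theorem exists_pow_eq_of_prime_order {G : Type*} [Group G] {p : ℕ} (hp : p.Prime) {g : G}
    (hg : g ^ p = 1) {i : ℕ} (hi : g ^ i ≠ 1) (m : ℕ) : ∃ k : ℕ, (g ^ i) ^ k = g ^ m := by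
  have hg1 : g ≠ 1 := by
    rintro rfl
    exact hi (one_pow i)
  haveI : Fact p.Prime := ⟨hp⟩
  have hord : orderOf g = p := orderOf_eq_prime hg hg1
  have hcop : Nat.Coprime i p := by
    rw [Nat.coprime_comm, Nat.Prime.coprime_iff_not_dvd hp]
    intro hdvd
    apply hi
    rw [← hord] at hdvd
    exact orderOf_dvd_iff_pow_eq_one.1 hdvd
  obtain ⟨k', -, hk'⟩ := Nat.exists_mul_mod_eq_one_of_coprime hcop hp.one_lt
  refine ⟨k' * m, ?_⟩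
  rw [← pow_mul, ← mul_assoc, pow_mul, ← pow_mod_orderOf g (i * k'), hord, hk', pow_one]

theorem pow_apply_of_apply_eq {P : Type*} [Group P] {w : MulAut P} {y : P} (h : w y = y) (k : ℕ) :
    (w ^ k) y = y := by
  induction k with
  | zero => rfl
  | succ k ih => rw [pow_succ, MulAut.mul_apply, h, ih]

/-- the `SL₂(p)`-element `-1`: from two "transvections" `u`, `φ u φ⁻¹` on an abelian group in
general position one obtains an automorphism inverting the centre direction `c`. -/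
theorem exists_reflection {P : Type*} [Group P] [Finite P] (hcomm : ∀ a b : P, a * b = b * a)
    {p : ℕ} (hp : p.Prime) (Zs : Subgroup P) {c : P} (hcZ : c ∈ Zs) (hcp : c ^ p = 1)
    (u φ : MulAut P) (hu1 : ∀ z ∈ Zs, u z = z) (hu2 : ∀ y, y⁻¹ * u y ∈ Subgroup.zpowers c)
    (hu3 : ∀ y, u y = y → y ∈ Zs) (hn1 : φ c ∉ Zs) (hn2 : φ⁻¹ c ∉ Zs) :
    ∃ τ ∈ Subgroup.closure ({u, φ * u * φ⁻¹} : Set (MulAut P)),
      τ c = c⁻¹ ∧ (∀ z ∈ Zs, φ⁻¹ z ∈ Zs → τ z = z) ∧ (∀ y, τ y * y ∈ Zs) ∧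
      ∀ z ∈ Zs, ∃ d ∈ Zs, φ⁻¹ d ∈ Zs ∧ ∃ i : ℕ, z = d * c ^ i := by
  letI : CommGroup P := { ‹Group P› with mul_comm := hcomm }
  have hvapp : ∀ y, (φ * u * φ⁻¹) y = φ (u (φ⁻¹ y)) := fun y => rfl
  have he₂p : (φ c) ^ p = 1 := by rw [← map_pow, hcp, map_one]
  have hve₂ : (φ * u * φ⁻¹) (φ c) = φ c := by
    rw [hvapp, MulAut.inv_apply_self, hu1 c hcZ]
  have hv1 : ∀ y, φ⁻¹ y ∈ Zs → (φ * u * φ⁻¹) y = y := by
    intro y hy
    rw [hvapp, hu1 _ hy, MulAut.apply_inv_self]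
  have hv3 : ∀ y, (φ * u * φ⁻¹) y = y → φ⁻¹ y ∈ Zs := by
    intro y hy
    apply hu3
    rw [hvapp] at hy
    have h1 := congrArg (fun w => φ⁻¹ w) hy
    simp only [MulAut.inv_apply_self] at h1
    exact h1
  have hpowc : ∀ y, ∃ i : ℕ, u y = y * c ^ i := by
    intro y
    have h1 := hu2 y
    rw [← mem_powers_iff_mem_zpowers] at h1
    obtain ⟨i, hi⟩ := h1
    refine ⟨i, ?_⟩
    have hi' : c ^ i = y⁻¹ * u y := hi
    rw [hi', mul_inv_cancel_left]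
  have hpowe : ∀ y, ∃ j : ℕ, (φ * u * φ⁻¹) y = y * (φ c) ^ j := by
    intro y
    obtain ⟨j, hj⟩ := hpowc (φ⁻¹ y)
    refine ⟨j, ?_⟩
    rw [hvapp, hj, map_mul, map_pow, MulAut.apply_inv_self]
  obtain ⟨i₀, hi₀⟩ := hpowc (φ c)
  have hi₀1 : c ^ i₀ ≠ 1 := by
    intro h
    rw [h, mul_one] at hi₀
    exact hn1 (hu3 _ hi₀)
  obtain ⟨j₀, hj₀⟩ := hpowe c
  have hj₀1 : (φ c) ^ j₀ ≠ 1 := by
    intro h
    rw [h, mul_one] at hj₀
    exact hn2 (hv3 _ hj₀)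
  have hupow : ∀ (k : ℕ) (y : P) (i : ℕ), u y = y * c ^ i → (u ^ k) y = y * (c ^ i) ^ k := by
    intro k y i hy
    have h1 : y⁻¹ * u y = c ^ i := by rw [hy, inv_mul_cancel_left]
    have hfix : u (y⁻¹ * u y) = y⁻¹ * u y := hu1 _ (by rw [h1]; exact Zs.pow_mem hcZ i)
    rw [pow_apply_of_fixed hfix, h1]
  have hvpow : ∀ (k : ℕ) (y : P) (j : ℕ), (φ * u * φ⁻¹) y = y * (φ c) ^ j →
      ((φ * u * φ⁻¹) ^ k) y = y * ((φ c) ^ j) ^ k := by
    intro k y j hy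
    have h1 : y⁻¹ * (φ * u * φ⁻¹) y = (φ c) ^ j := by rw [hy, inv_mul_cancel_left]
    have hfix : (φ * u * φ⁻¹) (y⁻¹ * (φ * u * φ⁻¹) y) = y⁻¹ * (φ * u * φ⁻¹) y := by
      apply hv1
      rw [h1, ← map_pow, MulAut.inv_apply_self]
      exact Zs.pow_mem hcZ j
    rw [pow_apply_of_fixed hfix, h1]
  obtain ⟨k, hk⟩ := exists_pow_eq_of_prime_order hp hcp hi₀1 1
  obtain ⟨l, hl⟩ := exists_pow_eq_of_prime_order hp he₂p hj₀1 (p - 1)
  have he₂inv : (φ c) ^ (p - 1) = (φ c)⁻¹ := by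
    rw [eq_inv_iff_mul_eq_one, ← pow_succ, Nat.sub_add_cancel hp.one_le, he₂p]
  have hu₁e₂ : (u ^ k) (φ c) = φ c * c := by rw [hupow k _ i₀ hi₀, hk, pow_one]
  have hu₁c : (u ^ k) c = c := pow_apply_of_apply_eq (hu1 c hcZ) k
  have hv₁c : ((φ * u * φ⁻¹) ^ l) c = c * (φ c)⁻¹ := by rw [hvpow l c j₀ hj₀, hl, he₂inv]
  have hv₁e₂ : ((φ * u * φ⁻¹) ^ l) (φ c) = φ c := pow_apply_of_apply_eq hve₂ l
  have hnapp : ∀ y, (u ^ k * (φ * u * φ⁻¹) ^ l * u ^ k) y =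
      (u ^ k) (((φ * u * φ⁻¹) ^ l) ((u ^ k) y)) := fun y => rfl
  have hnc : (u ^ k * (φ * u * φ⁻¹) ^ l * u ^ k) c = (φ c)⁻¹ := by
    rw [hnapp, hu₁c, hv₁c, map_mul, map_inv, hu₁c, hu₁e₂, mul_inv_rev, mul_inv_cancel_left]
  have hne₂ : (u ^ k * (φ * u * φ⁻¹) ^ l * u ^ k) (φ c) = c := by
    rw [hnapp, hu₁e₂, map_mul, hv₁e₂, hv₁c, map_mul, map_mul, map_inv, hu₁e₂, hu₁c,
      mul_left_comm, mul_inv_cancel, mul_one]
  have hτapp : ∀ y, ((u ^ k * (φ * u * φ⁻¹) ^ l * u ^ k) * (u ^ k * (φ * u * φ⁻¹) ^ l * u ^ k)) y =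
      (u ^ k * (φ * u * φ⁻¹) ^ l * u ^ k) ((u ^ k * (φ * u * φ⁻¹) ^ l * u ^ k) y) := fun y => rfl
  have hτc : ((u ^ k * (φ * u * φ⁻¹) ^ l * u ^ k) * (u ^ k * (φ * u * φ⁻¹) ^ l * u ^ k)) c = c⁻¹ := by
    rw [hτapp, hnc, map_inv, hne₂]
  have hτe₂ : ((u ^ k * (φ * u * φ⁻¹) ^ l * u ^ k) * (u ^ k * (φ * u * φ⁻¹) ^ l * u ^ k)) (φ c) =
      (φ c)⁻¹ := by
    rw [hτapp, hne₂, hnc]
  have hB : ∀ z ∈ Zs, φ⁻¹ z ∈ Zs →
      ((u ^ k * (φ * u * φ⁻¹) ^ l * u ^ k) * (u ^ k * (φ * u * φ⁻¹) ^ l * u ^ k)) z = z := by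
    intro z hz hz'
    have h1 : (u ^ k) z = z := pow_apply_of_apply_eq (hu1 z hz) k
    have h2 : ((φ * u * φ⁻¹) ^ l) z = z := pow_apply_of_apply_eq (hv1 z hz') l
    have h3 : (u ^ k * (φ * u * φ⁻¹) ^ l * u ^ k) z = z := by rw [hnapp, h1, h2, h1]
    rw [hτapp, h3, h3]
  have hD : ∀ z ∈ Zs, ∃ d ∈ Zs, φ⁻¹ d ∈ Zs ∧ ∃ i : ℕ, z = d * c ^ i := by
    intro z hz
    obtain ⟨j, hj⟩ := hpowe z
    obtain ⟨m, hm⟩ := exists_pow_eq_of_prime_order hp he₂p hj₀1 j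
    refine ⟨z * (c ^ m)⁻¹, Zs.mul_mem hz (Zs.inv_mem (Zs.pow_mem hcZ m)), ?_, m, ?_⟩
    · apply hv3
      rw [map_mul, map_inv, map_pow, hj, hj₀, mul_pow, hm, mul_inv_rev, mul_assoc,
        mul_inv_cancel_left]
    · rw [inv_mul_cancel_right]
  refine ⟨_, ?_, hτc, hB, ?_, hD⟩
  · have hu : u ∈ Subgroup.closure ({u, φ * u * φ⁻¹} : Set (MulAut P)) :=
      Subgroup.subset_closure (Set.mem_insert _ _)
    have hv : φ * u * φ⁻¹ ∈ Subgroup.closure ({u, φ * u * φ⁻¹} : Set (MulAut P)) :=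
      Subgroup.subset_closure (Set.mem_insert_of_mem _ rfl)
    have hn := Subgroup.mul_mem _ (Subgroup.mul_mem _ (Subgroup.pow_mem _ hu k)
      (Subgroup.pow_mem _ hv l)) (Subgroup.pow_mem _ hu k)
    exact Subgroup.mul_mem _ hn hn
  · intro y
    obtain ⟨i, hi⟩ := hpowc y
    obtain ⟨m, hm⟩ := exists_pow_eq_of_prime_order hp hcp hi₀1 i
    have hw : y * ((φ c) ^ m)⁻¹ ∈ Zs := by
      apply hu3
      rw [map_mul, map_inv, map_pow, hi, hi₀, mul_pow, hm, mul_inv_rev, mul_assoc,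
        mul_inv_cancel_left]
    obtain ⟨d, hd, hd', i', hw'⟩ := hD _ hw
    have hy : y = d * c ^ i' * (φ c) ^ m := by rw [← hw', inv_mul_cancel_right]
    have h1 : ((u ^ k * (φ * u * φ⁻¹) ^ l * u ^ k) * (u ^ k * (φ * u * φ⁻¹) ^ l * u ^ k)) y =
        d * (c⁻¹) ^ i' * ((φ c)⁻¹) ^ m := by
      rw [hy, map_mul, map_mul, map_pow, map_pow, hB d hd hd', hτc, hτe₂]
    rw [h1, hy]
    have h2 : d * c⁻¹ ^ i' * (φ c)⁻¹ ^ m * (d * c ^ i' * (φ c) ^ m) = d * d := by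
      rw [inv_pow, inv_pow]
      calc d * (c ^ i')⁻¹ * ((φ c) ^ m)⁻¹ * (d * c ^ i' * (φ c) ^ m)
          = d * d * ((c ^ i')⁻¹ * c ^ i') * (((φ c) ^ m)⁻¹ * (φ c) ^ m) := by
            simp only [mul_assoc, mul_comm, mul_left_comm]
        _ = d * d := by rw [inv_mul_cancel, inv_mul_cancel, mul_one, mul_one]
    rw [h2]
    exact Zs.mul_mem hd hd


variable {Ω : Type*} [Group Ω] {S : Subgroup Ω} [Finite S] {p : ℕ} [Fact p.Prime] {A : Subgroup Ω}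

/-! ### Big subgroups: restrictions to the centre come from `Aut_F(S)` -/

/-- subgroups containing the centre of `S`, not contained in `A`, and nonabelian. -/
def Big (S A Q : Subgroup Ω) : Prop :=
  ZS S ≤ Q ∧ ¬ Q ≤ A ∧ ∃ y ∈ Q, ∃ y' ∈ Q, y * y' ≠ y' * y

theorem Big.mono {Q Q' : Subgroup Ω} (h : Big S A Q) (hle : Q ≤ Q') (hQ'A : ¬ Q' ≤ A) :
    Big S A Q' := by
  obtain ⟨h1, -, y, hy, y', hy', h3⟩ := h
  exact ⟨h1.trans hle, hQ'A, y, hle hy, y', hle hy', h3⟩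

theorem Data.not_le_of_nonabelian (d : Data p S A) {Q : Subgroup Ω}
    (h : ∃ y ∈ Q, ∃ y' ∈ Q, y * y' ≠ y' * y) : ¬ Q ≤ A := by
  intro hle
  obtain ⟨y, hy, y', hy', h3⟩ := h
  exact h3 (d.comm y (hle hy) y' (hle hy'))

/-- the centre of a big subgroup is the centre of `S`. -/
theorem Data.center_of_big (d : Data p S A) {Q : Subgroup Ω} (hQS : Q ≤ S) (hQ : Big S A Q) :
    ∀ y ∈ Q, (∀ y' ∈ Q, y' * y = y * y') → y ∈ ZS S := by
  obtain ⟨-, hQA, y₁, hy₁, y₂, hy₂, hy12⟩ := hQ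
  obtain ⟨x, hx, hxA⟩ := SetLike.not_le_iff_exists.1 hQA
  have hxS : x ∈ S := hQS hx
  have hZne : ¬ Q ⊓ A ≤ ZS S := by
    intro hle
    apply hy12
    obtain ⟨b₁, hb₁, i, rfl⟩ := d.exists_mul_pow hxS hxA (hQS hy₁)
    obtain ⟨b₂, hb₂, j, rfl⟩ := d.exists_mul_pow hxS hxA (hQS hy₂)
    have hb₁P : b₁ ∈ Q := by
      have h1 : b₁ = b₁ * x ^ i * (x ^ i)⁻¹ := by group
      rw [h1]
      exact Q.mul_mem hy₁ (Q.inv_mem (Q.pow_mem hx i))
    have hb₂P : b₂ ∈ Q := by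
      have h1 : b₂ = b₂ * x ^ j * (x ^ j)⁻¹ := by group
      rw [h1]
      exact Q.mul_mem hy₂ (Q.inv_mem (Q.pow_mem hx j))
    have hz₁ := (mem_ZS.1 (hle ⟨hb₁P, hb₁⟩)).2
    have hz₂ := (mem_ZS.1 (hle ⟨hb₂P, hb₂⟩)).2
    have hc : x ^ i * x ^ j = x ^ j * x ^ i := by rw [← pow_add, ← pow_add, add_comm]
    calc b₁ * x ^ i * (b₂ * x ^ j) = b₁ * (x ^ i * b₂) * x ^ j := by group
      _ = b₁ * (b₂ * x ^ i) * x ^ j := by rw [hz₂ _ (S.pow_mem hxS i)]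
      _ = (b₁ * b₂) * (x ^ i * x ^ j) := by group
      _ = (b₂ * b₁) * (x ^ j * x ^ i) := by rw [d.comm b₁ hb₁ b₂ hb₂, hc]
      _ = b₂ * (b₁ * x ^ j) * x ^ i := by group
      _ = b₂ * (x ^ j * b₁) * x ^ i := by rw [hz₁ _ (S.pow_mem hxS j)]
      _ = b₂ * x ^ j * (b₁ * x ^ i) := by group
  intro y hy hyc
  by_cases hyA : y ∈ A
  · exact d.mem_Z_of_comm hxS hxA hyA (hyc x hx).symm
  · exfalso
    apply hZne
    intro b hb
    exact d.mem_Z_of_comm (hQS hy) hyA hb.2 (hyc b hb.1)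

/-- automorphisms of a big subgroup preserve the centre of `S`. -/
theorem Data.aut_mem_ZS (d : Data p S A) {Q : Subgroup Ω} (hQS : Q ≤ S) (hQ : Big S A Q)
    (ψ : MulAut Q) (y : Q) (hy : (y : Ω) ∈ ZS S) : ((ψ y : Q) : Ω) ∈ ZS S := by
  apply d.center_of_big hQS hQ _ (ψ y).2
  intro y' hy'
  have h1 : ψ⁻¹ ⟨y', hy'⟩ * y = y * ψ⁻¹ ⟨y', hy'⟩ :=
    Subtype.ext ((mem_ZS.1 hy).2 _ (hQS (ψ⁻¹ ⟨y', hy'⟩).2))
  have h2 := congrArg (fun w : Q => ((ψ w : Q) : Ω)) h1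
  simp only [map_mul, MulAut.apply_inv_self, Subgroup.coe_mul] at h2
  exact h2

theorem top_aut_mem_ZS (β : MulAut S) (z : S) (hz : (z : Ω) ∈ ZS S) : ((β z : S) : Ω) ∈ ZS S := by
  rw [mem_ZS]
  refine ⟨(β z).2, fun s hs => ?_⟩
  have h1 : β⁻¹ ⟨s, hs⟩ * z = z * β⁻¹ ⟨s, hs⟩ :=
    Subtype.ext ((mem_ZS.1 hz).2 _ (β⁻¹ ⟨s, hs⟩).2)
  have h2 := congrArg (fun w : S => ((β w : S) : Ω)) h1
  simp only [map_mul, MulAut.apply_inv_self, Subgroup.coe_mul] at h2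
  exact h2

/-- automorphisms of a fully automized, receptive big subgroup: the restriction to the centre
comes from `Aut_F(S)`, provided this holds for all maps on strictly bigger subgroups. -/
theorem Data.aut_restrict_center (d : Data p S A) (F : FusionSystem S) {Q' : Subgroup Ω}
    (hQ'S : Q' ≤ S) (hBig : Big S A Q') (hne : Q' ≠ S)
    (hfa : F.IsFullyAutomized p Q') (hrec : F.IsReceptive Q')
    (IH : ∀ Q'' : Subgroup Ω, Q'' ≤ S → Q' ≤ Q'' → Nat.card Q' < Nat.card Q'' →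
      ∀ ψ ∈ F.Hom Q'', ∃ β ∈ F.autGroup S, ∀ (z : Ω) (hz : z ∈ ZS S) (hzQ : z ∈ Q''),
        ψ ⟨z, hzQ⟩ = ((β ⟨z, (mem_ZS.1 hz).1⟩ : S) : Ω))
    {α : MulAut Q'} (hα : α ∈ F.autGroup Q') :
    ∃ β ∈ F.autGroup S, ∀ (z : Ω) (hz : z ∈ ZS S) (hzQ : z ∈ Q'),
      ((α ⟨z, hzQ⟩ : Q') : Ω) = ((β ⟨z, (mem_ZS.1 hz).1⟩ : S) : Ω) := by
  haveI : Finite (F.autGroup Q') := finite_autGroup F hQ'S
  haveI : Finite Q' := finite_of_le hQ'S
  obtain ⟨-, R', hR'⟩ := hfa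
  have hZinv := d.aut_mem_ZS hQ'S hBig
  -- the kernel of the action on the centre
  let N : Subgroup ↥(F.autGroup Q') :=
    { carrier := {γ | ∀ y : Q', (y : Ω) ∈ ZS S → (γ : MulAut Q') y = y}
      one_mem' := fun y _ => rfl
      mul_mem' := by
        intro a b ha hb y hy
        show (a : MulAut Q') ((b : MulAut Q') y) = y
        rw [hb y hy, ha y hy]
      inv_mem' := by
        intro a ha y hy
        show (a : MulAut Q')⁻¹ y = y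
        have h1 := ha y hy
        calc (a : MulAut Q')⁻¹ y = (a : MulAut Q')⁻¹ ((a : MulAut Q') y) := by rw [h1]
          _ = y := MulAut.inv_apply_self _ _ _ }
  have hNmem : ∀ γ : ↥(F.autGroup Q'), γ ∈ N ↔ ∀ y : Q', (y : Ω) ∈ ZS S → (γ : MulAut Q') y = y :=
    fun γ => Iff.rfl
  haveI hNn : N.Normal := by
    refine ⟨fun n hn g => ?_⟩
    rw [hNmem] at hn ⊢
    intro y hy
    show (g : MulAut Q') ((n : MulAut Q') ((g : MulAut Q')⁻¹ y)) = y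
    rw [hn _ (hZinv _ y hy), MulAut.apply_inv_self]
  have hR'N : (R' : Subgroup ↥(F.autGroup Q')) ≤ N := by
    intro γ hγ
    rw [hR', Subgroup.mem_subgroupOf, mem_autInducedBy_iff] at hγ
    obtain ⟨s, hs, hsγ⟩ := hγ
    rw [hNmem]
    intro y hy
    apply Subtype.ext
    rw [hsγ y, (mem_ZS.1 hy).2 s hs]
    group
  have htop := Sylow.normalizer_sup_eq_top' R' hR'N
  have hmem : (⟨α, hα⟩ : ↥(F.autGroup Q')) ∈ (⊤ : Subgroup ↥(F.autGroup Q')) := Subgroup.mem_top _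
  rw [← htop, ← SetLike.mem_coe, Subgroup.mul_normal] at hmem
  obtain ⟨ν, hν0, κ, hκ, hνκ⟩ := Set.mem_mul.1 hmem
  have hν1 : ν ∈ Subgroup.normalizer
      ((R' : Subgroup ↥(F.autGroup Q')) : Set ↥(F.autGroup Q')) := hν0
  have hν := Subgroup.mem_normalizer_iff.1 hν1
  have hR'mem : ∀ γ : ↥(F.autGroup Q'), γ ∈ (R' : Subgroup ↥(F.autGroup Q')) ↔
      (γ : MulAut Q') ∈ autInducedBy S Q' := by
    intro γ
    rw [hR', Subgroup.mem_subgroupOf]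
  -- `ν` extends to the normalizer
  have hνF : Q'.subtype.comp (ν : MulAut Q').toMonoidHom ∈ F.Hom Q' :=
    (mem_autGroup_iff F hQ'S _).1 ν.2
  have hNext : normalizerIn S Q' ≤ extender S Q' (Q'.subtype.comp (ν : MulAut Q').toMonoidHom) := by
    intro g hg
    rw [mem_extender_iff]
    have hcg : conjN S Q' ⟨g, hg⟩ ∈ autInducedBy S Q' := by
      rw [autInducedBy_eq_range]; exact ⟨_, rfl⟩
    have hcgA : conjN S Q' ⟨g, hg⟩ ∈ F.autGroup Q' := autInducedBy_le_autGroup F hQ'S hcg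
    have h3 := (hR'mem _).1 ((hν ⟨conjN S Q' ⟨g, hg⟩, hcgA⟩).1 ((hR'mem _).2 hcg))
    rw [mem_autInducedBy_iff] at h3
    obtain ⟨h, hhS, hh⟩ := h3
    refine ⟨(mem_normalizerIn.1 hg).1, (Subgroup.mem_inf.1 hg).2, h, hhS, fun x hx => ?_⟩
    have h4 := hh ((ν : MulAut Q') x)
    have e1 : ((((ν * ⟨conjN S Q' ⟨g, hg⟩, hcgA⟩ * ν⁻¹ : F.autGroup Q') : MulAut Q')
        ((ν : MulAut Q') x) : Q') : Ω) =
        (((ν : MulAut Q') (conjN S Q' ⟨g, hg⟩ ((ν : MulAut Q')⁻¹ ((ν : MulAut Q') x))) : Q') : Ω) :=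
      rfl
    rw [e1, MulAut.inv_apply_self] at h4
    exact h4
  obtain ⟨χ, hχ, hχν⟩ := hrec.2 Q' _ hνF (IsFIso.range F hνF)
  obtain ⟨g, hgN, hgQ⟩ := exists_mem_normalizerIn_not_mem d.pgrp hQ'S hne
  have hQ'N : Q' ≤ normalizerIn S Q' := le_normalizerIn hQ'S
  have hextS : extender S Q' (Q'.subtype.comp (ν : MulAut Q').toMonoidHom) ≤ S :=
    (extender_le_normalizerIn S Q' _).trans (normalizerIn_le S Q')
  haveI : Finite ↥(extender S Q' (Q'.subtype.comp (ν : MulAut Q').toMonoidHom)) :=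
    finite_of_le hextS
  have hcard := card_lt_of_le_of_not_mem (hQ'N.trans hNext) (hNext hgN) hgQ
  obtain ⟨β, hβ, hβz⟩ := IH _ hextS (hQ'N.trans hNext) hcard χ hχ
  refine ⟨β, hβ, fun z hz hzQ => ?_⟩
  rw [← hβz z hz (hNext (hQ'N hzQ)), hχν z hzQ (hNext (hQ'N hzQ))]
  have h5 : (α : MulAut Q') ⟨z, hzQ⟩ = (ν : MulAut Q') ((κ : MulAut Q') ⟨z, hzQ⟩) := by
    have h6 : ((ν * κ : ↥(F.autGroup Q')) : MulAut Q') = α := congrArg Subtype.val hνκ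
    rw [← h6]
    rfl
  rw [h5, (hNmem κ).1 hκ ⟨z, hzQ⟩ hz]
  rfl


/-- every map of the system on a big subgroup restricts on the centre of `S` to the restriction of
an element of `Aut_F(S)`. -/
theorem Data.restrict_center (d : Data p S A) (F : FusionSystem S) (hF : F.IsSaturated p) :
    ∀ (n : ℕ) (Q : Subgroup Ω), Q ≤ S → Big S A Q → Nat.card S - Nat.card Q = n →
      ∀ ψ ∈ F.Hom Q, ∃ β ∈ F.autGroup S, ∀ (z : Ω) (hz : z ∈ ZS S) (hzQ : z ∈ Q),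
        ψ ⟨z, hzQ⟩ = ((β ⟨z, (mem_ZS.1 hz).1⟩ : S) : Ω) := by
  intro n
  induction n using Nat.strong_induction_on with
  | _ n IH =>
    intro Q hQS hBig hn ψ hψ
    haveI : Finite Q := finite_of_le hQS
    by_cases hQeq : Q = S
    · subst hQeq
      have hfin : Finite ψ.range := finite_of_le (hom_range_le F hψ)
      have hr : ψ.range = Q := by
        apply Subgroup.eq_of_le_of_card_ge (hom_range_le F hψ)
        exact Nat.card_le_card_of_injective (fun x => (⟨ψ x, x, rfl⟩ : ψ.range))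
          (fun a b hab => F.injective_of_mem hψ (congrArg Subtype.val hab))
      have he := isFIso_isoOfHom F hψ hr
      refine ⟨isoOfHom F hψ hr, (isFIso_aut_iff F le_rfl _).1 he, fun z hz hzQ => ?_⟩
      exact (isoOfHom_apply F hψ hr ⟨z, hzQ⟩).symm
    · obtain ⟨Q', hconj, hfa, hrec, χQ, hχQ, hχQN, eQ, heQ, hχQe⟩ := saturated_data p d.pgrp F hF hQS
      have hQ'S : Q' ≤ S := hrec.1
      haveI : Finite Q' := finite_of_le hQ'S
      have hNQS : normalizerIn S Q ≤ S := normalizerIn_le S Q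
      haveI : Finite ↥(normalizerIn S Q) := finite_of_le hNQS
      have hQN : Q ≤ normalizerIn S Q := le_normalizerIn hQS
      have hcardQ : Nat.card Q < Nat.card S := by
        by_contra hcon
        exact hQeq (Subgroup.eq_of_le_of_card_ge hQS (not_lt.1 hcon))
      -- induction hypothesis for the normalizer of `Q`
      obtain ⟨g, hgN, hgQ⟩ := exists_mem_normalizerIn_not_mem d.pgrp hQS hQeq
      have hcardN := card_lt_of_le_of_not_mem hQN hgN hgQ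
      have hcardNS : Nat.card ↥(normalizerIn S Q) ≤ Nat.card S := Subgroup.card_le_of_le hNQS
      have hBigN : Big S A (normalizerIn S Q) :=
        hBig.mono hQN (fun h => hBig.2.1 (hQN.trans h))
      obtain ⟨β₁, hβ₁, hβ₁z⟩ := IH (Nat.card S - Nat.card ↥(normalizerIn S Q)) (by omega) _ hNQS
        hBigN rfl χQ hχQ
      -- the image of `ψ`
      have hRS : ψ.range ≤ S := hom_range_le F hψ
      haveI : Finite ψ.range := finite_of_le hRS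
      have hconjQR : F.IsConj Q ψ.range := ⟨ψ, hψ, rfl⟩
      have hconjRQ' : F.IsConj ψ.range Q' := isConj_trans F (isConj_symm F hconjQR) hconj
      obtain ⟨χR, hχR, hχRN, -, eR, heR, hχRe⟩ := exists_normalizer_map p d.pgrp F hfa hrec hconjRQ'
      have hinj : Function.Injective ψ := F.injective_of_mem hψ
      have hRna : ∃ y ∈ ψ.range, ∃ y' ∈ ψ.range, y * y' ≠ y' * y := by
        obtain ⟨y, hy, y', hy', hyy'⟩ := hBig.2.2
        refine ⟨ψ ⟨y, hy⟩, ⟨_, rfl⟩, ψ ⟨y', hy'⟩, ⟨_, rfl⟩, fun h => hyy' ?_⟩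
        rw [← map_mul, ← map_mul] at h
        exact congrArg Subtype.val (hinj h)
      have hcardR : Nat.card ψ.range = Nat.card Q :=
        (Nat.card_congr (isoOfHom F hψ rfl).toEquiv).symm
      have hRne : ψ.range ≠ S := by
        intro h
        rw [h] at hcardR
        omega
      have hNRS : normalizerIn S ψ.range ≤ S := normalizerIn_le S _
      haveI : Finite ↥(normalizerIn S ψ.range) := finite_of_le hNRS
      have hRN : ψ.range ≤ normalizerIn S ψ.range := le_normalizerIn hRS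
      obtain ⟨g', hg'N, hg'R⟩ := exists_mem_normalizerIn_not_mem d.pgrp hRS hRne
      have hcardNR := card_lt_of_le_of_not_mem hRN hg'N hg'R
      have hcardNRS : Nat.card ↥(normalizerIn S ψ.range) ≤ Nat.card S := Subgroup.card_le_of_le hNRS
      have hBigNR : Big S A (normalizerIn S ψ.range) := by
        refine ⟨fun z hz => Subgroup.mem_inf.2 ⟨(mem_ZS.1 hz).1,
          mem_normalizer_of_finite_of_conj_mem (fun x hx => ?_)⟩, ?_, ?_⟩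
        · rw [← (mem_ZS.1 hz).2 x (hRS hx)]
          simpa using hx
        · obtain ⟨y, hy, y', hy', hyy'⟩ := hRna
          exact d.not_le_of_nonabelian ⟨y, hRN hy, y', hRN hy', hyy'⟩
        · obtain ⟨y, hy, y', hy', hyy'⟩ := hRna
          exact ⟨y, hRN hy, y', hRN hy', hyy'⟩
      obtain ⟨β₂, hβ₂, hβ₂z⟩ := IH (Nat.card S - Nat.card ↥(normalizerIn S ψ.range)) (by omega) _
        hNRS hBigNR rfl χR hχR
      -- the automorphism of `Q'`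
      have hψ' : IsFIso F (isoOfHom F hψ rfl) := isFIso_isoOfHom F hψ rfl
      have hαF : IsFIso F ((eQ.symm.trans (isoOfHom F hψ rfl)).trans eR) :=
        IsFIso.trans F (IsFIso.trans F (IsFIso.symm F heQ) hψ') heR
      have hα : ((eQ.symm.trans (isoOfHom F hψ rfl)).trans eR : MulAut Q') ∈ F.autGroup Q' :=
        (isFIso_aut_iff F hQ'S _).1 hαF
      -- `Q'` is big
      have hZQ' : ZS S ≤ Q' := by
        intro z hz
        have hz' : ((β₁⁻¹ ⟨z, (mem_ZS.1 hz).1⟩ : S) : Ω) ∈ ZS S := top_aut_mem_ZS _ _ hz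
        have h1 := hβ₁z _ hz' (hQN (hBig.1 hz'))
        have h2 := hχQe ⟨_, hBig.1 hz'⟩
        have h3 : ((β₁ ⟨((β₁⁻¹ ⟨z, (mem_ZS.1 hz).1⟩ : S) : Ω), (mem_ZS.1 hz').1⟩ : S) : Ω) = z := by
          have : (⟨((β₁⁻¹ ⟨z, (mem_ZS.1 hz).1⟩ : S) : Ω), (mem_ZS.1 hz').1⟩ : S) =
              β₁⁻¹ ⟨z, (mem_ZS.1 hz).1⟩ := rfl
          rw [this, MulAut.apply_inv_self]
        rw [h3] at h1
        rw [← h1, h2]
        exact Subtype.property _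
      have hQ'na : ∃ y ∈ Q', ∃ y' ∈ Q', y * y' ≠ y' * y := by
        obtain ⟨y, hy, y', hy', hyy'⟩ := hBig.2.2
        refine ⟨eQ ⟨y, hy⟩, (eQ ⟨y, hy⟩).2, eQ ⟨y', hy'⟩, (eQ ⟨y', hy'⟩).2, fun h => hyy' ?_⟩
        have h1 : eQ (⟨y, hy⟩ * ⟨y', hy'⟩) = eQ (⟨y', hy'⟩ * ⟨y, hy⟩) := by
          rw [map_mul, map_mul]
          exact Subtype.ext h
        exact congrArg Subtype.val (eQ.injective h1)
      have hBigQ' : Big S A Q' := ⟨hZQ', d.not_le_of_nonabelian hQ'na, hQ'na⟩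
      have hcardQ' : Nat.card Q' = Nat.card Q := (Nat.card_congr eQ.toEquiv).symm
      have hQ'ne : Q' ≠ S := by
        intro h
        rw [h] at hcardQ'
        omega
      obtain ⟨β₃, hβ₃, hβ₃z⟩ := d.aut_restrict_center F hQ'S hBigQ' hQ'ne hfa hrec
        (fun Q'' hQ''S hle hcard ψ'' hψ'' => by
          haveI : Finite Q'' := finite_of_le hQ''S
          have hc : Nat.card Q'' ≤ Nat.card S := Subgroup.card_le_of_le hQ''S
          exact IH (Nat.card S - Nat.card Q'') (by omega) Q'' hQ''S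
            (hBigQ'.mono hle (fun h => hBigQ'.2.1 (hle.trans h))) rfl ψ'' hψ'') hα
      refine ⟨β₂⁻¹ * β₃ * β₁, Subgroup.mul_mem _ (Subgroup.mul_mem _ (Subgroup.inv_mem _ hβ₂) hβ₃) hβ₁,
        fun z hz hzQ => ?_⟩
      -- notation
      have hz₁ : ((β₁ ⟨z, (mem_ZS.1 hz).1⟩ : S) : Ω) ∈ ZS S := top_aut_mem_ZS _ _ hz
      have hz₃ : ((β₃ (β₁ ⟨z, (mem_ZS.1 hz).1⟩) : S) : Ω) ∈ ZS S := top_aut_mem_ZS _ _ hz₁
      have hz₄ : ((β₂⁻¹ (β₃ (β₁ ⟨z, (mem_ZS.1 hz).1⟩)) : S) : Ω) ∈ ZS S := top_aut_mem_ZS _ _ hz₃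
      show ψ ⟨z, hzQ⟩ = ((β₂⁻¹ (β₃ (β₁ ⟨z, (mem_ZS.1 hz).1⟩)) : S) : Ω)
      -- `eQ z = β₁ z`
      have e1 : ((eQ ⟨z, hzQ⟩ : Q') : Ω) = ((β₁ ⟨z, (mem_ZS.1 hz).1⟩ : S) : Ω) := by
        rw [← hχQe ⟨z, hzQ⟩]
        exact hβ₁z z hz (hQN hzQ)
      -- `α (eQ z) = eR (ψ z)`
      have e2 : ((eQ.symm.trans (isoOfHom F hψ rfl)).trans eR : MulAut Q') (eQ ⟨z, hzQ⟩) =
          eR (isoOfHom F hψ rfl ⟨z, hzQ⟩) := by
        show eR (isoOfHom F hψ rfl (eQ.symm (eQ ⟨z, hzQ⟩))) = _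
        rw [MulEquiv.symm_apply_apply]
      have e3 := hβ₃z _ hz₁ (hZQ' hz₁)
      have e4 : (⟨((β₁ ⟨z, (mem_ZS.1 hz).1⟩ : S) : Ω), hZQ' hz₁⟩ : Q') = eQ ⟨z, hzQ⟩ :=
        Subtype.ext e1.symm
      rw [e4, e2] at e3
      -- apply `χR`
      have e5 := hχRe (isoOfHom F hψ rfl ⟨z, hzQ⟩)
      have e6 := hβ₂z _ hz₄ (hBigNR.1 hz₄)
      have e7 : ((β₂ ⟨((β₂⁻¹ (β₃ (β₁ ⟨z, (mem_ZS.1 hz).1⟩)) : S) : Ω), (mem_ZS.1 hz₄).1⟩ : S) : Ω) =
          ((β₃ (β₁ ⟨z, (mem_ZS.1 hz).1⟩) : S) : Ω) := by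
        have : (⟨((β₂⁻¹ (β₃ (β₁ ⟨z, (mem_ZS.1 hz).1⟩)) : S) : Ω), (mem_ZS.1 hz₄).1⟩ : S) =
            β₂⁻¹ (β₃ (β₁ ⟨z, (mem_ZS.1 hz).1⟩)) := rfl
        rw [this, MulAut.apply_inv_self]
      rw [e7] at e6
      have hχRinj : Function.Injective χR := F.injective_of_mem hχR
      have e8 : χR ⟨((isoOfHom F hψ rfl ⟨z, hzQ⟩ : ψ.range) : Ω), hRN (isoOfHom F hψ rfl ⟨z, hzQ⟩).2⟩ =
          χR ⟨((β₂⁻¹ (β₃ (β₁ ⟨z, (mem_ZS.1 hz).1⟩)) : S) : Ω), hBigNR.1 hz₄⟩ := by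
        rw [e6, ← e3]
        exact e5
      have e9 := congrArg Subtype.val (hχRinj e8)
      rw [← e9]
      exact (isoOfHom_apply F hψ rfl ⟨z, hzQ⟩).symm

end IdxP
end Cfsg.Agent.Lib.Helper84
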