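import Mathlib
import Cfsg.Prelude.Def_FusionSystem
import Cfsg.Agent.Lib.Helper84.IdxP4
import Cfsg.Agent.Lib.Helper84.FusionApps

set_option autoImplicit false

/-!
# The case where the abelian subgroup of index `p` is not essential and the core is trivial
-/

namespace Cfsg.Agent.Lib.Helper84
namespace IdxP

open Cfsg Cfsg.FusionSystem

theorem apply_mem_zpowers_iff {P : Type*} [Group P] (ψ : MulAut P) (c y : P) :
    ψ y ∈ Subgroup.zpowers (ψ c) ↔ y ∈ Subgroup.zpowers c := by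
  rw [Subgroup.mem_zpowers_iff, Subgroup.mem_zpowers_iff]
  constructor
  · rintro ⟨k, hk⟩
    refine ⟨k, ψ.injective ?_⟩
    rw [map_zpow, hk]
  · rintro ⟨k, rfl⟩
    exact ⟨k, (map_zpow ψ c k).symm⟩

/-- a reflection commutes with the transvections in the direction it inverts. -/
theorem refl_comm {P : Type*} [Group P] (hcomm : ∀ a b : P, a * b = b * a) (Zs : Subgroup P) {c : P}
    {τ w : MulAut P} (hτc : τ c = c⁻¹) (hτZ : ∀ y, τ y * y ∈ Zs)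
    (hw1 : ∀ z ∈ Zs, w z = z) (hw2 : ∀ y, y⁻¹ * w y ∈ Subgroup.zpowers c) (y : P) :
    τ (w y) = w (τ y) := by
  obtain ⟨k, hk⟩ := Subgroup.mem_zpowers_iff.1 (hw2 y)
  have e1 : w y = y * c ^ k := by rw [hk, mul_inv_cancel_left]
  have e2 : w (τ y * y) = τ y * y := hw1 _ (hτZ y)
  rw [map_mul] at e2
  have e3 : w (τ y) = τ y * y * (w y)⁻¹ := by rw [← e2, mul_inv_cancel_right]
  rw [e3, e1, map_mul, map_zpow, hτc, mul_inv_rev, inv_zpow, mul_assoc, hcomm ((c ^ k)⁻¹) y⁻¹,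
    mul_inv_cancel_left]

variable {Ω : Type*} [Group Ω] {S : Subgroup Ω}

/-- the part of the centre of `S` that `φ⁻¹` keeps in the centre. -/
def Dsub (S : Subgroup Ω) {P : Subgroup Ω} (φ : MulAut P) : Subgroup Ω :=
  (((ZS S).subgroupOf P) ⊓ ((ZS S).subgroupOf P).map φ.toMonoidHom).map P.subtype

theorem mem_Dsub {P : Subgroup Ω} (φ : MulAut P) {g : Ω} :
    g ∈ Dsub S φ ↔ ∃ h : g ∈ P, g ∈ ZS S ∧ ((φ⁻¹ ⟨g, h⟩ : P) : Ω) ∈ ZS S := by
  constructor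
  · rintro ⟨y, ⟨hy1, z, hz, hzy⟩, rfl⟩
    refine ⟨y.2, Subgroup.mem_subgroupOf.1 hy1, ?_⟩
    have h1 : φ⁻¹ ⟨(P.subtype y), y.2⟩ = z := by
      subst hzy
      exact MulAut.inv_apply_self _ _ _
    rw [h1]
    exact Subgroup.mem_subgroupOf.1 hz
  · rintro ⟨h, h1, h2⟩
    exact ⟨⟨g, h⟩, ⟨Subgroup.mem_subgroupOf.2 h1, φ⁻¹ ⟨g, h⟩, Subgroup.mem_subgroupOf.2 h2,
      MulAut.apply_inv_self _ _ _⟩, rfl⟩

/-- `β` acts on the centre of `S` as a reflection with fixed space `D` and inverted line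
`Z(S) ∩ S'`. -/
def IsRefl (S : Subgroup Ω) (β : MulAut S) (D : Subgroup Ω) : Prop :=
  D ≤ ZS S ∧ (∀ z : S, (z : Ω) ∈ D → β z = z) ∧
    (∀ z : S, (z : Ω) ∈ ZS S ⊓ Sd S → β z = z⁻¹) ∧
    ∀ z ∈ ZS S, ∃ d ∈ D, ∃ z₀ ∈ ZS S ⊓ Sd S, z = d * z₀

theorem top_aut_mem_Sd (β : MulAut S) (z : S) (hz : (z : Ω) ∈ Sd S) : ((β z : S) : Ω) ∈ Sd S := by
  obtain ⟨w, hw, hwz⟩ := hz
  have hzw : w = z := Subtype.ext hwz
  subst hzw
  refine ⟨β w, ?_, rfl⟩
  have h1 := (Subgroup.characteristic_iff_comap_eq.1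
    (inferInstance : (commutator ↥S).Characteristic)) β
  have h2 : w ∈ (commutator ↥S).comap β.toMonoidHom := by
    rw [h1]
    exact hw
  exact h2

section

variable [Finite S] {p : ℕ} [Fact p.Prime] {A : Subgroup Ω}

/-- the fixed space of a reflection is determined by the inverted line. -/
theorem refl_unique (F : FusionSystem S) (hF : F.IsSaturated p) (hp2 : p ≠ 2)
    (hcard : Nat.card ↥(ZS S ⊓ Sd S) = p)
    {β : MulAut S} {D : Subgroup Ω} (hβ : β ∈ F.autGroup S) (hr : IsRefl S β D)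
    {γ : MulAut S} (hγ : γ ∈ F.autGroup S) (hγ0 : ∀ z : S, (z : Ω) ∈ ZS S ⊓ Sd S → γ z = z⁻¹)
    {z : S} (hz : (z : Ω) ∈ ZS S) (hγz : γ z = z) : (z : Ω) ∈ D := by
  have hpp : p.Prime := Fact.out
  obtain ⟨hD, hβD, hβ0, hdec⟩ := hr
  obtain ⟨d₀, hd₀, z₀, hz₀, hzd⟩ := hdec _ hz
  have hd₀S : d₀ ∈ S := (mem_ZS.1 (hD hd₀)).1
  have hz₀S : z₀ ∈ S := (mem_ZS.1 hz₀.1).1
  have hzeq : z = ⟨d₀, hd₀S⟩ * ⟨z₀, hz₀S⟩ := Subtype.ext hzd
  have hδ : β * γ⁻¹ ∈ F.autGroup S := Subgroup.mul_mem _ hβ (Subgroup.inv_mem _ hγ)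
  have hγinv : γ⁻¹ z = z := by
    calc γ⁻¹ z = γ⁻¹ (γ z) := by rw [hγz]
      _ = z := MulAut.inv_apply_self _ _ _
  have hγz₀ : γ⁻¹ (⟨z₀, hz₀S⟩ : S)⁻¹ = ⟨z₀, hz₀S⟩ := by
    rw [← hγ0 ⟨z₀, hz₀S⟩ hz₀]
    exact MulAut.inv_apply_self _ _ _
  have hδz : (β * γ⁻¹) z = ⟨d₀, hd₀S⟩ * (⟨z₀, hz₀S⟩ : S)⁻¹ := by
    rw [MulAut.mul_apply, hγinv, hzeq, map_mul, hβD _ hd₀, hβ0 _ hz₀]
  have hw : z⁻¹ * (β * γ⁻¹) z = (⟨z₀, hz₀S⟩ : S)⁻¹ * (⟨z₀, hz₀S⟩ : S)⁻¹ := by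
    rw [hδz, hzeq]
    group
  have hδw : (β * γ⁻¹) (z⁻¹ * (β * γ⁻¹) z) = z⁻¹ * (β * γ⁻¹) z := by
    rw [hw, map_mul, MulAut.mul_apply, hγz₀, hβ0 _ hz₀]
  haveI : Finite (F.autGroup S) := finite_autGroup F le_rfl
  obtain ⟨-, R, hR⟩ := (Helper88.saturated_top hF).1
  haveI hRn : ((autInducedBy S S).subgroupOf (F.autGroup S)).Normal := by
    refine ⟨fun n hn g => ?_⟩
    rw [Subgroup.mem_subgroupOf, mem_autInducedBy_iff] at hn ⊢
    obtain ⟨s, hs, hsn⟩ := hn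
    refine ⟨((g : MulAut S) ⟨s, hs⟩ : S), Subtype.property _, fun y => ?_⟩
    show (((g : MulAut S) ((n : MulAut S) ((g : MulAut S)⁻¹ y)) : S) : Ω) = _
    have h1 : (n : MulAut S) ((g : MulAut S)⁻¹ y) =
        ⟨s, hs⟩ * (g : MulAut S)⁻¹ y * (⟨s, hs⟩ : S)⁻¹ := Subtype.ext (hsn _)
    rw [h1, map_mul, map_mul, MulAut.apply_inv_self, map_inv]
    rfl
  have hnd : ¬ p ∣ ((autInducedBy S S).subgroupOf (F.autGroup S)).index := by
    rw [← hR]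
    exact R.not_dvd_index
  have hmem := Subgroup.pow_index_mem ((autInducedBy S S).subgroupOf (F.autGroup S))
    (⟨β * γ⁻¹, hδ⟩ : F.autGroup S)
  rw [Subgroup.mem_subgroupOf, mem_autInducedBy_iff] at hmem
  obtain ⟨s, hs, hsm⟩ := hmem
  have h2 : ((β * γ⁻¹) ^ ((autInducedBy S S).subgroupOf (F.autGroup S)).index) z = z := by
    apply Subtype.ext
    have h3 := hsm z
    have h4 : (((⟨β * γ⁻¹, hδ⟩ : F.autGroup S) ^
        ((autInducedBy S S).subgroupOf (F.autGroup S)).index : F.autGroup S) : MulAut S) =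
        (β * γ⁻¹) ^ ((autInducedBy S S).subgroupOf (F.autGroup S)).index := rfl
    rw [h4] at h3
    rw [h3, (mem_ZS.1 hz).2 s hs, mul_inv_cancel_right]
  have h5 := pow_apply_of_fixed hδw ((autInducedBy S S).subgroupOf (F.autGroup S)).index
  rw [h2, hw] at h5
  have h6 : ((⟨z₀, hz₀S⟩ : S)⁻¹ * (⟨z₀, hz₀S⟩ : S)⁻¹) ^
      ((autInducedBy S S).subgroupOf (F.autGroup S)).index = 1 := by
    have h7 : z * 1 = z * ((⟨z₀, hz₀S⟩ : S)⁻¹ * (⟨z₀, hz₀S⟩ : S)⁻¹) ^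
        ((autInducedBy S S).subgroupOf (F.autGroup S)).index := by rw [mul_one]; exact h5
    exact (mul_left_cancel h7).symm
  have h8 : (⟨z₀, hz₀S⟩ : S) ^ (2 * ((autInducedBy S S).subgroupOf (F.autGroup S)).index) = 1 := by
    have h9 : (⟨z₀, hz₀S⟩ : S)⁻¹ * (⟨z₀, hz₀S⟩ : S)⁻¹ = ((⟨z₀, hz₀S⟩ : S) ^ 2)⁻¹ := by group
    rw [h9, inv_pow, inv_eq_one, ← pow_mul] at h6
    exact h6
  have h10 : (⟨z₀, hz₀S⟩ : S) ^ p = 1 := by
    have h11 : (⟨z₀, hz₀⟩ : ↥(ZS S ⊓ Sd S)) ^ Nat.card ↥(ZS S ⊓ Sd S) = 1 := pow_card_eq_one'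
    rw [hcard] at h11
    have h11' : z₀ ^ p = 1 := congrArg Subtype.val h11
    exact Subtype.ext h11'
  have h12 : (⟨z₀, hz₀S⟩ : S) = 1 := by
    by_contra hne
    have h13 : orderOf (⟨z₀, hz₀S⟩ : S) = p := orderOf_eq_prime h10 hne
    have h14 := orderOf_dvd_of_pow_eq_one h8
    rw [h13] at h14
    rcases (Nat.Prime.dvd_mul hpp).1 h14 with h | h
    · exact hp2 ((Nat.prime_dvd_prime_iff_eq hpp Nat.prime_two).1 h)
    · exact hnd h
  rw [hzeq, h12, mul_one]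
  exact hd₀

/-- an abelian essential subgroup `P` with `P ∩ A = Z(S)` and a "far" automorphism `φ` give a
reflection of the centre, induced by an element of `Aut_F(S)`, with fixed space `Dsub S φ`. -/
theorem Data.exists_refl_of_essential (d : Data p S A) (F : FusionSystem S)
    (hF : F.IsSaturated p) (hZ2A : Z2 S ≤ A) (hK : (ZS S).relIndex (Z2 S) = p)
    {P : Subgroup Ω} (hPc : F.IsCentric P) (hPn : F.IsFullyNormalized P)
    {x : Ω} (hx : x ∈ P) (hxA : x ∉ A) (hPA : P ⊓ A = ZS S)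
    (hPab : ∀ y ∈ P, ∀ y' ∈ P, y * y' = y' * y)
    {g₀ : Ω} (hg₀N : g₀ ∈ normalizerIn S P) (hg₀P : g₀ ∉ P)
    {φ : MulAut P} (hφ : φ ∈ F.autGroup P)
    (hfar : ∀ (g : Ω) (hg : g ∈ normalizerIn S P), g ∉ P →
        ∀ (g' : Ω) (hg' : g' ∈ normalizerIn S P), g' ∉ P →
        ∀ B : Subgroup (MulAut P), IsPGroup p B → conjN S P ⟨g, hg⟩ ∈ B →
          φ * conjN S P ⟨g', hg'⟩ * φ⁻¹ ∈ B → False) :
    ∃ β ∈ F.autGroup S, IsRefl S β (Dsub S φ) := by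
  have hpp : p.Prime := Fact.out
  have hPS : P ≤ S := hPc.1
  have hxS : x ∈ S := hPS hx
  haveI : Finite P := finite_of_le hPS
  have hPp : IsPGroup p P := d.pgrp.to_le hPS
  have hPN : P ≤ normalizerIn S P := le_normalizerIn hPS
  have hZP : ZS S ≤ P := by
    rw [← hPA]
    exact inf_le_left
  -- the element `a₀`
  obtain ⟨a₀, ha₀A, i₀, hg₀⟩ := d.exists_mul_pow hxS hxA (normalizerIn_le S P hg₀N)
  have ha₀eq : a₀ = g₀ * (x ^ i₀)⁻¹ := by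
    rw [hg₀]
    group
  have ha₀N : a₀ ∈ normalizerIn S P := by
    rw [ha₀eq]
    exact Subgroup.mul_mem _ hg₀N (Subgroup.inv_mem _ (hPN (P.pow_mem hx i₀)))
  have ha₀P : a₀ ∉ P := by
    intro h
    apply hg₀P
    rw [hg₀]
    exact P.mul_mem h (P.pow_mem hx i₀)
  have hnc : a₀ * x ≠ x * a₀ := fun h => ha₀P (hZP (d.mem_Z_of_comm hxS hxA ha₀A h))
  -- the element `c₀`
  have hcard := d.card_Z_inf_Sd hxS hxA hZ2A hK
  have hkapP : ∀ a ∈ normalizerIn S P, a ∈ A → kap x a ∈ ZS S ⊓ Sd S := by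
    intro a haN haA
    refine ⟨?_, d.kap_mem_Sd hxS haA⟩
    rw [← hPA]
    refine ⟨?_, d.kap_mem hxS haA⟩
    have h1 : a * x * a⁻¹ ∈ P := ((mem_normalizerIn.1 haN).2 x).1 hx
    have h2 : kap x a = x⁻¹ * (a * x * a⁻¹) := by
      unfold kap
      group
    rw [h2]
    exact P.mul_mem (P.inv_mem hx) h1
  have hc₀ := hkapP a₀ ha₀N ha₀A
  have hc₀1 : kap x a₀ ≠ 1 := fun h => hnc (kap_eq_one_iff.1 h)
  have hc₀p : kap x a₀ ^ p = 1 := by
    have h1 : (⟨kap x a₀, hc₀⟩ : ↥(ZS S ⊓ Sd S)) ^ Nat.card ↥(ZS S ⊓ Sd S) = 1 := pow_card_eq_one'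
    rw [hcard] at h1
    exact congrArg Subtype.val h1
  have hZ₀ : ZS S ⊓ Sd S ≤ Subgroup.zpowers (kap x a₀) := by
    haveI : Finite ↥(ZS S ⊓ Sd S) := Nat.finite_of_card_ne_zero (by rw [hcard]; exact hpp.ne_zero)
    have h1 : Subgroup.zpowers (kap x a₀) ≤ ZS S ⊓ Sd S := Subgroup.zpowers_le.2 hc₀
    have h2 : Nat.card ↥(ZS S ⊓ Sd S) ≤ Nat.card ↥(Subgroup.zpowers (kap x a₀)) := by
      rw [hcard, Nat.card_zpowers, orderOf_eq_prime hc₀p hc₀1]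
    exact (Subgroup.eq_of_le_of_card_ge h1 h2).ge
  -- notation inside `P`
  have hcP : kap x a₀ ∈ P := hZP hc₀.1
  obtain ⟨c, hc⟩ : ∃ c : P, c = ⟨kap x a₀, hcP⟩ := ⟨_, rfl⟩
  obtain ⟨u, hu⟩ : ∃ u : MulAut P, u = conjN S P ⟨a₀, ha₀N⟩ := ⟨_, rfl⟩
  have hcomm : ∀ a b : P, a * b = b * a := fun a b => Subtype.ext (hPab a a.2 b b.2)
  have hcZ : c ∈ (ZS S).subgroupOf P := by
    rw [hc]
    exact Subgroup.mem_subgroupOf.2 hc₀.1
  have hcp : c ^ p = 1 := by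
    rw [hc]
    exact Subtype.ext hc₀p
  have hcent : ∀ (g : Ω) (hg : g ∈ normalizerIn S P), ∀ z ∈ (ZS S).subgroupOf P,
      conjN S P ⟨g, hg⟩ z = z := by
    intro g hg z hz
    apply Subtype.ext
    rw [conjN_apply]
    show g * (z : Ω) * g⁻¹ = z
    rw [(mem_ZS.1 (Subgroup.mem_subgroupOf.1 hz)).2 g (normalizerIn_le S P hg), mul_inv_cancel_right]
  have hzpow : Subgroup.zpowers c ≤ (ZS S).subgroupOf P := Subgroup.zpowers_le.2 hcZ
  -- transvection property for elements of `N_S(P) ∩ A`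
  have htr : ∀ (a : Ω) (ha : a ∈ normalizerIn S P), a ∈ A →
      ∀ y : P, y⁻¹ * conjN S P ⟨a, ha⟩ y ∈ Subgroup.zpowers c := by
    intro a haN haA
    refine d.P_induction hPS hx hxA
      (C := fun y => y⁻¹ * conjN S P ⟨a, haN⟩ y ∈ Subgroup.zpowers c) ?_ ?_ ?_
    · intro y hy
      have h1 : conjN S P ⟨a, haN⟩ y = y := by
        apply Subtype.ext
        rw [conjN_apply]
        show a * (y : Ω) * a⁻¹ = y
        rw [d.comm a haA y hy, mul_inv_cancel_right]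
      show y⁻¹ * conjN S P ⟨a, haN⟩ y ∈ Subgroup.zpowers c
      rw [h1, inv_mul_cancel]
      exact Subgroup.one_mem _
    · have h1 : kap x a ∈ Subgroup.zpowers (kap x a₀) := hZ₀ (hkapP a haN haA)
      obtain ⟨k, hk⟩ := Subgroup.mem_zpowers_iff.1 h1
      show (⟨x, hx⟩ : P)⁻¹ * conjN S P ⟨a, haN⟩ ⟨x, hx⟩ ∈ Subgroup.zpowers c
      rw [Subgroup.mem_zpowers_iff]
      refine ⟨k, Subtype.ext ?_⟩
      rw [Subgroup.coe_zpow, hc]
      show kap x a₀ ^ k = x⁻¹ * (a * x * a⁻¹)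
      rw [hk]
      unfold kap
      group
    · intro y y' hy hy'
      show (y * y')⁻¹ * conjN S P ⟨a, haN⟩ (y * y') ∈ Subgroup.zpowers c
      have h1 : (y * y')⁻¹ * conjN S P ⟨a, haN⟩ (y * y') =
          (y⁻¹ * conjN S P ⟨a, haN⟩ y) * (y'⁻¹ * conjN S P ⟨a, haN⟩ y') := by
        calc (y * y')⁻¹ * conjN S P ⟨a, haN⟩ (y * y')
            = y'⁻¹ * (y⁻¹ * conjN S P ⟨a, haN⟩ y) * conjN S P ⟨a, haN⟩ y' := by
              rw [map_mul]
              group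
          _ = (y⁻¹ * conjN S P ⟨a, haN⟩ y) * y'⁻¹ * conjN S P ⟨a, haN⟩ y' := by
              rw [hcomm y'⁻¹ (y⁻¹ * conjN S P ⟨a, haN⟩ y)]
          _ = (y⁻¹ * conjN S P ⟨a, haN⟩ y) * (y'⁻¹ * conjN S P ⟨a, haN⟩ y') := by group
      rw [h1]
      exact Subgroup.mul_mem _ hy hy'
  have hu1 : ∀ z ∈ (ZS S).subgroupOf P, u z = z := by
    rw [hu]
    exact hcent a₀ ha₀N
  have hu2 : ∀ y, y⁻¹ * u y ∈ Subgroup.zpowers c := by
    rw [hu]
    exact htr a₀ ha₀N ha₀A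
  have hu3 : ∀ y, u y = y → y ∈ (ZS S).subgroupOf P := by
    intro y hy
    rw [hu] at hy
    rw [Subgroup.mem_subgroupOf]
    have h1 : a₀ * (y : Ω) * a₀⁻¹ = y := congrArg Subtype.val hy
    have h2 : a₀ * (y : Ω) = y * a₀ := by
      calc a₀ * (y : Ω) = a₀ * y * a₀⁻¹ * a₀ := by group
        _ = y * a₀ := by rw [h1]
    by_cases hyA : (y : Ω) ∈ A
    · rw [← hPA]
      exact ⟨y.2, hyA⟩
    · exact absurd (hZP (d.mem_Z_of_comm (hPS y.2) hyA ha₀A h2)) ha₀P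
  have hfar' : ∀ B : Subgroup (MulAut P), IsPGroup p B → u ∈ B → φ * u * φ⁻¹ ∈ B → False := by
    rw [hu]
    exact hfar a₀ ha₀N ha₀P a₀ ha₀N ha₀P
  have hn1 : φ c ∉ (ZS S).subgroupOf P := by
    intro hφc
    have hle : Subgroup.zpowers (φ c) ≤ (ZS S).subgroupOf P := Subgroup.zpowers_le.2 hφc
    have hu_mem : u ∈ stab3 (Subgroup.zpowers (φ c)) ((ZS S).subgroupOf P) hle := by
      rw [mem_stab3]
      refine ⟨fun y hy => hu1 y (hle hy), fun y hy => ?_, fun y => hzpow (hu2 y)⟩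
      rw [hu1 y hy, inv_mul_cancel]
      exact Subgroup.one_mem _
    have hle2 : Subgroup.zpowers c ≤ ((ZS S).subgroupOf P).comap φ.toMonoidHom :=
      Subgroup.zpowers_le.2 hφc
    have hu_mem2 : u ∈ stab3 (Subgroup.zpowers c) (((ZS S).subgroupOf P).comap φ.toMonoidHom)
        hle2 := by
      rw [mem_stab3]
      exact ⟨fun y hy => hu1 y (hzpow hy), fun y _ => hu2 y, fun y => hle2 (hu2 y)⟩
    have hC : ∀ y, y ∈ Subgroup.zpowers (φ c) ↔ φ⁻¹ y ∈ Subgroup.zpowers c := by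
      intro y
      rw [← apply_mem_zpowers_iff φ⁻¹ (φ c) y, MulAut.inv_apply_self]
    have hE : ∀ y, y ∈ (ZS S).subgroupOf P ↔
        φ⁻¹ y ∈ ((ZS S).subgroupOf P).comap φ.toMonoidHom := by
      intro y
      rw [Subgroup.mem_comap]
      show _ ↔ φ (φ⁻¹ y) ∈ _
      rw [MulAut.apply_inv_self]
    have hconj := stab3_conj hle2 hle hC hE hu_mem2
    exact hfar' _ (isPGroup_stab3 hPp hle) hu_mem hconj
  have hn2 : φ⁻¹ c ∉ (ZS S).subgroupOf P := by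
    intro hφc
    have hmapmem : ∀ y, y ∈ ((ZS S).subgroupOf P).map φ.toMonoidHom ↔
        φ⁻¹ y ∈ (ZS S).subgroupOf P := by
      intro y
      constructor
      · rintro ⟨w, hw, rfl⟩
        have h1 : φ⁻¹ (φ.toMonoidHom w) = w := MulAut.inv_apply_self _ _ _
        rw [h1]
        exact hw
      · intro h
        exact ⟨φ⁻¹ y, h, MulAut.apply_inv_self _ _ _⟩
    have hle : Subgroup.zpowers c ≤ ((ZS S).subgroupOf P).map φ.toMonoidHom :=
      Subgroup.zpowers_le.2 ((hmapmem c).2 hφc)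
    have hu_mem : u ∈ stab3 (Subgroup.zpowers c) (((ZS S).subgroupOf P).map φ.toMonoidHom)
        hle := by
      rw [mem_stab3]
      exact ⟨fun y hy => hu1 y (hzpow hy), fun y _ => hu2 y, fun y => hle (hu2 y)⟩
    have hle2 : Subgroup.zpowers (φ⁻¹ c) ≤ (ZS S).subgroupOf P := Subgroup.zpowers_le.2 hφc
    have hu_mem2 : u ∈ stab3 (Subgroup.zpowers (φ⁻¹ c)) ((ZS S).subgroupOf P) hle2 := by
      rw [mem_stab3]
      refine ⟨fun y hy => hu1 y (hle2 hy), fun y hy => ?_, fun y => hzpow (hu2 y)⟩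
      rw [hu1 y hy, inv_mul_cancel]
      exact Subgroup.one_mem _
    have hC : ∀ y, y ∈ Subgroup.zpowers c ↔ φ⁻¹ y ∈ Subgroup.zpowers (φ⁻¹ c) :=
      fun y => (apply_mem_zpowers_iff φ⁻¹ c y).symm
    have hconj := stab3_conj hle2 hle hC hmapmem hu_mem2
    exact hfar' _ (isPGroup_stab3 hPp hle) hu_mem hconj
  -- the reflection on `P`
  obtain ⟨τ, hτcl, hτc, hτfix, hτZ, hdec⟩ :=
    exists_reflection hcomm hpp ((ZS S).subgroupOf P) hcZ hcp u φ hu1 hu2 hu3 hn1 hn2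
  have huA : u ∈ F.autGroup P := by
    rw [hu]
    apply autInducedBy_le_autGroup F hPS
    rw [autInducedBy_eq_range]
    exact ⟨_, rfl⟩
  have hτA : τ ∈ F.autGroup P := by
    have hle : Subgroup.closure ({u, φ * u * φ⁻¹} : Set (MulAut P)) ≤ F.autGroup P := by
      rw [Subgroup.closure_le]
      intro w hw
      rcases hw with hw | hw
      · rw [hw]
        exact huA
      · rw [Set.mem_singleton_iff] at hw
        rw [hw]
        exact Subgroup.mul_mem _ (Subgroup.mul_mem _ hφ huA) (Subgroup.inv_mem _ hφ)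
    exact hle hτcl
  -- `τ` commutes with `Aut_S(P)`
  have hτcomm : ∀ (g : Ω) (hg : g ∈ normalizerIn S P) (y : P),
      τ (conjN S P ⟨g, hg⟩ y) = conjN S P ⟨g, hg⟩ (τ y) := by
    intro g hg y
    obtain ⟨a, haA, i, hga⟩ := d.exists_mul_pow hxS hxA (normalizerIn_le S P hg)
    have haeq : a = g * (x ^ i)⁻¹ := by
      rw [hga]
      group
    have haN : a ∈ normalizerIn S P := by
      rw [haeq]
      exact Subgroup.mul_mem _ hg (Subgroup.inv_mem _ (hPN (P.pow_mem hx i)))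
    have heq : conjN S P ⟨g, hg⟩ = conjN S P ⟨a, haN⟩ := by
      ext y'
      rw [conjN_apply, conjN_apply]
      show g * (y' : Ω) * g⁻¹ = a * (y' : Ω) * a⁻¹
      have h1 := hPab _ (P.pow_mem hx i) _ y'.2
      rw [hga]
      calc a * x ^ i * (y' : Ω) * (a * x ^ i)⁻¹ = a * (x ^ i * y') * (x ^ i)⁻¹ * a⁻¹ := by group
        _ = a * (y' * x ^ i) * (x ^ i)⁻¹ * a⁻¹ := by rw [h1]
        _ = a * y' * a⁻¹ := by group
    rw [heq]
    exact refl_comm hcomm ((ZS S).subgroupOf P) hτc hτZ (hcent a haN) (htr a haN haA) y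
  have hNext : normalizerIn S P ≤ extender S P (P.subtype.comp τ.toMonoidHom) := by
    intro g hg
    rw [mem_extender_iff]
    refine ⟨(mem_normalizerIn.1 hg).1, (Subgroup.mem_inf.1 hg).2, g, (mem_normalizerIn.1 hg).1,
      fun y hy => ?_⟩
    have h1 := hτcomm g hg y
    have h2 : (⟨g * (y : Ω) * g⁻¹, hy⟩ : P) = conjN S P ⟨g, hg⟩ y :=
      Subtype.ext (by rw [conjN_apply])
    rw [h2]
    show ((τ (conjN S P ⟨g, hg⟩ y) : P) : Ω) = g * ((τ y : P) : Ω) * g⁻¹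
    rw [h1, conjN_apply]
  have hτF : P.subtype.comp τ.toMonoidHom ∈ F.Hom P := (mem_autGroup_iff F hPS τ).1 hτA
  have hrec := receptive_of_fullyCentralized p d.pgrp F hF
    (fullyCentralized_of_fullyNormalized p d.pgrp F hF hPn)
  obtain ⟨χ, hχ, hχτ⟩ := hrec.2 P _ hτF (IsFIso.range F (e := τ) hτF)
  have hextS : extender S P (P.subtype.comp τ.toMonoidHom) ≤ S :=
    (extender_le_normalizerIn S P _).trans (normalizerIn_le S P)
  have hBig : Big S A (extender S P (P.subtype.comp τ.toMonoidHom)) :=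
    ⟨fun z hz => hNext (hPN (hZP hz)), fun h => hxA (h (hNext (hPN hx))), a₀, hNext ha₀N, x,
      hNext (hPN hx), hnc⟩
  obtain ⟨β, hβ, hβz⟩ := d.restrict_center F hF _ _ hextS hBig rfl χ hχ
  have hβτ : ∀ (z : Ω) (hz : z ∈ ZS S),
      ((β ⟨z, (mem_ZS.1 hz).1⟩ : S) : Ω) = ((τ ⟨z, hZP hz⟩ : P) : Ω) := by
    intro z hz
    rw [← hβz z hz (hNext (hPN (hZP hz))), hχτ z (hZP hz)]
    rfl
  refine ⟨β, hβ, ?_, ?_, ?_, ?_⟩
  · intro g hg
    obtain ⟨-, h, -⟩ := (mem_Dsub φ).1 hg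
    exact h
  · intro z hz
    obtain ⟨hzP, hzZ, hzφ⟩ := (mem_Dsub φ).1 hz
    apply Subtype.ext
    have h1 := hβτ z hzZ
    have h2 : τ ⟨(z : Ω), hZP hzZ⟩ = ⟨(z : Ω), hZP hzZ⟩ :=
      hτfix _ (Subgroup.mem_subgroupOf.2 hzZ) (Subgroup.mem_subgroupOf.2 hzφ)
    rw [h2] at h1
    exact h1
  · intro z hz
    obtain ⟨k, hk⟩ := Subgroup.mem_zpowers_iff.1 (hZ₀ hz)
    apply Subtype.ext
    have h1 := hβτ z hz.1
    have h2 : (⟨(z : Ω), hZP hz.1⟩ : P) = c ^ k := by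
      rw [hc]
      exact Subtype.ext hk.symm
    rw [h2, map_zpow, hτc, inv_zpow, ← h2] at h1
    exact h1
  · intro z hz
    obtain ⟨d', hd', hφd', i, hzd⟩ := hdec ⟨z, hZP hz⟩ (Subgroup.mem_subgroupOf.2 hz)
    refine ⟨(d' : Ω), (mem_Dsub φ).2 ⟨d'.2, Subgroup.mem_subgroupOf.1 hd',
      Subgroup.mem_subgroupOf.1 hφd'⟩, kap x a₀ ^ i, Subgroup.pow_mem _ hc₀ i, ?_⟩
    have h1 := congrArg Subtype.val hzd
    rw [hc] at h1
    exact h1

end

end IdxP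
end Cfsg.Agent.Lib.Helper84
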