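import Mathlib
import Cfsg.Prelude.Def_FusionSystem
import Cfsg.Prelude.Def_Transfer
import Cfsg.Agent.Lib.Helper84.IdxP5

set_option autoImplicit false

/-!
# Essential subgroups in `p`-groups with an extraspecial subgroup of index `p`

Chain-stabilizer ("commuting transvections") arguments for essential subgroups.
-/

namespace Cfsg.Agent.Lib.Helper84
namespace ExtraIdx

open Cfsg Cfsg.FusionSystem Cfsg.Agent.Lib.Helper84.IdxP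
open scoped commutatorElement

variable {Ω : Type*} [Group Ω]

/-- from two elements `g₁, g₂` independent modulo `E`, whose commutators with `c₁` are powers of a
central element `c` of order `p`, one gets an element outside `E` commuting with `c₁`. -/
theorem exists_not_mem_comm {p : ℕ} (hp : p.Prime) {E M : Subgroup Ω} {c : Ω} (hcp : c ^ p = 1)
    (hcM : ∀ g ∈ M, g * c = c * g) {c₁ : Ω}
    (hc₁ : ∀ g ∈ M, c₁⁻¹ * (g * c₁ * g⁻¹) ∈ Subgroup.zpowers c)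
    {g₁ g₂ : Ω} (hg₁ : g₁ ∈ M) (hg₁E : g₁ ∉ E) (hg₂ : g₂ ∈ M)
    (hind : ∀ e ∈ E, ∀ i : ℕ, g₂ ≠ e * g₁ ^ i) :
    ∃ g ∈ M, g ∉ E ∧ g * c₁ = c₁ * g := by
  by_cases h1 : g₁ * c₁ = c₁ * g₁
  · exact ⟨g₁, hg₁, hg₁E, h1⟩
  have hfin : IsOfFinOrder c := isOfFinOrder_iff_pow_eq_one.2 ⟨p, hp.pos, hcp⟩
  have hpow : ∀ g ∈ M, ∃ k : ℕ, g * c₁ = c₁ * c ^ k * g := by
    intro g hg
    have h2 := hc₁ g hg
    rw [← hfin.mem_powers_iff_mem_zpowers] at h2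
    obtain ⟨k, hk⟩ := h2
    refine ⟨k, ?_⟩
    have hk' : c ^ k = c₁⁻¹ * (g * c₁ * g⁻¹) := hk
    rw [hk']
    group
  have hcpow : ∀ g ∈ M, ∀ k : ℕ, g * c ^ k = c ^ k * g := fun g hg k =>
    (Commute.pow_right (show Commute g c from hcM g hg) k).eq
  obtain ⟨k, hk⟩ := hpow g₁ hg₁
  obtain ⟨l, hl⟩ := hpow g₂ hg₂
  have hk1 : c ^ k ≠ 1 := by
    intro h
    rw [h, mul_one] at hk
    exact h1 hk
  obtain ⟨m, hm⟩ := exists_pow_eq_of_prime_order hp hcp hk1 l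
  -- `g₁ ^ m * c₁ = c₁ * (c ^ k) ^ m * g₁ ^ m`
  have hg₁m : ∀ m : ℕ, g₁ ^ m * c₁ = c₁ * (c ^ k) ^ m * g₁ ^ m := by
    intro m
    induction m with
    | zero => simp
    | succ m ih =>
      have e1 : g₁ ^ m * c ^ k = c ^ k * g₁ ^ m :=
        (Commute.pow_left (show Commute g₁ (c ^ k) from hcpow g₁ hg₁ k) m).eq
      calc g₁ ^ (m + 1) * c₁ = g₁ ^ m * (g₁ * c₁) := by rw [pow_succ, mul_assoc]
        _ = g₁ ^ m * (c₁ * c ^ k * g₁) := by rw [hk]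
        _ = (g₁ ^ m * c₁) * c ^ k * g₁ := by group
        _ = c₁ * (c ^ k) ^ m * (g₁ ^ m * c ^ k) * g₁ := by rw [ih]; group
        _ = c₁ * (c ^ k) ^ m * (c ^ k * g₁ ^ m) * g₁ := by rw [e1]
        _ = c₁ * (c ^ k) ^ (m + 1) * g₁ ^ (m + 1) := by rw [pow_succ, pow_succ]; group
  have hgM : g₂ * (g₁ ^ m)⁻¹ ∈ M := M.mul_mem hg₂ (M.inv_mem (M.pow_mem hg₁ m))
  refine ⟨g₂ * (g₁ ^ m)⁻¹, hgM, fun hE => hind (g₂ * (g₁ ^ m)⁻¹) hE m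
    (by rw [inv_mul_cancel_right]), ?_⟩
  have e2 := hg₁m m
  rw [hm] at e2
  -- `(g₁ ^ m)⁻¹ * c₁ = c₁ * (c ^ l)⁻¹ * (g₁ ^ m)⁻¹`
  have e3 : g₁ ^ m * c ^ l = c ^ l * g₁ ^ m :=
    (Commute.pow_left (show Commute g₁ (c ^ l) from hcpow g₁ hg₁ l) m).eq
  have e5 : c₁ * (g₁ ^ m)⁻¹ = (g₁ ^ m)⁻¹ * c₁ * c ^ l := by
    calc c₁ * (g₁ ^ m)⁻¹ = (g₁ ^ m)⁻¹ * (g₁ ^ m * c₁) * (g₁ ^ m)⁻¹ := by group
      _ = (g₁ ^ m)⁻¹ * (c₁ * c ^ l * g₁ ^ m) * (g₁ ^ m)⁻¹ := by rw [e2]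
      _ = (g₁ ^ m)⁻¹ * c₁ * c ^ l := by group
  have e6 : (g₁ ^ m)⁻¹ * (c ^ l)⁻¹ = (c ^ l)⁻¹ * (g₁ ^ m)⁻¹ := by
    rw [← mul_inv_rev, ← e3, mul_inv_rev]
  have e4 : (g₁ ^ m)⁻¹ * c₁ = c₁ * (c ^ l)⁻¹ * (g₁ ^ m)⁻¹ := by
    calc (g₁ ^ m)⁻¹ * c₁ = ((g₁ ^ m)⁻¹ * c₁ * c ^ l) * (c ^ l)⁻¹ := by group
      _ = (c₁ * (g₁ ^ m)⁻¹) * (c ^ l)⁻¹ := by rw [e5]
      _ = c₁ * ((g₁ ^ m)⁻¹ * (c ^ l)⁻¹) := by group
      _ = c₁ * ((c ^ l)⁻¹ * (g₁ ^ m)⁻¹) := by rw [e6]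
      _ = c₁ * (c ^ l)⁻¹ * (g₁ ^ m)⁻¹ := by group
  have e8 : (g₂ * (g₁ ^ m)⁻¹) * c ^ l = c ^ l * (g₂ * (g₁ ^ m)⁻¹) := hcpow _ hgM l
  calc g₂ * (g₁ ^ m)⁻¹ * c₁ = g₂ * ((g₁ ^ m)⁻¹ * c₁) := by group
    _ = g₂ * (c₁ * (c ^ l)⁻¹ * (g₁ ^ m)⁻¹) := by rw [e4]
    _ = (g₂ * c₁) * (c ^ l)⁻¹ * (g₁ ^ m)⁻¹ := by group
    _ = (c₁ * c ^ l * g₂) * (c ^ l)⁻¹ * (g₁ ^ m)⁻¹ := by rw [hl]
    _ = c₁ * (c ^ l * (g₂ * (g₁ ^ m)⁻¹)) * (g₁ ^ m) * (c ^ l)⁻¹ * (g₁ ^ m)⁻¹ := by group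
    _ = c₁ * ((g₂ * (g₁ ^ m)⁻¹) * c ^ l) * (g₁ ^ m) * (c ^ l)⁻¹ * (g₁ ^ m)⁻¹ := by rw [e8]
    _ = c₁ * (g₂ * (g₁ ^ m)⁻¹) * ((c ^ l * g₁ ^ m) * (c ^ l)⁻¹ * (g₁ ^ m)⁻¹) := by group
    _ = c₁ * (g₂ * (g₁ ^ m)⁻¹) * ((g₁ ^ m * c ^ l) * (c ^ l)⁻¹ * (g₁ ^ m)⁻¹) := by rw [e3]
    _ = c₁ * (g₂ * (g₁ ^ m)⁻¹) := by group

/-- index `p` from cyclic generation modulo a normal subgroup. -/
theorem relIndex_eq_prime_of_gen {p : ℕ} [Fact p.Prime] {E Q : Subgroup Ω}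
    (hEn : ∀ g ∈ Q, ∀ y ∈ E, g * y * g⁻¹ ∈ E)
    {g₁ : Ω} (hg₁ : g₁ ∈ Q) (hg₁E : g₁ ∉ E) (hg₁p : g₁ ^ p ∈ E)
    (hgen : ∀ s ∈ Q, ∃ e ∈ E, ∃ i : ℕ, s = e * g₁ ^ i) : E.relIndex Q = p := by
  haveI hn : (E.subgroupOf Q).Normal :=
    ⟨fun n hn g => Subgroup.mem_subgroupOf.2 (hEn g g.2 n (Subgroup.mem_subgroupOf.1 hn))⟩
  have h1 : (QuotientGroup.mk (⟨g₁, hg₁⟩ : Q) : Q ⧸ E.subgroupOf Q) ^ p = 1 := by
    rw [← QuotientGroup.mk_pow, QuotientGroup.eq_one_iff]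
    exact Subgroup.mem_subgroupOf.2 hg₁p
  have h2 : (QuotientGroup.mk (⟨g₁, hg₁⟩ : Q) : Q ⧸ E.subgroupOf Q) ≠ 1 := by
    intro h
    rw [QuotientGroup.eq_one_iff] at h
    exact hg₁E (Subgroup.mem_subgroupOf.1 h)
  have h3 : orderOf (QuotientGroup.mk (⟨g₁, hg₁⟩ : Q) : Q ⧸ E.subgroupOf Q) = p :=
    orderOf_eq_prime h1 h2
  have h4 : Subgroup.zpowers (QuotientGroup.mk (⟨g₁, hg₁⟩ : Q) : Q ⧸ E.subgroupOf Q) = ⊤ := by
    rw [eq_top_iff]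
    intro q _
    obtain ⟨s, rfl⟩ := QuotientGroup.mk_surjective q
    obtain ⟨e, he, i, hs⟩ := hgen s s.2
    have heQ : e ∈ Q := by
      have h5 : e = s * (g₁ ^ i)⁻¹ := by rw [hs]; group
      rw [h5]
      exact Q.mul_mem s.2 (Q.inv_mem (Q.pow_mem hg₁ i))
    have hs' : s = ⟨e, heQ⟩ * (⟨g₁, hg₁⟩ : Q) ^ i :=
      Subtype.ext (by simpa using hs)
    rw [hs', QuotientGroup.mk_mul, QuotientGroup.mk_pow]
    have h6 : (QuotientGroup.mk (⟨e, heQ⟩ : Q) : Q ⧸ E.subgroupOf Q) = 1 := by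
      rw [QuotientGroup.eq_one_iff]
      exact Subgroup.mem_subgroupOf.2 he
    rw [h6, one_mul]
    exact Subgroup.pow_mem _ (Subgroup.mem_zpowers _) i
  show (E.subgroupOf Q).index = p
  rw [Subgroup.index_eq_card, ← h3, ← Nat.card_zpowers, h4]
  exact (Nat.card_congr Subgroup.topEquiv.toEquiv).symm

section fusion

variable {S : Subgroup Ω} [Finite S] {p : ℕ} [Fact p.Prime]

/-- an essential subgroup on which a subgroup `M` of its normalizer acts with all commutators in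
a central cyclic subgroup of order `p` is abelian (if `M ≰ E`). -/
theorem essential_abelian_of_chain (hS : IsPGroup p S) (F : FusionSystem S) (hF : F.IsSaturated p)
    {E : Subgroup Ω} (hE : F.IsEssential p E) {M : Subgroup Ω} (hMN : M ≤ normalizerIn S E)
    {c : Ω} (hcE : c ∈ E) (hcp : c ^ p = 1) (hcM : ∀ g ∈ M, g * c = c * g)
    (hcomm : ∀ g ∈ M, ∀ y ∈ E, y⁻¹ * (g * y * g⁻¹) ∈ Subgroup.zpowers c)
    (hcommE : ∀ y ∈ E, ∀ y' ∈ E, y⁻¹ * (y' * y * y'⁻¹) ∈ Subgroup.zpowers c)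
    {g : Ω} (hg : g ∈ M) (hgE : g ∉ E) : ∀ y ∈ E, ∀ y' ∈ E, y * y' = y' * y := by
  have hpp : p.Prime := Fact.out
  by_contra hcon
  push_neg at hcon
  obtain ⟨y, hy, y', hy', hyy'⟩ := hcon
  obtain ⟨-, Γ, ⟨φ, hφ, hφΓ⟩, hfar⟩ := essential_far p hS F hF hE
  have hES : E ≤ S := hE.1.1
  haveI : Finite E := finite_of_le hES
  have hEp : IsPGroup p E := hS.to_le hES
  obtain ⟨c', hc'⟩ : ∃ c' : E, c' = ⟨c, hcE⟩ := ⟨_, rfl⟩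
  have hc'p : c' ^ p = 1 := by
    rw [hc']
    exact Subtype.ext hcp
  have hmemz : ∀ (w : E), (w : Ω) ∈ Subgroup.zpowers c → w ∈ Subgroup.zpowers c' := by
    intro w hw
    obtain ⟨k, hk⟩ := Subgroup.mem_zpowers_iff.1 hw
    rw [Subgroup.mem_zpowers_iff]
    refine ⟨k, Subtype.ext ?_⟩
    rw [Subgroup.coe_zpow, hc']
    exact hk
  -- the commutator subgroup of `E` is `⟨c⟩`
  have hle : commutator ↥E ≤ Subgroup.zpowers c' := by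
    rw [commutator_def, Subgroup.commutator_le]
    intro a _ b _
    apply hmemz
    have h1 := hcommE (a⁻¹ : E) (a⁻¹ : E).2 b b.2
    have h2 : ((⁅a, b⁆ : E) : Ω) = ((a⁻¹ : E) : Ω)⁻¹ * ((b : Ω) * ((a⁻¹ : E) : Ω) * (b : Ω)⁻¹) := by
      rw [commutatorElement_def]
      simp only [Subgroup.coe_mul, Subgroup.coe_inv, inv_inv]
      group
    rw [h2]
    exact h1
  have hw : (⟨y, hy⟩ : E)⁻¹ * (⟨y', hy'⟩ * ⟨y, hy⟩ * (⟨y', hy'⟩ : E)⁻¹) ∈ commutator ↥E := by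
    have h1 : (⟨y, hy⟩ : E)⁻¹ * (⟨y', hy'⟩ * ⟨y, hy⟩ * (⟨y', hy'⟩ : E)⁻¹) =
        ⁅(⟨y, hy⟩ : E)⁻¹, ⟨y', hy'⟩⁆ := by
      rw [commutatorElement_def]
      group
    rw [h1, commutator_def]
    exact Subgroup.commutator_mem_commutator (Subgroup.mem_top _) (Subgroup.mem_top _)
  have hw1 : (⟨y, hy⟩ : E)⁻¹ * (⟨y', hy'⟩ * ⟨y, hy⟩ * (⟨y', hy'⟩ : E)⁻¹) ≠ 1 := by
    intro h
    apply hyy'
    have h1 := congrArg Subtype.val h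
    simp only [Subgroup.coe_mul, Subgroup.coe_inv, Subgroup.coe_one] at h1
    have h2 : y' * y * y'⁻¹ = y := by
      calc y' * y * y'⁻¹ = y * (y⁻¹ * (y' * y * y'⁻¹)) := by group
        _ = y := by rw [h1, mul_one]
    calc y * y' = (y' * y * y'⁻¹) * y' := by rw [h2]
      _ = y' * y := by group
  have hge : Subgroup.zpowers c' ≤ commutator ↥E := by
    have h1 := hle hw
    rw [← mem_powers_iff_mem_zpowers] at h1
    obtain ⟨k, hk⟩ := h1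
    have hk' : c' ^ k = (⟨y, hy⟩ : E)⁻¹ * (⟨y', hy'⟩ * ⟨y, hy⟩ * (⟨y', hy'⟩ : E)⁻¹) := hk
    have hk1 : c' ^ k ≠ 1 := by rw [hk']; exact hw1
    obtain ⟨l, hl⟩ := exists_pow_eq_of_prime_order hpp hc'p hk1 1
    rw [Subgroup.zpowers_le, ← pow_one c', ← hl, hk']
    exact Subgroup.pow_mem _ hw l
  have heq : Subgroup.zpowers c' = commutator ↥E := le_antisymm hge hle
  have hchar : ∀ (ψ : MulAut E) (w : E), w ∈ Subgroup.zpowers c' ↔ ψ⁻¹ w ∈ Subgroup.zpowers c' := by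
    intro ψ w
    rw [heq]
    have h1 := (Subgroup.characteristic_iff_comap_eq.1
      (inferInstance : (commutator ↥E).Characteristic)) ψ⁻¹
    constructor
    · intro h
      have h2 : w ∈ (commutator ↥E).comap (ψ⁻¹).toMonoidHom := by rw [h1]; exact h
      exact h2
    · intro h
      have h2 : w ∈ (commutator ↥E).comap (ψ⁻¹).toMonoidHom := h
      rw [h1] at h2
      exact h2
  have hu : conjN S E ⟨g, hMN hg⟩ ∈ stab3 (Subgroup.zpowers c') (Subgroup.zpowers c') le_rfl := by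
    rw [mem_stab3]
    have h3 : ∀ w : E, w⁻¹ * conjN S E ⟨g, hMN hg⟩ w ∈ Subgroup.zpowers c' := by
      intro w
      apply hmemz
      exact hcomm g hg w w.2
    have h4 : ∀ w ∈ Subgroup.zpowers c', conjN S E ⟨g, hMN hg⟩ w = w := by
      intro w hw
      obtain ⟨k, rfl⟩ := Subgroup.mem_zpowers_iff.1 hw
      rw [map_zpow]
      congr 1
      apply Subtype.ext
      rw [conjN_apply, hc']
      show g * c * g⁻¹ = c
      rw [hcM g hg, mul_inv_cancel_right]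
    exact ⟨h4, fun w _ => h3 w, h3⟩
  have hconj := stab3_conj le_rfl le_rfl (hchar φ) (hchar φ) hu
  exact hfar φ hφ hφΓ g (hMN hg) hgE g (hMN hg) hgE _ (isPGroup_stab3 hEp le_rfl) hu hconj

/-- no two independent commuting "transvections": if a subgroup `M` of the normalizer of an
essential subgroup `E` acts on `E` with all commutators in a cyclic subgroup `⟨c⟩` of order `p`
centralized by `M`, then `M E / E` is cyclic. -/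
theorem essential_no_rank_two (hS : IsPGroup p S) (F : FusionSystem S) (hF : F.IsSaturated p)
    {E : Subgroup Ω} (hE : F.IsEssential p E) {M : Subgroup Ω} (hMN : M ≤ normalizerIn S E)
    {c : Ω} (hcE : c ∈ E) (hcp : c ^ p = 1) (hcM : ∀ g ∈ M, g * c = c * g)
    (hcomm : ∀ g ∈ M, ∀ y ∈ E, y⁻¹ * (g * y * g⁻¹) ∈ Subgroup.zpowers c)
    {g₁ g₂ : Ω} (hg₁ : g₁ ∈ M) (hg₁E : g₁ ∉ E) (hg₂ : g₂ ∈ M)
    (hind : ∀ e ∈ E, ∀ i : ℕ, g₂ ≠ e * g₁ ^ i) : False := by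
  have hpp : p.Prime := Fact.out
  obtain ⟨-, Γ, ⟨φ, hφ, hφΓ⟩, hfar⟩ := essential_far p hS F hF hE
  have hES : E ≤ S := hE.1.1
  haveI : Finite E := finite_of_le hES
  have hEp : IsPGroup p E := hS.to_le hES
  obtain ⟨g, hgM, hgE, hgc⟩ := exists_not_mem_comm hpp hcp hcM
    (c₁ := ((φ ⟨c, hcE⟩ : E) : Ω)) (fun g hg => hcomm g hg _ (φ ⟨c, hcE⟩).2) hg₁ hg₁E hg₂ hind
  obtain ⟨g', hg'M, hg'E, hg'c⟩ := exists_not_mem_comm hpp hcp hcM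
    (c₁ := ((φ⁻¹ ⟨c, hcE⟩ : E) : Ω)) (fun g hg => hcomm g hg _ (φ⁻¹ ⟨c, hcE⟩).2) hg₁ hg₁E hg₂ hind
  obtain ⟨c', hc'⟩ : ∃ c' : E, c' = ⟨c, hcE⟩ := ⟨_, rfl⟩
  have hfix : ∀ (h : Ω) (hh : h ∈ normalizerIn S E) (w : E), h * (w : Ω) = (w : Ω) * h →
      conjN S E ⟨h, hh⟩ w = w := by
    intro h hh w hw
    apply Subtype.ext
    rw [conjN_apply]
    show h * (w : Ω) * h⁻¹ = w
    rw [hw, mul_inv_cancel_right]
  have hzp : ∀ (h : Ω) (hh : h ∈ M) (w : E),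
      w⁻¹ * conjN S E ⟨h, hMN hh⟩ w ∈ Subgroup.zpowers c' := by
    intro h hh w
    obtain ⟨k, hk⟩ := Subgroup.mem_zpowers_iff.1 (hcomm h hh w w.2)
    rw [Subgroup.mem_zpowers_iff]
    refine ⟨k, Subtype.ext ?_⟩
    rw [Subgroup.coe_zpow, hc']
    exact hk
  have hle : (⊥ : Subgroup E) ≤ Subgroup.zpowers c' ⊔ Subgroup.zpowers (φ c') := bot_le
  have hmemD : ∀ (w : MulAut E), w c' = c' → w (φ c') = φ c' →
      ∀ v ∈ Subgroup.zpowers c' ⊔ Subgroup.zpowers (φ c'), w v = v := by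
    intro w h1 h2 v hv
    have hK : Subgroup.zpowers c' ⊔ Subgroup.zpowers (φ c') ≤
        w.toMonoidHom.eqLocus (MonoidHom.id E) :=
      sup_le (Subgroup.zpowers_le.2 h1) (Subgroup.zpowers_le.2 h2)
    exact hK hv
  have h1 : conjN S E ⟨g, hMN hgM⟩ ∈
      stab3 ⊥ (Subgroup.zpowers c' ⊔ Subgroup.zpowers (φ c')) hle := by
    rw [mem_stab3]
    refine ⟨fun v hv => ?_, fun v hv => ?_, fun v => ?_⟩
    · rw [Subgroup.mem_bot.1 hv, map_one]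
    · rw [Subgroup.mem_bot]
      have h2 := hmemD (conjN S E ⟨g, hMN hgM⟩)
        (hfix g _ c' (by rw [hc']; exact hcM g hgM)) (hfix g _ (φ c') (by rw [hc']; exact hgc)) v hv
      rw [h2, inv_mul_cancel]
    · exact Subgroup.mem_sup_left (hzp g hgM v)
  have h2 : φ * conjN S E ⟨g', hMN hg'M⟩ * φ⁻¹ ∈
      stab3 ⊥ (Subgroup.zpowers c' ⊔ Subgroup.zpowers (φ c')) hle := by
    rw [mem_stab3]
    have happ : ∀ v, (φ * conjN S E ⟨g', hMN hg'M⟩ * φ⁻¹) v =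
        φ (conjN S E ⟨g', hMN hg'M⟩ (φ⁻¹ v)) := fun v => rfl
    refine ⟨fun v hv => ?_, fun v hv => ?_, fun v => ?_⟩
    · rw [Subgroup.mem_bot.1 hv, map_one]
    · rw [Subgroup.mem_bot]
      have e1 : (φ * conjN S E ⟨g', hMN hg'M⟩ * φ⁻¹) c' = c' := by
        rw [happ, hfix g' _ (φ⁻¹ c') (by rw [hc']; exact hg'c), MulAut.apply_inv_self]
      have e2 : (φ * conjN S E ⟨g', hMN hg'M⟩ * φ⁻¹) (φ c') = φ c' := by
        rw [happ, MulAut.inv_apply_self, hfix g' _ c' (by rw [hc']; exact hcM g' hg'M)]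
      rw [hmemD _ e1 e2 v hv, inv_mul_cancel]
    · apply Subgroup.mem_sup_right
      rw [happ]
      have h3 := hzp g' hg'M (φ⁻¹ v)
      have h4 : v⁻¹ * φ (conjN S E ⟨g', hMN hg'M⟩ (φ⁻¹ v)) =
          φ ((φ⁻¹ v)⁻¹ * conjN S E ⟨g', hMN hg'M⟩ (φ⁻¹ v)) := by
        rw [map_mul, map_inv, MulAut.apply_inv_self]
      rw [h4]
      exact (apply_mem_zpowers_iff φ c' _).2 h3
  exact hfar φ hφ hφΓ g (hMN hgM) hgE g' (hMN hg'M) hg'E _ (isPGroup_stab3 hEp hle) h1 h2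

end fusion

end ExtraIdx
end Cfsg.Agent.Lib.Helper84
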