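import Mathlib
import Cfsg.Prelude.Def_FusionSystem
import Cfsg.Prelude.Def_Transfer
import Cfsg.Agent.Lib.Helper84.ExtraIdx

set_option autoImplicit false

/-!
# Extraspecial subgroups: generators of the centre, and essential subgroups inside them
-/

namespace Cfsg.Agent.Lib.Helper84
namespace ExtraIdx

open Cfsg Cfsg.FusionSystem Cfsg.Agent.Lib.Helper84.IdxP
open scoped commutatorElement

universe u

variable {Ω : Type u} [Group Ω]

theorem pow_conj_eq {g c₁ a : Ω} (h : g * c₁ = c₁ * a * g) (ha : g * a = a * g) (m : ℕ) :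
    g ^ m * c₁ = c₁ * a ^ m * g ^ m := by
  induction m with
  | zero => simp
  | succ m ih =>
    have e1 : g ^ m * a = a * g ^ m := (Commute.pow_left (show Commute g a from ha) m).eq
    calc g ^ (m + 1) * c₁ = g ^ m * (g * c₁) := by rw [pow_succ, mul_assoc]
      _ = g ^ m * (c₁ * a * g) := by rw [h]
      _ = (g ^ m * c₁) * a * g := by group
      _ = c₁ * a ^ m * (g ^ m * a) * g := by rw [ih]; group
      _ = c₁ * a ^ m * (a * g ^ m) * g := by rw [e1]
      _ = c₁ * a ^ (m + 1) * g ^ (m + 1) := by rw [pow_succ, pow_succ]; group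

/-- a generator `c` of the centre of an extraspecial group `Q`. -/
theorem extraspecial_gen {p : ℕ} [Fact p.Prime] {Q : Subgroup Ω} [Finite Q]
    (hQ : IsExtraspecial p ↥Q) :
    ∃ c ∈ Q, c ≠ 1 ∧ c ^ p = 1 ∧ (∀ q ∈ Q, q * c = c * q) ∧
      (∀ q ∈ Q, ∀ q' ∈ Q, q⁻¹ * (q' * q * q'⁻¹) ∈ Subgroup.zpowers c) ∧
      (∀ z ∈ Q, (∀ q ∈ Q, q * z = z * q) → z ∈ Subgroup.zpowers c) ∧ c ∈ Sd Q := by
  have hpp : p.Prime := Fact.out
  obtain ⟨⟨-, -, hcomm⟩, hcard⟩ := hQ
  have hnt : Nontrivial (Subgroup.center ↥Q) := by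
    rw [← Finite.one_lt_card_iff_nontrivial, hcard]
    exact hpp.one_lt
  obtain ⟨c₀, hc₀⟩ := exists_ne (1 : Subgroup.center ↥Q)
  have htop := zpowers_eq_top_of_prime_card hcard hc₀
  have hall : ∀ w : Subgroup.center ↥Q, ((w : ↥Q) : Ω) ∈ Subgroup.zpowers (((c₀ : ↥Q) : Ω)) := by
    intro w
    have h2 : w ∈ Subgroup.zpowers c₀ := by
      rw [htop]
      exact Subgroup.mem_top _
    obtain ⟨k, hk⟩ := Subgroup.mem_zpowers_iff.1 h2
    rw [Subgroup.mem_zpowers_iff]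
    refine ⟨k, ?_⟩
    rw [← hk]
    simp
  refine ⟨((c₀ : ↥Q) : Ω), (c₀ : ↥Q).2, ?_, ?_, ?_, ?_, ?_, ?_⟩
  · intro h
    exact hc₀ (Subtype.ext (Subtype.ext h))
  · have h1 : c₀ ^ Nat.card (Subgroup.center ↥Q) = 1 := pow_card_eq_one'
    rw [hcard] at h1
    have h2 := congrArg (fun w : Subgroup.center ↥Q => ((w : ↥Q) : Ω)) h1
    simpa using h2
  · intro q hq
    have h1 := Subgroup.mem_center_iff.1 c₀.2 ⟨q, hq⟩
    exact congrArg Subtype.val h1
  · intro q hq q' hq'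
    have h1 : ⁅(⟨q, hq⟩ : ↥Q)⁻¹, ⟨q', hq'⟩⁆ ∈ commutator ↥Q := by
      rw [commutator_def]
      exact Subgroup.commutator_mem_commutator (Subgroup.mem_top _) (Subgroup.mem_top _)
    rw [hcomm] at h1
    have h2 := hall ⟨_, h1⟩
    have h3 : ((⁅(⟨q, hq⟩ : ↥Q)⁻¹, ⟨q', hq'⟩⁆ : ↥Q) : Ω) = q⁻¹ * (q' * q * q'⁻¹) := by
      rw [commutatorElement_def]
      simp only [Subgroup.coe_mul, Subgroup.coe_inv, inv_inv]
      group
    rw [← h3]
    exact h2
  · intro z hz hzc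
    have h1 : (⟨z, hz⟩ : ↥Q) ∈ Subgroup.center ↥Q := by
      rw [Subgroup.mem_center_iff]
      intro g
      exact Subtype.ext (hzc g g.2)
    exact hall ⟨_, h1⟩
  · refine ⟨(c₀ : ↥Q), ?_, rfl⟩
    rw [hcomm]
    exact c₀.2

theorem card_zpowers_of_prime {p : ℕ} [Fact p.Prime] {c : Ω} (hc1 : c ≠ 1) (hcp : c ^ p = 1) :
    Nat.card (Subgroup.zpowers c) = p := by
  rw [Nat.card_zpowers, orderOf_eq_prime hcp hc1]

section fusion

variable {S : Subgroup Ω} [Finite S] {p : ℕ} [Fact p.Prime]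

/-- an essential subgroup contained in an extraspecial subgroup `Q` of index `p` of `S`, with
`|S| ≥ p⁶`, is `Q` itself. -/
theorem no_proper_essential (hS : IsPGroup p S) {Q : Subgroup Ω} (hQS : Q ≤ S)
    (hQ : IsExtraspecial p ↥Q) (hQi : (Q.subgroupOf S).index = p) (h6 : p ^ 6 ≤ Nat.card S)
    (F : FusionSystem S) (hF : F.IsSaturated p) {E : Subgroup Ω} (hEQ : E ≤ Q)
    (hE : F.IsEssential p E) : E = Q := by
  have hpp : p.Prime := Fact.out
  haveI : Finite Q := finite_of_le hQS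
  have hQp : IsPGroup p Q := hS.to_le hQS
  obtain ⟨c, hcQ, hc1, hcp, hcc, hcommQ, hcen, hcSd⟩ := extraspecial_gen hQ
  by_contra hne
  have hES : E ≤ S := hE.1.1
  haveI : Finite E := finite_of_le hES
  have hC : centralizerIn S E ≤ E := hE.1.2 E (isConj_refl F hES)
  have hcE : c ∈ E := hC (mem_centralizerIn.2 ⟨hQS hcQ, fun y hy => hcc y (hEQ hy)⟩)
  have hzE : Subgroup.zpowers c ≤ E := Subgroup.zpowers_le.2 hcE
  have hcomm : ∀ g ∈ Q, ∀ y ∈ E, y⁻¹ * (g * y * g⁻¹) ∈ Subgroup.zpowers c :=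
    fun g hg y hy => hcommQ y (hEQ hy) g hg
  have hQN : Q ≤ normalizerIn S E := by
    intro g hg
    refine Subgroup.mem_inf.2 ⟨hQS hg, mem_normalizer_of_finite_of_conj_mem (fun y hy => ?_)⟩
    have h1 : g * y * g⁻¹ = y * (y⁻¹ * (g * y * g⁻¹)) := by group
    rw [h1]
    exact E.mul_mem hy (hzE (hcomm g hg y hy))
  obtain ⟨g₁, hg₁Q, hg₁E⟩ : ∃ g₁ ∈ Q, g₁ ∉ E := by
    by_contra hcon
    push_neg at hcon
    exact hne (le_antisymm hEQ hcon)
  have hEab : ∀ y ∈ E, ∀ y' ∈ E, y * y' = y' * y :=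
    essential_abelian_of_chain hS F hF hE hQN hcE hcp hcc hcomm
      (fun y hy y' hy' => hcommQ y (hEQ hy) y' (hEQ hy')) hg₁Q hg₁E
  by_cases hgen : ∀ g₂ ∈ Q, ∃ e ∈ E, ∃ i : ℕ, g₂ = e * g₁ ^ i
  · -- `E` has index `p` in `Q`, so `|Q| = p³`
    have hg₁p : g₁ ^ p ∈ E := by
      apply hC
      rw [mem_centralizerIn]
      refine ⟨hQS (Q.pow_mem hg₁Q p), fun y hy => ?_⟩
      have hfin : IsOfFinOrder c := isOfFinOrder_iff_pow_eq_one.2 ⟨p, hpp.pos, hcp⟩
      have h2 := hcomm g₁ hg₁Q y hy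
      rw [← hfin.mem_powers_iff_mem_zpowers] at h2
      obtain ⟨k, hk⟩ := h2
      have hk' : c ^ k = y⁻¹ * (g₁ * y * g₁⁻¹) := hk
      have h3 : g₁ * y = y * c ^ k * g₁ := by
        rw [hk']
        group
      have h4 : g₁ * c ^ k = c ^ k * g₁ :=
        (Commute.pow_right (show Commute g₁ c from hcc g₁ hg₁Q) k).eq
      have h5 := pow_conj_eq h3 h4 p
      rw [← pow_mul, mul_comm k p, pow_mul, hcp, one_pow, mul_one] at h5
      exact h5.symm
    have hEn : ∀ g ∈ Q, ∀ y ∈ E, g * y * g⁻¹ ∈ E := by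
      intro g hg y hy
      have h1 : g * y * g⁻¹ = y * (y⁻¹ * (g * y * g⁻¹)) := by group
      rw [h1]
      exact E.mul_mem hy (hzE (hcomm g hg y hy))
    have hidx : E.relIndex Q = p := relIndex_eq_prime_of_gen hEn hg₁Q hg₁E hg₁p hgen
    have hna : ∃ s ∈ Q, ∃ t ∈ Q, s * t ≠ t * s := by
      by_contra hcon
      push_neg at hcon
      obtain ⟨w, hw, hwc⟩ := hcSd
      have h1 : commutator ↥Q ≤ ⊥ := by
        rw [commutator_def, Subgroup.commutator_le]
        intro a _ b _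
        rw [Subgroup.mem_bot, commutatorElement_eq_one_iff_commute]
        exact Subtype.ext (hcon a a.2 b b.2)
      have h2 := Subgroup.mem_bot.1 (h1 hw)
      rw [h2] at hwc
      exact hc1 hwc.symm
    have d : Data p Q E := ⟨hQp, hEQ, hEab, hidx, hna⟩
    have hZQ : ZS Q = Subgroup.zpowers c := by
      apply le_antisymm
      · intro z hz
        exact hcen z (mem_ZS.1 hz).1 (mem_ZS.1 hz).2
      · rw [Subgroup.zpowers_le, mem_ZS]
        exact ⟨hcQ, hcc⟩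
    have hSdQ : Sd Q = Subgroup.zpowers c := by
      apply le_antisymm
      · rintro _ ⟨w, hw, rfl⟩
        have hw' : w ∈ Subgroup.center ↥Q := by
          rw [← hQ.1.2.2]
          exact hw
        refine hcen _ w.2 (fun q hq => ?_)
        exact congrArg Subtype.val (Subgroup.mem_center_iff.1 hw' ⟨q, hq⟩)
      · rw [Subgroup.zpowers_le]
        exact hcSd
    have h1 := Subgroup.card_mul_index (d.theta hg₁Q).ker
    rw [Subgroup.index_ker, d.theta_ker hg₁Q hg₁E, d.range_theta hg₁Q hg₁E,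
      card_subgroupOf_of_le d.Z_le, card_subgroupOf_of_le d.Sd_le, hZQ, hSdQ,
      card_zpowers_of_prime hc1 hcp] at h1
    have h2 := d.card_eq
    have h3 := Subgroup.card_mul_index (Q.subgroupOf S)
    rw [hQi, card_subgroupOf_of_le hQS] at h3
    have h4 : Nat.card S = p ^ 4 := by
      rw [← h3, ← h2, ← h1]
      ring
    rw [h4] at h6
    have h5 : p ^ 4 < p ^ 6 := Nat.pow_lt_pow_right hpp.one_lt (by omega)
    omega
  · push_neg at hgen
    obtain ⟨g₂, hg₂, hind⟩ := hgen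
    exact essential_no_rank_two hS F hF hE hQN hcE hcp hcc hcomm hg₁Q hg₁E hg₂ hind

end fusion

end ExtraIdx
end Cfsg.Agent.Lib.Helper84
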