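import Mathlib
import Cfsg.Prelude.Def_FusionSystem
import Cfsg.Agent.Lib.Helper84.IdxP5

set_option autoImplicit false

/-!
# A core-free saturated system on a `p`-group with a non-essential abelian subgroup of index `p`
-/

namespace Cfsg.Agent.Lib.Helper84
namespace IdxP

open Cfsg Cfsg.FusionSystem

variable {Ω : Type*} [Group Ω] {S : Subgroup Ω} [Finite S] {p : ℕ} [Fact p.Prime] {A : Subgroup Ω}

/-- Oliver's theorem on the index-`p` abelian case: if `A` is not essential and `O_p(F) = 1`, then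
some `Z(S)⟨x⟩` is essential, `Z(S) ≤ S'` and `S` has maximal class. -/
theorem main_structure (d : Data p S A)
    (huniq : ∀ B : Subgroup Ω, B ≤ S → (∀ a ∈ B, ∀ b ∈ B, a * b = b * a) → B.relIndex S = p →
      B = A)
    (F : FusionSystem S) (hF : F.IsSaturated p) (hp2 : p ≠ 2) (hcore : F.core = ⊥)
    (hAe : ¬ F.IsEssential p A) :
    (∃ x ∈ S, x ∉ A ∧ F.IsEssential p (ZS S ⊔ Subgroup.zpowers x)) ∧ ZS S ≤ Sd S ∧
      ∀ n : ℕ, Nat.card S = p ^ n → 3 ≤ n → Subgroup.lowerCentralSeries S (n - 2) ≠ ⊥ := by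
  have hpp : p.Prime := Fact.out
  have hS := d.pgrp
  have hstr := fun (P : Subgroup Ω) (hP : F.IsEssential p P) =>
    essential_structure d huniq F hF hP (fun h => hAe (h ▸ hP))
  have hZP : ∀ P : Subgroup Ω, F.IsEssential p P → ZS S ≤ P := by
    intro P hP z hz
    exact hP.1.2 P (isConj_refl F hP.1.1) (mem_centralizerIn.2
      ⟨(mem_ZS.1 hz).1, fun y hy => (mem_ZS.1 hz).2 y (hP.1.1 hy)⟩)
  -- there is an abelian essential subgroup
  have hex : ∃ P : Subgroup Ω, F.IsEssential p P ∧ ∃ x ∈ P, x ∉ A ∧ P ⊓ A = ZS S ∧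
      ∀ y ∈ P, ∀ y' ∈ P, y * y' = y' * y := by
    by_contra hno
    have hnorm : F.IsNormal (ZS S) := by
      apply isNormal_of_forall_essential p hS F hF
      intro P hP
      rcases hP with hPeq | hP
      · subst hPeq
        exact ⟨inf_le_left, fun α _ y hy => top_aut_mem_ZS α y hy⟩
      · obtain ⟨-, -, -, x, hx, hxA, h | h⟩ := hstr P hP
        · exact absurd ⟨P, hP, x, hx, hxA, h.1, h.2⟩ hno
        · refine ⟨hZP P hP, fun α _ y hy => h.2 _ (α y).2 (fun y' hy' => ?_)⟩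
          have h1 : α⁻¹ ⟨y', hy'⟩ * y = y * α⁻¹ ⟨y', hy'⟩ :=
            Subtype.ext ((mem_ZS.1 hy).2 _ (hP.1.1 (α⁻¹ ⟨y', hy'⟩).2))
          have h2 := congrArg (fun w : P => ((α w : P) : Ω)) h1
          simp only [map_mul, MulAut.apply_inv_self, Subgroup.coe_mul] at h2
          exact h2
    have hle : ZS S ≤ F.core := le_sSup hnorm
    rw [hcore] at hle
    obtain ⟨s, hs, t, ht, hst⟩ := d.na
    haveI : Nontrivial S := ⟨⟨⟨s, hs⟩, ⟨t, ht⟩, fun h => hst (by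
      have h' : s = t := congrArg Subtype.val h
      rw [h'])⟩⟩
    haveI := hS.center_nontrivial
    obtain ⟨z, hz⟩ := exists_ne (1 : Subgroup.center S)
    have hzZ : ((z : S) : Ω) ∈ ZS S := by
      rw [mem_ZS]
      refine ⟨(z : S).2, fun s hs => ?_⟩
      have h1 := Subgroup.mem_center_iff.1 z.2 ⟨s, hs⟩
      exact congrArg Subtype.val h1
    have h1 : ((z : S) : Ω) = 1 := Subgroup.mem_bot.1 (hle hzZ)
    exact hz (Subtype.ext (Subtype.ext h1))
  obtain ⟨P₁, hP₁, x₁, hx₁, hx₁A, hP₁A, hP₁ab⟩ := hex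
  have hP₁S : P₁ ≤ S := hP₁.1.1
  have hx₁S : x₁ ∈ S := hP₁S hx₁
  obtain ⟨-, hZ2A, hK, -⟩ := hstr P₁ hP₁
  have hcard := d.card_Z_inf_Sd hx₁S hx₁A hZ2A hK
  have hfirst : F.IsEssential p (ZS S ⊔ Subgroup.zpowers x₁) := by
    have h1 := d.P_eq_sup hP₁S hx₁ hx₁A
    rw [hP₁A] at h1
    rw [← h1]
    exact hP₁
  -- the reflection attached to `P₁`
  obtain ⟨⟨g₁, hg₁N, hg₁P⟩, Γ₁, ⟨φ₁, hφ₁, hφ₁Γ⟩, hfar₁⟩ := essential_far p hS F hF hP₁
  obtain ⟨β₁, hβ₁, hr₁⟩ := d.exists_refl_of_essential F hF hZ2A hK hP₁.1 hP₁.2.1 hx₁ hx₁A hP₁A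
    hP₁ab hg₁N hg₁P hφ₁ (hfar₁ φ₁ hφ₁ hφ₁Γ)
  -- uniqueness of the fixed space
  have huniqD : ∀ (β : MulAut S) (D' : Subgroup Ω), β ∈ F.autGroup S → IsRefl S β D' →
      D' = Dsub S φ₁ := by
    intro β D' hβ hr
    apply le_antisymm
    · intro y hy
      have hyZ := hr.1 hy
      exact refl_unique F hF hp2 hcard hβ₁ hr₁ hβ hr.2.2.1 (z := ⟨y, (mem_ZS.1 hyZ).1⟩) hyZ
        (hr.2.1 _ hy)
    · intro y hy
      have hyZ := hr₁.1 hy
      exact refl_unique F hF hp2 hcard hβ hr hβ₁ hr₁.2.2.1 (z := ⟨y, (mem_ZS.1 hyZ).1⟩) hyZ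
        (hr₁.2.1 _ hy)
  have hStop : ∀ α ∈ F.autGroup S, ∀ y : S, (y : Ω) ∈ Dsub S φ₁ →
      ((α y : S) : Ω) ∈ Dsub S φ₁ := by
    intro α hα y hy
    have hyZ := hr₁.1 hy
    have hγ : α * β₁ * α⁻¹ ∈ F.autGroup S :=
      Subgroup.mul_mem _ (Subgroup.mul_mem _ hα hβ₁) (Subgroup.inv_mem _ hα)
    refine refl_unique F hF hp2 hcard hβ₁ hr₁ hγ ?_ (top_aut_mem_ZS α y hyZ) ?_
    · intro z₀ hz₀
      have h1 : ((α⁻¹ z₀ : S) : Ω) ∈ ZS S ⊓ Sd S :=
        ⟨top_aut_mem_ZS _ _ hz₀.1, top_aut_mem_Sd _ _ hz₀.2⟩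
      show α (β₁ (α⁻¹ z₀)) = z₀⁻¹
      rw [hr₁.2.2.1 _ h1, map_inv, MulAut.apply_inv_self]
    · show α (β₁ (α⁻¹ (α y))) = α y
      rw [MulAut.inv_apply_self, hr₁.2.1 y hy]
  -- the fixed space is normal in `F`
  have hnormD : F.IsNormal (Dsub S φ₁) := by
    apply isNormal_of_forall_essential p hS F hF
    intro P hP
    rcases hP with hPeq | hP
    · subst hPeq
      exact ⟨hr₁.1.trans inf_le_left, hStop⟩
    · obtain ⟨-, -, -, x, hx, hxA, h | h⟩ := hstr P hP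
      · -- abelian type
        obtain ⟨hPA, hPab⟩ := h
        obtain ⟨⟨g, hgN, hgP⟩, Γ, ⟨φ', hφ', hφ'Γ⟩, hfar⟩ := essential_far p hS F hF hP
        have hDeq : ∀ ψ ∈ F.autGroup P, ψ ∉ Γ → Dsub S ψ = Dsub S φ₁ := by
          intro ψ hψ hψΓ
          obtain ⟨β, hβ, hr⟩ := d.exists_refl_of_essential F hF hZ2A hK hP.1 hP.2.1 hx hxA hPA
            hPab hgN hgP hψ (hfar ψ hψ hψΓ)
          exact huniqD β _ hβ hr
        have hstep : ∀ ψ ∈ F.autGroup P, ψ ∉ Γ → ∀ y : P, (y : Ω) ∈ Dsub S φ₁ →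
            ((ψ y : P) : Ω) ∈ Dsub S φ₁ := by
          intro ψ hψ hψΓ y hy
          have hψinv : ψ⁻¹ ∉ Γ := fun h => hψΓ (by simpa using Γ.inv_mem h)
          have h1 : (y : Ω) ∈ Dsub S ψ⁻¹ := by
            rw [hDeq ψ⁻¹ ((F.autGroup P).inv_mem hψ) hψinv]
            exact hy
          obtain ⟨hyP, hyZ, hψy⟩ := (mem_Dsub ψ⁻¹).1 h1
          rw [inv_inv] at hψy
          rw [← hDeq ψ hψ hψΓ, mem_Dsub]
          refine ⟨(ψ y).2, hψy, ?_⟩
          have h2 : ψ⁻¹ ⟨((ψ y : P) : Ω), (ψ y).2⟩ = y := MulAut.inv_apply_self _ _ _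
          rw [h2]
          exact hyZ
        refine ⟨hr₁.1.trans (hZP P hP), fun α hα y hy => ?_⟩
        by_cases hαΓ : α ∈ Γ
        · have h1 : α * φ' ∉ Γ := fun h => hφ'Γ (by
            have := Γ.mul_mem (Γ.inv_mem hαΓ) h
            simpa using this)
          have h2 : φ'⁻¹ ∉ Γ := fun h => hφ'Γ (by simpa using Γ.inv_mem h)
          have h3 := hstep φ'⁻¹ ((F.autGroup P).inv_mem hφ') h2 y hy
          have h4 := hstep (α * φ') ((F.autGroup P).mul_mem hα hφ') h1 _ h3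
          have h5 : (α * φ') (φ'⁻¹ y) = α y := by
            rw [MulAut.mul_apply, MulAut.apply_inv_self]
          rw [h5] at h4
          exact h4
        · exact hstep α hα hαΓ y hy
      · -- nonabelian type
        obtain ⟨hPA, hPcen⟩ := h
        have hPS : P ≤ S := hP.1.1
        have hna : ∃ y ∈ P, ∃ y' ∈ P, y * y' ≠ y' * y := by
          by_contra hcon
          push_neg at hcon
          exact hxA (d.Z_le (hPcen x hx (fun y' hy' => hcon y' hy' x hx)))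
        have hBig : Big S A P := ⟨hZP P hP, fun h => hxA (h hx), hna⟩
        refine ⟨hr₁.1.trans (hZP P hP), fun α hα y hy => ?_⟩
        obtain ⟨β, hβ, hβz⟩ := d.restrict_center F hF _ P hPS hBig rfl
          (P.subtype.comp α.toMonoidHom) ((mem_autGroup_iff F hPS α).1 hα)
        have hyZ := hr₁.1 hy
        have h1 := hβz y hyZ y.2
        have h2 := hStop β hβ ⟨y, (mem_ZS.1 hyZ).1⟩ hy
        rw [← h1] at h2
        exact h2
  have hDbot : Dsub S φ₁ = ⊥ := by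
    have hle : Dsub S φ₁ ≤ F.core := le_sSup hnormD
    rw [hcore] at hle
    exact le_bot_iff.1 hle
  have hZle : ZS S ≤ ZS S ⊓ Sd S := by
    intro z hz
    obtain ⟨d', hd', z₀, hz₀, hzd⟩ := hr₁.2.2.2 z hz
    rw [hDbot, Subgroup.mem_bot] at hd'
    rw [hzd, hd', one_mul]
    exact hz₀
  have hcardZ : Nat.card (ZS S) = p := by
    have h1 : ZS S ⊓ Sd S = ZS S := le_antisymm inf_le_left hZle
    rw [← h1]
    exact hcard
  refine ⟨⟨x₁, hx₁S, hx₁A, hfirst⟩, hZle.trans inf_le_right, ?_⟩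
  intro n hn h3 hbot
  obtain ⟨k, rfl⟩ : ∃ k, n = k + 3 := ⟨n - 3, by omega⟩
  have h7 : k + 3 - 2 = k + 1 := by omega
  rw [h7] at hbot
  have hle := d.card_le_of_iterate hx₁S hx₁A hZ2A hK k (fun a => by
    have h1 := d.iterate_mem_lcs hx₁S (k + 1) a
    rw [hbot, Subgroup.mem_bot] at h1
    exact Subtype.ext h1)
  rw [hcardZ] at hle
  have h6 := d.card_eq
  rw [hn] at h6
  have h8 : Nat.card A * p ≤ p ^ k * p * p := Nat.mul_le_mul_right p hle
  rw [h6] at h8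
  have h9 : p ^ k * p * p = p ^ (k + 2) := by ring
  rw [h9] at h8
  have h10 : p ^ (k + 2) < p ^ (k + 3) := Nat.pow_lt_pow_right hpp.one_lt (by omega)
  omega

end IdxP
end Cfsg.Agent.Lib.Helper84
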