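import Mathlib
import Cfsg.Prelude.Def_FusionSystem
import Cfsg.Prelude.Def_Transfer
import Cfsg.Agent.Lib.Helper84.ExtraIdx2
import Cfsg.Agent.Lib.Helper84.IdxP6

set_option autoImplicit false

/-!
# Extraspecial subgroups of index `p`: the centre
-/

namespace Cfsg.Agent.Lib.Helper84
namespace ExtraIdx

open Cfsg Cfsg.FusionSystem Cfsg.Agent.Lib.Helper84.IdxP
open scoped commutatorElement

universe u

variable {Ω : Type u} [Group Ω]

theorem Sd_le_of_comm {S C : Subgroup Ω}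
    (h : ∀ s ∈ S, ∀ t ∈ S, s⁻¹ * (t * s * t⁻¹) ∈ C) : Sd S ≤ C := by
  show (commutator ↥S).map S.subtype ≤ C
  rw [Subgroup.map_le_iff_le_comap, commutator_def, Subgroup.commutator_le]
  intro g₁ _ g₂ _
  rw [Subgroup.mem_comap]
  have h1 := h (g₁⁻¹ : S) (S.inv_mem g₁.2) g₂ g₂.2
  have h2 : S.subtype ⁅g₁, g₂⁆ = ((g₁⁻¹ : S) : Ω)⁻¹ * (g₂ * ((g₁⁻¹ : S) : Ω) * (g₂ : Ω)⁻¹) := by
    rw [commutatorElement_def]
    simp only [Subgroup.coe_subtype, Subgroup.coe_mul, Subgroup.coe_inv, inv_inv]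
    group
  rw [h2]
  exact h1

theorem Sd_mono {Q S : Subgroup Ω} (h : Q ≤ S) : Sd Q ≤ Sd S := by
  rintro g ⟨w, hw, rfl⟩
  refine ⟨Subgroup.inclusion h w, ?_, rfl⟩
  have h1 : (commutator ↥Q).map (Subgroup.inclusion h) ≤ commutator ↥S := by
    rw [commutator_def, commutator_def, Subgroup.map_commutator]
    exact Subgroup.commutator_mono le_top le_top
  exact h1 ⟨w, hw, rfl⟩

/-- in a `p`-group an element of order `p` generating a normalized subgroup is central. -/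
theorem central_of_normalized {p : ℕ} [Fact p.Prime] {S : Subgroup Ω} (hS : IsPGroup p S)
    {c : Ω} (hc1 : c ≠ 1) (hcp : c ^ p = 1)
    (hn : ∀ s ∈ S, s * c * s⁻¹ ∈ Subgroup.zpowers c) : ∀ s ∈ S, s * c = c * s := by
  have hpp : p.Prime := Fact.out
  intro s hs
  have hfin : IsOfFinOrder c := isOfFinOrder_iff_pow_eq_one.2 ⟨p, hpp.pos, hcp⟩
  have h1 := hn s hs
  rw [← hfin.mem_powers_iff_mem_zpowers] at h1
  obtain ⟨k, hk⟩ := h1
  have hk' : c ^ k = s * c * s⁻¹ := hk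
  have hit : ∀ n : ℕ, s ^ n * c * (s ^ n)⁻¹ = c ^ (k ^ n) := by
    intro n
    induction n with
    | zero => simp
    | succ n ih =>
      calc s ^ (n + 1) * c * (s ^ (n + 1))⁻¹ = s * (s ^ n * c * (s ^ n)⁻¹) * s⁻¹ := by
            rw [pow_succ']
            group
        _ = s * c ^ (k ^ n) * s⁻¹ := by rw [ih]
        _ = (s * c * s⁻¹) ^ (k ^ n) := by rw [conj_pow]
        _ = c ^ (k ^ (n + 1)) := by rw [← hk', ← pow_mul, pow_succ']
  obtain ⟨m, hm⟩ := hS ⟨s, hs⟩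
  have hm' : s ^ (p ^ m) = 1 := congrArg Subtype.val hm
  have h2 := hit (p ^ m)
  rw [hm', one_mul, inv_one, mul_one] at h2
  have h3 : c ^ 1 = c ^ (k ^ p ^ m) := by rw [pow_one]; exact h2
  rw [pow_eq_pow_iff_modEq, orderOf_eq_prime hcp hc1] at h3
  have h4 : ((1 : ℕ) : ZMod p) = ((k ^ p ^ m : ℕ) : ZMod p) := (ZMod.natCast_eq_natCast_iff _ _ _).2 h3
  rw [Nat.cast_pow, ZMod.pow_card_pow] at h4
  have h5 : 1 ≡ k [MOD p] := (ZMod.natCast_eq_natCast_iff _ _ _).1 h4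
  have h6 : c ^ 1 = c ^ k := by
    rw [pow_eq_pow_iff_modEq, orderOf_eq_prime hcp hc1]
    exact h5
  rw [pow_one, hk'] at h6
  calc s * c = s * c * s⁻¹ * s := by group
    _ = c * s := by rw [← h6]

section idx

variable {p : ℕ} [Fact p.Prime] {S : Subgroup Ω} [Finite S]

theorem normal_of_index_prime (hS : IsPGroup p S) {Q : Subgroup Ω}
    (hQi : (Q.subgroupOf S).index = p) : (Q.subgroupOf S).Normal := by
  have hp : p.Prime := Fact.out
  apply Subgroup.normal_of_index_eq_minFac_card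
  obtain ⟨n, hn⟩ := IsPGroup.iff_card.1 hS
  rw [hQi, hn]
  have hn0 : n ≠ 0 := by
    rintro rfl
    have h1 : (Q.subgroupOf S).index ∣ Nat.card S := Subgroup.index_dvd_card _
    rw [hQi, hn, pow_zero] at h1
    exact hp.one_lt.ne' (Nat.dvd_one.1 h1)
  exact (hp.pow_minFac hn0).symm

theorem exists_mul_pow_of_index (hS : IsPGroup p S) {Q : Subgroup Ω}
    (hQi : (Q.subgroupOf S).index = p) {x : Ω} (hx : x ∈ S) (hxQ : x ∉ Q) {s : Ω}
    (hs : s ∈ S) : ∃ q ∈ Q, ∃ i : ℕ, s = q * x ^ i := by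
  haveI hnorm := normal_of_index_prime hS hQi
  have hcard : Nat.card (↥S ⧸ Q.subgroupOf S) = p := hQi
  have hxb : (QuotientGroup.mk (⟨x, hx⟩ : ↥S) : ↥S ⧸ Q.subgroupOf S) ≠ 1 := by
    intro h
    rw [QuotientGroup.eq_one_iff] at h
    exact hxQ (Subgroup.mem_subgroupOf.1 h)
  have htop := zpowers_eq_top_of_prime_card hcard hxb
  have hmem : (QuotientGroup.mk (⟨s, hs⟩ : ↥S) : ↥S ⧸ Q.subgroupOf S) ∈
      Subgroup.zpowers (QuotientGroup.mk (⟨x, hx⟩ : ↥S) : ↥S ⧸ Q.subgroupOf S) := by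
    rw [htop]
    exact Subgroup.mem_top _
  rw [← mem_powers_iff_mem_zpowers] at hmem
  obtain ⟨i, hi⟩ := hmem
  refine ⟨s * (x ^ i)⁻¹, ?_, i, by group⟩
  have h2 : (QuotientGroup.mk ((⟨s, hs⟩ : ↥S) * (⟨x, hx⟩ ^ i)⁻¹) : ↥S ⧸ Q.subgroupOf S) = 1 := by
    rw [QuotientGroup.mk_mul, QuotientGroup.mk_inv, QuotientGroup.mk_pow]
    rw [← hi]
    exact mul_inv_cancel _
  rw [QuotientGroup.eq_one_iff] at h2
  exact Subgroup.mem_subgroupOf.1 h2

end idx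

section refl

variable {p : ℕ} [Fact p.Prime] {S : Subgroup Ω} [Finite S] {A : Subgroup Ω}

/-- if all commutators of `S` lie in a central subgroup `⟨c₀⟩` of order `p`, an essential abelian
subgroup `A` of index `p` and a "far" automorphism `φ` give a reflection of the centre induced by
an element of `Aut_F(S)`, with fixed space `Dsub S φ`. -/
theorem exists_refl_of_abelian_essential (d : Data p S A) (F : FusionSystem S)
    (hF : F.IsSaturated p) (hAn : F.IsFullyNormalized A)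
    {c₀ : Ω} (hc₀p : c₀ ^ p = 1) (hc₀Z : c₀ ∈ ZS S) (hc₀Sd : c₀ ∈ Sd S)
    (hcommS : ∀ s ∈ S, ∀ t ∈ S, s⁻¹ * (t * s * t⁻¹) ∈ Subgroup.zpowers c₀)
    {g₀ : Ω} (hg₀N : g₀ ∈ normalizerIn S A) (hg₀A : g₀ ∉ A)
    {φ : MulAut A} (hφ : φ ∈ F.autGroup A)
    (hfar : ∀ (g : Ω) (hg : g ∈ normalizerIn S A), g ∉ A →
        ∀ (g' : Ω) (hg' : g' ∈ normalizerIn S A), g' ∉ A →
        ∀ B : Subgroup (MulAut A), IsPGroup p B → conjN S A ⟨g, hg⟩ ∈ B →
          φ * conjN S A ⟨g', hg'⟩ * φ⁻¹ ∈ B → False) :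
    ∃ β ∈ F.autGroup S, IsRefl S β (Dsub S φ) := by
  have hpp : p.Prime := Fact.out
  have hAS : A ≤ S := d.le
  have hg₀S : g₀ ∈ S := normalizerIn_le S A hg₀N
  haveI : Finite A := finite_of_le hAS
  have hAp : IsPGroup p A := d.pgrp.to_le hAS
  have hAN : A ≤ normalizerIn S A := le_normalizerIn hAS
  have hZA : ZS S ≤ A := d.Z_le
  have hSdle : Sd S ≤ Subgroup.zpowers c₀ := Sd_le_of_comm hcommS
  have hZ₀ : ZS S ⊓ Sd S ≤ Subgroup.zpowers c₀ := inf_le_right.trans hSdle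
  have hcA : c₀ ∈ A := hZA hc₀Z
  obtain ⟨c, hc⟩ : ∃ c : A, c = ⟨c₀, hcA⟩ := ⟨_, rfl⟩
  obtain ⟨u, hu⟩ : ∃ u : MulAut A, u = conjN S A ⟨g₀, hg₀N⟩ := ⟨_, rfl⟩
  have hcomm : ∀ a b : A, a * b = b * a := fun a b => Subtype.ext (d.comm a a.2 b b.2)
  have hcZ : c ∈ (ZS S).subgroupOf A := by
    rw [hc]
    exact Subgroup.mem_subgroupOf.2 hc₀Z
  have hcp : c ^ p = 1 := by
    rw [hc]
    exact Subtype.ext hc₀p
  have hcent : ∀ (g : Ω) (hg : g ∈ normalizerIn S A), ∀ z ∈ (ZS S).subgroupOf A,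
      conjN S A ⟨g, hg⟩ z = z := by
    intro g hg z hz
    apply Subtype.ext
    rw [conjN_apply]
    show g * (z : Ω) * g⁻¹ = z
    rw [(mem_ZS.1 (Subgroup.mem_subgroupOf.1 hz)).2 g (normalizerIn_le S A hg), mul_inv_cancel_right]
  have hzpow : Subgroup.zpowers c ≤ (ZS S).subgroupOf A := Subgroup.zpowers_le.2 hcZ
  have htr : ∀ (g : Ω) (hg : g ∈ normalizerIn S A),
      ∀ y : A, y⁻¹ * conjN S A ⟨g, hg⟩ y ∈ Subgroup.zpowers c := by
    intro g hg y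
    have h1 := hcommS y (hAS y.2) g (normalizerIn_le S A hg)
    obtain ⟨k, hk⟩ := Subgroup.mem_zpowers_iff.1 h1
    rw [Subgroup.mem_zpowers_iff]
    refine ⟨k, Subtype.ext ?_⟩
    rw [Subgroup.coe_zpow, hc]
    show c₀ ^ k = (y : Ω)⁻¹ * (g * y * g⁻¹)
    exact hk
  have hu1 : ∀ z ∈ (ZS S).subgroupOf A, u z = z := by
    rw [hu]
    exact hcent g₀ hg₀N
  have hu2 : ∀ y, y⁻¹ * u y ∈ Subgroup.zpowers c := by
    rw [hu]
    exact htr g₀ hg₀N
  have hu3 : ∀ y, u y = y → y ∈ (ZS S).subgroupOf A := by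
    intro y hy
    rw [hu] at hy
    rw [Subgroup.mem_subgroupOf]
    have h1 : g₀ * (y : Ω) * g₀⁻¹ = y := congrArg Subtype.val hy
    have h2 : (y : Ω) * g₀ = g₀ * y := by
      calc (y : Ω) * g₀ = g₀ * y * g₀⁻¹ * g₀ := by rw [h1]
        _ = g₀ * y := by group
    exact d.mem_Z_of_comm hg₀S hg₀A y.2 h2
  have hfar' : ∀ B : Subgroup (MulAut A), IsPGroup p B → u ∈ B → φ * u * φ⁻¹ ∈ B → False := by
    rw [hu]
    exact hfar g₀ hg₀N hg₀A g₀ hg₀N hg₀A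
  have hn1 : φ c ∉ (ZS S).subgroupOf A := by
    intro hφc
    have hle : Subgroup.zpowers (φ c) ≤ (ZS S).subgroupOf A := Subgroup.zpowers_le.2 hφc
    have hu_mem : u ∈ stab3 (Subgroup.zpowers (φ c)) ((ZS S).subgroupOf A) hle := by
      rw [mem_stab3]
      refine ⟨fun y hy => hu1 y (hle hy), fun y hy => ?_, fun y => hzpow (hu2 y)⟩
      rw [hu1 y hy, inv_mul_cancel]
      exact Subgroup.one_mem _
    have hle2 : Subgroup.zpowers c ≤ ((ZS S).subgroupOf A).comap φ.toMonoidHom :=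
      Subgroup.zpowers_le.2 hφc
    have hu_mem2 : u ∈ stab3 (Subgroup.zpowers c) (((ZS S).subgroupOf A).comap φ.toMonoidHom)
        hle2 := by
      rw [mem_stab3]
      exact ⟨fun y hy => hu1 y (hzpow hy), fun y _ => hu2 y, fun y => hle2 (hu2 y)⟩
    have hC : ∀ y, y ∈ Subgroup.zpowers (φ c) ↔ φ⁻¹ y ∈ Subgroup.zpowers c := by
      intro y
      rw [← apply_mem_zpowers_iff φ⁻¹ (φ c) y, MulAut.inv_apply_self]
    have hE : ∀ y, y ∈ (ZS S).subgroupOf A ↔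
        φ⁻¹ y ∈ ((ZS S).subgroupOf A).comap φ.toMonoidHom := by
      intro y
      rw [Subgroup.mem_comap]
      show _ ↔ φ (φ⁻¹ y) ∈ _
      rw [MulAut.apply_inv_self]
    have hconj := stab3_conj hle2 hle hC hE hu_mem2
    exact hfar' _ (isPGroup_stab3 hAp hle) hu_mem hconj
  have hn2 : φ⁻¹ c ∉ (ZS S).subgroupOf A := by
    intro hφc
    have hmapmem : ∀ y, y ∈ ((ZS S).subgroupOf A).map φ.toMonoidHom ↔
        φ⁻¹ y ∈ (ZS S).subgroupOf A := by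
      intro y
      constructor
      · rintro ⟨w, hw, rfl⟩
        have h1 : φ⁻¹ (φ.toMonoidHom w) = w := MulAut.inv_apply_self _ _ _
        rw [h1]
        exact hw
      · intro h
        exact ⟨φ⁻¹ y, h, MulAut.apply_inv_self _ _ _⟩
    have hle : Subgroup.zpowers c ≤ ((ZS S).subgroupOf A).map φ.toMonoidHom :=
      Subgroup.zpowers_le.2 ((hmapmem c).2 hφc)
    have hu_mem : u ∈ stab3 (Subgroup.zpowers c) (((ZS S).subgroupOf A).map φ.toMonoidHom)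
        hle := by
      rw [mem_stab3]
      exact ⟨fun y hy => hu1 y (hzpow hy), fun y _ => hu2 y, fun y => hle (hu2 y)⟩
    have hle2 : Subgroup.zpowers (φ⁻¹ c) ≤ (ZS S).subgroupOf A := Subgroup.zpowers_le.2 hφc
    have hu_mem2 : u ∈ stab3 (Subgroup.zpowers (φ⁻¹ c)) ((ZS S).subgroupOf A) hle2 := by
      rw [mem_stab3]
      refine ⟨fun y hy => hu1 y (hle2 hy), fun y hy => ?_, fun y => hzpow (hu2 y)⟩
      rw [hu1 y hy, inv_mul_cancel]
      exact Subgroup.one_mem _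
    have hC : ∀ y, y ∈ Subgroup.zpowers c ↔ φ⁻¹ y ∈ Subgroup.zpowers (φ⁻¹ c) :=
      fun y => (apply_mem_zpowers_iff φ⁻¹ c y).symm
    have hconj := stab3_conj hle2 hle hC hmapmem hu_mem2
    exact hfar' _ (isPGroup_stab3 hAp hle) hu_mem hconj
  -- the reflection on `A`
  obtain ⟨τ, hτcl, hτc, hτfix, hτZ, hdec⟩ :=
    exists_reflection hcomm hpp ((ZS S).subgroupOf A) hcZ hcp u φ hu1 hu2 hu3 hn1 hn2
  have huA : u ∈ F.autGroup A := by
    rw [hu]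
    apply autInducedBy_le_autGroup F hAS
    rw [autInducedBy_eq_range]
    exact ⟨_, rfl⟩
  have hτA : τ ∈ F.autGroup A := by
    have hle : Subgroup.closure ({u, φ * u * φ⁻¹} : Set (MulAut A)) ≤ F.autGroup A := by
      rw [Subgroup.closure_le]
      intro w hw
      rcases hw with hw | hw
      · rw [hw]
        exact huA
      · rw [Set.mem_singleton_iff] at hw
        rw [hw]
        exact Subgroup.mul_mem _ (Subgroup.mul_mem _ hφ huA) (Subgroup.inv_mem _ hφ)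
    exact hle hτcl
  -- `τ` commutes with `Aut_S(A)`
  have hτcomm : ∀ (g : Ω) (hg : g ∈ normalizerIn S A) (y : A),
      τ (conjN S A ⟨g, hg⟩ y) = conjN S A ⟨g, hg⟩ (τ y) := fun g hg y =>
    refl_comm hcomm ((ZS S).subgroupOf A) hτc hτZ (hcent g hg) (htr g hg) y
  have hNext : normalizerIn S A ≤ extender S A (A.subtype.comp τ.toMonoidHom) := by
    intro g hg
    rw [mem_extender_iff]
    refine ⟨(mem_normalizerIn.1 hg).1, (Subgroup.mem_inf.1 hg).2, g, (mem_normalizerIn.1 hg).1,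
      fun y hy => ?_⟩
    have h1 := hτcomm g hg y
    have h2 : (⟨g * (y : Ω) * g⁻¹, hy⟩ : A) = conjN S A ⟨g, hg⟩ y :=
      Subtype.ext (by rw [conjN_apply])
    rw [h2]
    show ((τ (conjN S A ⟨g, hg⟩ y) : A) : Ω) = g * ((τ y : A) : Ω) * g⁻¹
    rw [h1, conjN_apply]
  have hτF : A.subtype.comp τ.toMonoidHom ∈ F.Hom A := (mem_autGroup_iff F hAS τ).1 hτA
  have hrec := receptive_of_fullyCentralized p d.pgrp F hF
    (fullyCentralized_of_fullyNormalized p d.pgrp F hF hAn)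
  obtain ⟨χ, hχ, hχτ⟩ := hrec.2 A _ hτF (IsFIso.range F (e := τ) hτF)
  have hextS : extender S A (A.subtype.comp τ.toMonoidHom) ≤ S :=
    (extender_le_normalizerIn S A _).trans (normalizerIn_le S A)
  have hSN : S ≤ normalizerIn S A := by
    have h1 := d.normalizer_eq
    intro s hs
    show s ∈ S ⊓ Subgroup.normalizer (A : Set Ω)
    rw [h1]
    exact hs
  obtain ⟨s₁, hs₁, t₁, ht₁, hst₁⟩ := d.na
  have hBig : Big S A (extender S A (A.subtype.comp τ.toMonoidHom)) :=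
    ⟨fun z hz => hNext (hAN (hZA hz)), fun h => hg₀A (h (hNext hg₀N)), s₁, hNext (hSN hs₁), t₁,
      hNext (hSN ht₁), hst₁⟩
  obtain ⟨β, hβ, hβz⟩ := d.restrict_center F hF _ _ hextS hBig rfl χ hχ
  have hβτ : ∀ (z : Ω) (hz : z ∈ ZS S),
      ((β ⟨z, (mem_ZS.1 hz).1⟩ : S) : Ω) = ((τ ⟨z, hZA hz⟩ : A) : Ω) := by
    intro z hz
    rw [← hβz z hz (hNext (hAN (hZA hz))), hχτ z (hZA hz)]
    rfl
  refine ⟨β, hβ, ?_, ?_, ?_, ?_⟩
  · intro g hg
    obtain ⟨-, h, -⟩ := (mem_Dsub φ).1 hg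
    exact h
  · intro z hz
    obtain ⟨hzP, hzZ, hzφ⟩ := (mem_Dsub φ).1 hz
    apply Subtype.ext
    have h1 := hβτ z hzZ
    have h2 : τ ⟨(z : Ω), hZA hzZ⟩ = ⟨(z : Ω), hZA hzZ⟩ :=
      hτfix _ (Subgroup.mem_subgroupOf.2 hzZ) (Subgroup.mem_subgroupOf.2 hzφ)
    rw [h2] at h1
    exact h1
  · intro z hz
    obtain ⟨k, hk⟩ := Subgroup.mem_zpowers_iff.1 (hZ₀ hz)
    apply Subtype.ext
    have h1 := hβτ z hz.1
    have h2 : (⟨(z : Ω), hZA hz.1⟩ : A) = c ^ k := by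
      rw [hc]
      exact Subtype.ext hk.symm
    rw [h2, map_zpow, hτc, inv_zpow, ← h2] at h1
    exact h1
  · intro z hz
    obtain ⟨d', hd', hφd', i, hzd⟩ := hdec ⟨z, hZA hz⟩ (Subgroup.mem_subgroupOf.2 hz)
    refine ⟨(d' : Ω), (mem_Dsub φ).2 ⟨d'.2, Subgroup.mem_subgroupOf.1 hd',
      Subgroup.mem_subgroupOf.1 hφd'⟩, c₀ ^ i,
      Subgroup.pow_mem (ZS S ⊓ Sd S) (Subgroup.mem_inf.2 ⟨hc₀Z, hc₀Sd⟩) i, ?_⟩
    have h1 := congrArg Subtype.val hzd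
    rw [hc] at h1
    exact h1

end refl

section main

variable {p : ℕ} [Fact p.Prime] {S : Subgroup Ω} [Finite S]

/-- if all commutators of `S` lie in a central subgroup `⟨c⟩` of order `p`, every essential
subgroup is abelian of index `p`. -/
theorem data_of_essential (hS : IsPGroup p S) (F : FusionSystem S) (hF : F.IsSaturated p)
    {c : Ω} (hcp : c ^ p = 1) (hcZ : c ∈ ZS S)
    (hcommS : ∀ s ∈ S, ∀ t ∈ S, s⁻¹ * (t * s * t⁻¹) ∈ Subgroup.zpowers c)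
    {E : Subgroup Ω} (hE : F.IsEssential p E) : Data p S E := by
  have hpp : p.Prime := Fact.out
  have hES : E ≤ S := hE.1.1
  haveI : Finite E := finite_of_le hES
  have hC : centralizerIn S E ≤ E := hE.1.2 E (isConj_refl F hES)
  have hZE : ZS S ≤ E := by
    intro z hz
    exact hC (mem_centralizerIn.2 ⟨(mem_ZS.1 hz).1, fun y hy => (mem_ZS.1 hz).2 y (hES hy)⟩)
  have hcE : c ∈ E := hZE hcZ
  have hzE : Subgroup.zpowers c ≤ E := Subgroup.zpowers_le.2 hcE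
  have hcc : ∀ g ∈ S, g * c = c * g := (mem_ZS.1 hcZ).2
  have hcomm : ∀ g ∈ S, ∀ y ∈ E, y⁻¹ * (g * y * g⁻¹) ∈ Subgroup.zpowers c :=
    fun g hg y hy => hcommS y (hES hy) g hg
  have hEn : ∀ g ∈ S, ∀ y ∈ E, g * y * g⁻¹ ∈ E := by
    intro g hg y hy
    have h1 : g * y * g⁻¹ = y * (y⁻¹ * (g * y * g⁻¹)) := by group
    rw [h1]
    exact E.mul_mem hy (hzE (hcomm g hg y hy))
  have hSN : S ≤ normalizerIn S E := by
    intro g hg
    exact Subgroup.mem_inf.2 ⟨hg, mem_normalizer_of_finite_of_conj_mem (fun y hy => hEn g hg y hy)⟩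
  obtain ⟨⟨g₁, hg₁N, hg₁E⟩, -⟩ := essential_far p hS F hF hE
  have hg₁S : g₁ ∈ S := normalizerIn_le S E hg₁N
  have hEab : ∀ y ∈ E, ∀ y' ∈ E, y * y' = y' * y :=
    essential_abelian_of_chain hS F hF hE hSN hcE hcp hcc hcomm
      (fun y hy y' hy' => hcommS y (hES hy) y' (hES hy')) hg₁S hg₁E
  have hgen : ∀ g₂ ∈ S, ∃ e ∈ E, ∃ i : ℕ, g₂ = e * g₁ ^ i := by
    intro g₂ hg₂
    by_contra hcon
    push_neg at hcon
    exact essential_no_rank_two hS F hF hE hSN hcE hcp hcc hcomm hg₁S hg₁E hg₂ hcon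
  have hg₁p : g₁ ^ p ∈ E := by
    apply hC
    rw [mem_centralizerIn]
    refine ⟨S.pow_mem hg₁S p, fun y hy => ?_⟩
    have hfin : IsOfFinOrder c := isOfFinOrder_iff_pow_eq_one.2 ⟨p, hpp.pos, hcp⟩
    have h2 := hcomm g₁ hg₁S y hy
    rw [← hfin.mem_powers_iff_mem_zpowers] at h2
    obtain ⟨k, hk⟩ := h2
    have hk' : c ^ k = y⁻¹ * (g₁ * y * g₁⁻¹) := hk
    have h3 : g₁ * y = y * c ^ k * g₁ := by
      rw [hk']
      group
    have h4 : g₁ * c ^ k = c ^ k * g₁ :=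
      (Commute.pow_right (show Commute g₁ c from hcc g₁ hg₁S) k).eq
    have h5 := pow_conj_eq h3 h4 p
    rw [← pow_mul, mul_comm k p, pow_mul, hcp, one_pow, mul_one] at h5
    exact h5.symm
  refine ⟨hS, hES, hEab, relIndex_eq_prime_of_gen hEn hg₁S hg₁E hg₁p hgen, ?_⟩
  by_contra hcon
  push_neg at hcon
  exact hg₁E (hC (mem_centralizerIn.2 ⟨hg₁S, fun y hy => hcon y (hES hy) g₁ hg₁S⟩))

/-- if `S` has an extraspecial subgroup `Q` of index `p` (`p` odd) and `O_p(F) = 1`, then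
`Z(S) = Z(Q)`. -/
theorem center_eq_of_extraspecial_index (hp2 : p ≠ 2) (hS : IsPGroup p S) {Q : Subgroup Ω}
    (hQS : Q ≤ S) (hQ : IsExtraspecial p ↥Q) (hQi : (Q.subgroupOf S).index = p)
    (F : FusionSystem S) (hF : F.IsSaturated p) (hO : F.core = ⊥) : ZS S = ZS Q := by
  have hpp : p.Prime := Fact.out
  haveI : Finite Q := finite_of_le hQS
  obtain ⟨c, hcQ, hc1, hcp, hcc, hcommQ, hcen, hcSd⟩ := extraspecial_gen hQ
  haveI hQn := normal_of_index_prime hS hQi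
  -- `c` is central in `S`
  have hcS : ∀ s ∈ S, s * c = c * s := by
    apply central_of_normalized hS hc1 hcp
    intro s hs
    have h1 : s * c * s⁻¹ ∈ Q := by
      have h := hQn.conj_mem ⟨c, hQS hcQ⟩ (Subgroup.mem_subgroupOf.2 hcQ) ⟨s, hs⟩
      exact Subgroup.mem_subgroupOf.1 h
    apply hcen _ h1
    intro q hq
    have h2 : s⁻¹ * q * s ∈ Q := by
      have h := hQn.conj_mem ⟨q, hQS hq⟩ (Subgroup.mem_subgroupOf.2 hq) ⟨s⁻¹, S.inv_mem hs⟩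
      have h3 := Subgroup.mem_subgroupOf.1 h
      simpa using h3
    have h4 := hcc _ h2
    calc q * (s * c * s⁻¹) = s * ((s⁻¹ * q * s) * c) * s⁻¹ := by group
      _ = s * (c * (s⁻¹ * q * s)) * s⁻¹ := by rw [h4]
      _ = s * c * s⁻¹ * q := by group
  have hcZ : c ∈ ZS S := mem_ZS.2 ⟨hQS hcQ, hcS⟩
  have hZQ : ZS Q = Subgroup.zpowers c := by
    apply le_antisymm
    · intro z hz
      exact hcen z (mem_ZS.1 hz).1 (mem_ZS.1 hz).2
    · exact Subgroup.zpowers_le.2 (mem_ZS.2 ⟨hcQ, hcc⟩)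
  apply le_antisymm
  swap
  · rw [hZQ]
    exact Subgroup.zpowers_le.2 hcZ
  by_contra hnle
  obtain ⟨z, hzZ, hzQ⟩ : ∃ z ∈ ZS S, z ∉ Q := by
    by_contra hcon
    push_neg at hcon
    exact hnle (fun z hz => mem_ZS.2 ⟨hcon z hz, fun q hq => (mem_ZS.1 hz).2 q (hQS hq)⟩)
  obtain ⟨hzS, hzc⟩ := mem_ZS.1 hzZ
  have key : ∀ g ∈ S, ∀ n : ℕ, g * z ^ n = z ^ n * g := fun g hg n =>
    (Commute.pow_right (show Commute g z from hzc g hg) n).eq
  have hcommS : ∀ s ∈ S, ∀ t ∈ S, s⁻¹ * (t * s * t⁻¹) ∈ Subgroup.zpowers c := by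
    intro s hs t ht
    obtain ⟨q, hq, i, rfl⟩ := exists_mul_pow_of_index hS hQi hzS hzQ hs
    obtain ⟨q', hq', j, rfl⟩ := exists_mul_pow_of_index hS hQi hzS hzQ ht
    have hw : q⁻¹ * q' * q ∈ S :=
      S.mul_mem (S.mul_mem (S.inv_mem (hQS hq)) (hQS hq')) (hQS hq)
    have e : (q * z ^ i)⁻¹ * (q' * z ^ j * (q * z ^ i) * (q' * z ^ j)⁻¹) =
        q⁻¹ * (q' * q * q'⁻¹) := by
      calc (q * z ^ i)⁻¹ * (q' * z ^ j * (q * z ^ i) * (q' * z ^ j)⁻¹)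
          = (z ^ i)⁻¹ * q⁻¹ * q' * (z ^ j * q) * z ^ i * (z ^ j)⁻¹ * q'⁻¹ := by group
        _ = (z ^ i)⁻¹ * q⁻¹ * q' * (q * z ^ j) * z ^ i * (z ^ j)⁻¹ * q'⁻¹ := by
            rw [← key q (hQS hq) j]
        _ = (z ^ i)⁻¹ * (q⁻¹ * q' * q) * (z ^ j * z ^ i) * (z ^ j)⁻¹ * q'⁻¹ := by group
        _ = (z ^ i)⁻¹ * (q⁻¹ * q' * q) * (z ^ i * z ^ j) * (z ^ j)⁻¹ * q'⁻¹ := by
            rw [key (z ^ j) (S.pow_mem hzS j) i]
        _ = (z ^ i)⁻¹ * ((q⁻¹ * q' * q) * z ^ i) * q'⁻¹ := by group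
        _ = (z ^ i)⁻¹ * (z ^ i * (q⁻¹ * q' * q)) * q'⁻¹ := by rw [key (q⁻¹ * q' * q) hw i]
        _ = q⁻¹ * (q' * q * q'⁻¹) := by group
    rw [e]
    exact hcommQ q hq q' hq'
  have hcSdS : c ∈ Sd S := Sd_mono hQS hcSd
  have hSdle : Sd S ≤ Subgroup.zpowers c := Sd_le_of_comm hcommS
  have hZSd : ZS S ⊓ Sd S = Subgroup.zpowers c :=
    le_antisymm (inf_le_right.trans hSdle)
      (Subgroup.zpowers_le.2 (Subgroup.mem_inf.2 ⟨hcZ, hcSdS⟩))
  have hcard : Nat.card ↥(ZS S ⊓ Sd S) = p := by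
    rw [hZSd]
    exact card_zpowers_of_prime hc1 hcp
  -- `Z(S)` is not normal in `F`
  have hZnn : ¬ F.IsNormal (ZS S) := by
    intro hn
    have hle : ZS S ≤ F.core := le_sSup hn
    rw [hO] at hle
    exact hc1 (Subgroup.mem_bot.1 (hle hcZ))
  -- there is an essential subgroup
  have hex : ∃ E : Subgroup Ω, F.IsEssential p E := by
    by_contra hno
    apply hZnn
    apply isNormal_of_forall_essential p hS F hF
    intro P hP
    rcases hP with hPeq | hP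
    · subst hPeq
      exact ⟨inf_le_left, fun α _ y hy => top_aut_mem_ZS α y hy⟩
    · exact absurd ⟨P, hP⟩ hno
  obtain ⟨E₁, hE₁⟩ := hex
  have hdata := fun (E : Subgroup Ω) (hE : F.IsEssential p E) =>
    data_of_essential hS F hF hcp hcZ hcommS hE
  obtain ⟨⟨g₁, hg₁N, hg₁E⟩, Γ₁, ⟨φ₁, hφ₁, hφ₁Γ⟩, hfar₁⟩ := essential_far p hS F hF hE₁
  obtain ⟨β₁, hβ₁, hr₁⟩ := exists_refl_of_abelian_essential (hdata E₁ hE₁) F hF hE₁.2.1 hcp hcZ
    hcSdS hcommS hg₁N hg₁E hφ₁ (hfar₁ φ₁ hφ₁ hφ₁Γ)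
  -- uniqueness of the fixed space
  have huniqD : ∀ (β : MulAut S) (D' : Subgroup Ω), β ∈ F.autGroup S → IsRefl S β D' →
      D' = Dsub S φ₁ := by
    intro β D' hβ hr
    apply le_antisymm
    · intro y hy
      have hyZ := hr.1 hy
      exact refl_unique F hF hp2 hcard hβ₁ hr₁ hβ hr.2.2.1 (z := ⟨y, (mem_ZS.1 hyZ).1⟩) hyZ
        (hr.2.1 _ hy)
    · intro y hy
      have hyZ := hr₁.1 hy
      exact refl_unique F hF hp2 hcard hβ hr hβ₁ hr₁.2.2.1 (z := ⟨y, (mem_ZS.1 hyZ).1⟩) hyZ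
        (hr₁.2.1 _ hy)
  have hStop : ∀ α ∈ F.autGroup S, ∀ y : S, (y : Ω) ∈ Dsub S φ₁ →
      ((α y : S) : Ω) ∈ Dsub S φ₁ := by
    intro α hα y hy
    have hyZ := hr₁.1 hy
    have hγ : α * β₁ * α⁻¹ ∈ F.autGroup S :=
      Subgroup.mul_mem _ (Subgroup.mul_mem _ hα hβ₁) (Subgroup.inv_mem _ hα)
    refine refl_unique F hF hp2 hcard hβ₁ hr₁ hγ ?_ (top_aut_mem_ZS α y hyZ) ?_
    · intro z₀ hz₀
      have h1 : ((α⁻¹ z₀ : S) : Ω) ∈ ZS S ⊓ Sd S :=
        ⟨top_aut_mem_ZS _ _ hz₀.1, top_aut_mem_Sd _ _ hz₀.2⟩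
      show α (β₁ (α⁻¹ z₀)) = z₀⁻¹
      rw [hr₁.2.2.1 _ h1, map_inv, MulAut.apply_inv_self]
    · show α (β₁ (α⁻¹ (α y))) = α y
      rw [MulAut.inv_apply_self, hr₁.2.1 y hy]
  -- the fixed space is normal in `F`
  have hnormD : F.IsNormal (Dsub S φ₁) := by
    apply isNormal_of_forall_essential p hS F hF
    intro P hP
    rcases hP with hPeq | hP
    · subst hPeq
      exact ⟨hr₁.1.trans inf_le_left, hStop⟩
    · have hZP : ZS S ≤ P := (hdata P hP).Z_le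
      obtain ⟨⟨g, hgN, hgP⟩, Γ, ⟨φ', hφ', hφ'Γ⟩, hfar⟩ := essential_far p hS F hF hP
      have hDeq : ∀ ψ ∈ F.autGroup P, ψ ∉ Γ → Dsub S ψ = Dsub S φ₁ := by
        intro ψ hψ hψΓ
        obtain ⟨β, hβ, hr⟩ := exists_refl_of_abelian_essential (hdata P hP) F hF hP.2.1 hcp hcZ
          hcSdS hcommS hgN hgP hψ (hfar ψ hψ hψΓ)
        exact huniqD β _ hβ hr
      have hstep : ∀ ψ ∈ F.autGroup P, ψ ∉ Γ → ∀ y : P, (y : Ω) ∈ Dsub S φ₁ →
          ((ψ y : P) : Ω) ∈ Dsub S φ₁ := by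
        intro ψ hψ hψΓ y hy
        have hψinv : ψ⁻¹ ∉ Γ := fun h => hψΓ (by simpa using Γ.inv_mem h)
        have h1 : (y : Ω) ∈ Dsub S ψ⁻¹ := by
          rw [hDeq ψ⁻¹ ((F.autGroup P).inv_mem hψ) hψinv]
          exact hy
        obtain ⟨hyP, hyZ, hψy⟩ := (mem_Dsub ψ⁻¹).1 h1
        rw [inv_inv] at hψy
        rw [← hDeq ψ hψ hψΓ, mem_Dsub]
        refine ⟨(ψ y).2, hψy, ?_⟩
        have h2 : ψ⁻¹ ⟨((ψ y : P) : Ω), (ψ y).2⟩ = y := MulAut.inv_apply_self _ _ _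
        rw [h2]
        exact hyZ
      refine ⟨hr₁.1.trans hZP, fun α hα y hy => ?_⟩
      by_cases hαΓ : α ∈ Γ
      · have h1 : α * φ' ∉ Γ := fun h => hφ'Γ (by
          have := Γ.mul_mem (Γ.inv_mem hαΓ) h
          simpa using this)
        have h2 : φ'⁻¹ ∉ Γ := fun h => hφ'Γ (by simpa using Γ.inv_mem h)
        have h3 := hstep φ'⁻¹ ((F.autGroup P).inv_mem hφ') h2 y hy
        have h4 := hstep (α * φ') ((F.autGroup P).mul_mem hα hφ') h1 _ h3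
        have h5 : (α * φ') (φ'⁻¹ y) = α y := by
          rw [MulAut.mul_apply, MulAut.apply_inv_self]
        rw [h5] at h4
        exact h4
      · exact hstep α hα hαΓ y hy
  have hDbot : Dsub S φ₁ = ⊥ := by
    have hle : Dsub S φ₁ ≤ F.core := le_sSup hnormD
    rw [hO] at hle
    exact le_bot_iff.1 hle
  have hZle : ZS S ≤ ZS S ⊓ Sd S := by
    intro z' hz'
    obtain ⟨d', hd', z₀, hz₀, hzd⟩ := hr₁.2.2.2 z' hz'
    rw [hDbot, Subgroup.mem_bot] at hd'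
    rw [hzd, hd', one_mul]
    exact hz₀
  have hzc' : z ∈ Subgroup.zpowers c := by
    rw [← hZSd]
    exact hZle hzZ
  exact hzQ (Subgroup.zpowers_le.2 hcQ hzc')

end main

end ExtraIdx
end Cfsg.Agent.Lib.Helper84
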