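import Mathlib
import Cfsg.Prelude.Def_FusionSystem
import Cfsg.Agent.Lib.Helper86.PPower

set_option autoImplicit false

/-!
# Subsystems of `p`-power index: reduction to the case of index `p`

If every saturated fusion system has a saturated subsystem of `p`-power index over every subgroup
of index `p` containing the hyperfocal subgroup, then it has a unique one over every subgroup
containing the hyperfocal subgroup.
-/

namespace Cfsg.Agent.Lib.Helper84.PChain

open Cfsg Cfsg.FusionSystem

variable {Ω : Type*} [Group Ω]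

/-- transitivity of `p`-power index. -/
theorem hasPPowerIndexIn_trans {S M T : Subgroup Ω} (p : ℕ) (F : FusionSystem S)
    (E : FusionSystem M) (D : FusionSystem T) (hE : E.HasPPowerIndexIn F p)
    (hD : D.HasPPowerIndexIn E p) (hT : F.hyperfocalSubgroup p ≤ T) :
    D.HasPPowerIndexIn F p := by
  refine ⟨fun P => (hD.1 P).trans (hE.1 P), hT, ?_⟩
  intro P hPT
  have hTM : T ≤ M := Helper86.subsystem_le D E hD.1
  have h1 := hE.2.2 P (hPT.trans hTM)
  have h2 := Helper86.pResidual_map_le_of_le p h1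
  exact h2.trans (hD.2.2 P hPT)

/-- a proper subgroup of a finite `p`-group lies in a subgroup of index `p`. -/
theorem exists_index_p {p : ℕ} [Fact p.Prime] {S : Subgroup Ω} [Finite S] (hS : IsPGroup p S)
    {T : Subgroup Ω} (hTS : T ≤ S) (hne : T ≠ S) :
    ∃ M : Subgroup Ω, T ≤ M ∧ M ≤ S ∧ Nat.card S = p * Nat.card M := by
  have hp : p.Prime := Fact.out
  obtain ⟨k, hk⟩ := (IsPGroup.iff_card).1 hS
  have hTp : IsPGroup p (T.subgroupOf S) := hS.to_subgroup _
  obtain ⟨n, hn⟩ := (IsPGroup.iff_card).1 hTp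
  have hlt : n < k := by
    by_contra hcon
    push_neg at hcon
    apply hne
    have h1 : Nat.card (T.subgroupOf S) ≤ Nat.card S := Subgroup.card_le_card_group _
    have h2 : p ^ k ≤ p ^ n := Nat.pow_le_pow_right hp.pos hcon
    have h3 : Nat.card (T.subgroupOf S) = Nat.card S := by rw [hn, hk] at *; omega
    have h4 : T.subgroupOf S = ⊤ := Subgroup.eq_top_of_card_eq _ h3
    exact le_antisymm hTS (Subgroup.subgroupOf_eq_top.1 h4)
  obtain ⟨K, hK, hTK⟩ := Sylow.exists_subgroup_card_pow_prime_le p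
    (show p ^ (k - 1) ∣ Nat.card S by rw [hk]; exact pow_dvd_pow p (Nat.sub_le k 1))
    (T.subgroupOf S) hn (by omega)
  refine ⟨K.map S.subtype, ?_, ?_, ?_⟩
  · intro x hx
    exact ⟨⟨x, hTS hx⟩, hTK (Subgroup.mem_subgroupOf.2 hx), rfl⟩
  · rintro _ ⟨y, -, rfl⟩
    exact y.2
  · have h1 : Nat.card (K.map S.subtype) = Nat.card K :=
      Nat.card_congr (K.equivMapOfInjective S.subtype S.subtype_injective).toEquiv.symm
    rw [h1, hK, hk]
    have : k = (k - 1) + 1 := by omega
    conv_lhs => rw [this, pow_succ]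
    ring

theorem exists_aux (p : ℕ) [Fact p.Prime]
    (H : ∀ (S : Subgroup Ω) [Finite S], IsPGroup p S → ∀ F : FusionSystem S, F.IsSaturated p →
      ∀ M : Subgroup Ω, M ≤ S → Nat.card S = p * Nat.card M → F.hyperfocalSubgroup p ≤ M →
      ∃ E : FusionSystem M, E.IsSaturated p ∧ E.HasPPowerIndexIn F p) :
    ∀ n : ℕ, ∀ (S : Subgroup Ω) [Finite S], Nat.card S = n → IsPGroup p S →
      ∀ F : FusionSystem S, F.IsSaturated p → ∀ T : Subgroup Ω, T ≤ S →
      F.hyperfocalSubgroup p ≤ T → ∃ E : FusionSystem T, E.IsSaturated p ∧ E.HasPPowerIndexIn F p := by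
  intro n
  induction n using Nat.strong_induction_on with
  | _ n ih =>
    intro S _ hn hS F hF T hTS hT
    by_cases hne : T = S
    · subst hne
      exact ⟨F, hF, Helper86.hasPPowerIndexIn_self F p⟩
    · have hp : p.Prime := Fact.out
      obtain ⟨M, hTM, hMS, hcard⟩ := exists_index_p hS hTS hne
      obtain ⟨E, hEsat, hEidx⟩ := H S hS F hF M hMS hcard (hT.trans hTM)
      have hfinM : Finite M := Finite.of_injective _ (Subgroup.inclusion_injective hMS)
      have hMpos : 0 < Nat.card M := Nat.card_pos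
      have hlt : Nat.card M < n := by
        rw [← hn, hcard]
        have := hp.two_le
        nlinarith
      have hhyp : E.hyperfocalSubgroup p ≤ T :=
        (Helper86.hyperfocal_le_of_subsystem E F hEidx.1 p).trans hT
      obtain ⟨D, hDsat, hDidx⟩ := ih (Nat.card M) hlt M rfl (hS.to_le hMS) E hEsat T hTM hhyp
      exact ⟨D, hDsat, hasPPowerIndexIn_trans p F E D hEidx hDidx hT⟩

/-- existence and uniqueness of the saturated subsystem of `p`-power index over `T`, from the
existence in the case of index `p`. -/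
theorem main (p : ℕ) [Fact p.Prime]
    (H : ∀ (S : Subgroup Ω) [Finite S], IsPGroup p S → ∀ F : FusionSystem S, F.IsSaturated p →
      ∀ M : Subgroup Ω, M ≤ S → Nat.card S = p * Nat.card M → F.hyperfocalSubgroup p ≤ M →
      ∃ E : FusionSystem M, E.IsSaturated p ∧ E.HasPPowerIndexIn F p)
    {S : Subgroup Ω} [Finite S] (hS : IsPGroup p S) (F : FusionSystem S) (hF : F.IsSaturated p)
    (T : Subgroup Ω) (hTS : T ≤ S) (hT : F.hyperfocalSubgroup p ≤ T) :
    ∃ E : FusionSystem T, (E.IsSaturated p ∧ E.HasPPowerIndexIn F p) ∧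
      ∀ E' : FusionSystem T, E'.IsSaturated p → E'.HasPPowerIndexIn F p → E' = E := by
  obtain ⟨E, hEsat, hEidx⟩ := exists_aux p H (Nat.card S) S rfl hS F hF T hTS hT
  exact ⟨E, ⟨hEsat, hEidx⟩, fun E' h1 h2 => Helper86.eq_of_hasPPowerIndexIn hS F E' E h1 hEsat h2 hEidx⟩

end Cfsg.Agent.Lib.Helper84.PChain
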